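import Cfsg.Agent.H795.AbSyl

/-!
# S5303 from `AbIrr`

`irr_main` : the conclusion of S5303 for a finite nonabelian simple group `G` with `AbIrr p G`.
-/

set_option autoImplicit false

namespace Cfsg.Agent.H794.IrrMain

open Subgroup Cfsg.Agent.H795

variable {G : Type*} [Group G] [Finite G] [IsSimpleGroup G] {p : ℕ} [hp : Fact p.Prime]

/-- The normaliser of an abelian Sylow subgroup does not act trivially. -/
theorem exists_ne (hG : ¬ IsMulCommutative G) (S : Sylow p G) (hS : (S : Subgroup G) ≠ ⊥)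
    (hab : IsMulCommutative (S : Subgroup G)) :
    ∃ n ∈ normalizer ((S : Subgroup G) : Set G), ∃ x ∈ (S : Subgroup G), n * x * n⁻¹ ≠ x := by
  by_contra hcon
  push Not at hcon
  have hle : normalizer ((S : Subgroup G) : Set G) ≤ centralizer ((S : Subgroup G) : Set G) := by
    intro n hn
    rw [mem_centralizer_iff]
    intro x hx
    have h1 := hcon n hn x hx
    calc x * n = (n * x * n⁻¹) * n := by rw [h1]
      _ = n * x := by group
  have h1 := MonoidHom.ker_transferSylow_isComplement' S hle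
  have hnor : (MonoidHom.transferSylow S hle).ker.Normal := inferInstance
  rcases hnor.eq_bot_or_eq_top with h2 | h2
  · rw [h2, isComplement'_bot_left] at h1
    apply hG
    refine ⟨⟨fun a b => comm_of hab (by rw [h1]; trivial) (by rw [h1]; trivial)⟩⟩
  · rw [h2, isComplement'_top_left] at h1
    exact hS h1

theorem irr_main (hG : ¬ IsMulCommutative G) (h : AbIrr p G) (S : Sylow p G)
    (hS : (S : Subgroup G) ≠ ⊥) (hab : IsMulCommutative (S : Subgroup G)) (Ω : Subgroup G)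
    (hΩ : ∀ x : G, x ∈ Ω ↔ x ∈ (S : Subgroup G) ∧ x ^ p = 1) :
    (∀ B : Subgroup G, B ≤ Ω → (∀ n ∈ Subgroup.normalizer ((S : Subgroup G) : Set G), ∀ b ∈ B, n * b * n⁻¹ ∈ B) →
      B = ⊥ ∨ B = Ω) ∧
    (∃ n ∈ Subgroup.normalizer ((S : Subgroup G) : Set G), ∃ x ∈ Ω, n * x * n⁻¹ ≠ x) ∧
    ∃ k e : ℕ, Nonempty (↥(S : Subgroup G) ≃* (Fin k → Multiplicative (ZMod (p ^ e)))) := by
  refine ⟨fun B hB hn => ?_, ?_, ?_⟩
  · rcases h S hab B (fun x hx => ((hΩ x).1 (hB hx)).1) (fun x hx => ((hΩ x).1 (hB hx)).2) hn with h1 | h1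
    · exact Or.inl h1
    · exact Or.inr (le_antisymm hB fun x hx => h1 x ((hΩ x).1 hx).1 ((hΩ x).1 hx).2)
  · by_contra hcon
    push Not at hcon
    obtain ⟨n, hn, x, hx, hne⟩ := exists_ne hG S hS hab
    exact hne (fix_of_fix_small S hab hn (fun y hy hy1 => hcon n hn y ((hΩ y).2 ⟨hy, hy1⟩)) x hx)
  · obtain ⟨-, f, k, -, he⟩ := h.homocyclic S hab (S : Subgroup G) le_rfl hS (fun n hn a ha =>
      (mem_normalizer_iff.1 hn a).1 ha)
    exact ⟨k, f, he⟩

end Cfsg.Agent.H794.IrrMain
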