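import Mathlib
import Cfsg.Agent.Transfer.FusionBasic

/-!
# Actions on sections of `p`-groups (helper794)

* `acts_trivially_pow` (after helper75) : a `q`-element normalising a `p`-group of small order centralises it;
* `sec_trivial` : the same for sections;
* `cent_of_chain` : a `p'`-element trivial on `A` and on `B / A` is trivial on `B`;
* `comm_trivial` : commutators act trivially on sections of order `p`.
-/

set_option autoImplicit false

namespace Cfsg.Agent.H794.MonSec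

open Subgroup Cfsg

universe u v

/-- a `q`-element normalising a `p`-group of small order centralises it -/
theorem acts_trivially_pow {D : Type*} [Group D] [Finite D] {p q m : ℕ} [Fact p.Prime] [hq : Fact q.Prime] (hqp : q ≠ p)
    (hdiv : ∀ i, 1 ≤ i → i ≤ m → ¬ q ∣ p ^ i - 1) {P : Subgroup D} (_hP : IsPGroup p ↥P) (hPm : Nat.card ↥P ∣ p ^ m)
    {u : D} {f : ℕ} (hu : u ^ q ^ f = 1) (hn : ∀ g ∈ P, u * g * u⁻¹ ∈ P) : ∀ g ∈ P, u * g * u⁻¹ = g := by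
  classical
  have hpp : p.Prime := Fact.out
  -- the subgroup of the fixed points
  let C : Subgroup ↥P := (centralizer ({u} : Set D)).subgroupOf P
  -- the action of `zpowers u`
  have hn' : u ∈ normalizer (P : Set D) := by
    have hinj : Function.Injective (fun g : ↥P => (⟨u * g * u⁻¹, hn g g.2⟩ : ↥P)) := by
      intro a b hab
      have h1 : u * (a : D) * u⁻¹ = u * b * u⁻¹ := congrArg Subtype.val hab
      exact Subtype.ext (mul_left_cancel (mul_right_cancel h1))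
    have hsur := Finite.surjective_of_injective hinj
    rw [mem_normalizer_iff]
    intro g
    refine ⟨fun hg => hn g hg, fun hg => ?_⟩
    obtain ⟨a, ha⟩ := hsur ⟨_, hg⟩
    have h1 : u * (a : D) * u⁻¹ = u * g * u⁻¹ := congrArg Subtype.val ha
    rw [← mul_left_cancel (mul_right_cancel h1)]
    exact a.2
  let U : Subgroup ↥(normalizer (P : Set D)) := zpowers ⟨u, hn'⟩
  have hU : IsPGroup q ↥U := by
    intro g
    refine ⟨f, ?_⟩
    obtain ⟨i, hi⟩ := mem_zpowers_iff.1 g.2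
    apply Subtype.ext
    rw [SubmonoidClass.coe_pow, ← hi, ← zpow_natCast, ← zpow_mul, mul_comm, zpow_mul, zpow_natCast]
    have h1 : (⟨u, hn'⟩ : ↥(normalizer (P : Set D))) ^ q ^ f = 1 := Subtype.ext hu
    rw [h1, one_zpow]
    rfl
  let act : MulAction ↥U ↥P :=
    { smul := fun g x => ⟨((g : ↥(normalizer (P : Set D))) : D) * x * ((g : ↥(normalizer (P : Set D))) : D)⁻¹,
        (mem_normalizer_iff.1 (g : ↥(normalizer (P : Set D))).2 x).1 x.2⟩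
      one_smul := fun x => Subtype.ext (by
        show ((1 : D)) * x * (1 : D)⁻¹ = x
        group)
      mul_smul := fun a b x => Subtype.ext (by
        show (((a : ↥(normalizer (P : Set D))) : D) * ((b : ↥(normalizer (P : Set D))) : D)) * x *
          (((a : ↥(normalizer (P : Set D))) : D) * ((b : ↥(normalizer (P : Set D))) : D))⁻¹ =
          ((a : ↥(normalizer (P : Set D))) : D) * (((b : ↥(normalizer (P : Set D))) : D) * x *
            ((b : ↥(normalizer (P : Set D))) : D)⁻¹) * ((a : ↥(normalizer (P : Set D))) : D)⁻¹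
        group) }
  have hcard := hU.card_modEq_card_fixedPoints ↥P
  have hfix : Nat.card ↥(MulAction.fixedPoints ↥U ↥P) = Nat.card ↥C := by
    refine Nat.card_congr (Equiv.subtypeEquivRight fun x => ?_)
    rw [MulAction.mem_fixedPoints]
    show _ ↔ x ∈ C
    rw [mem_subgroupOf, mem_centralizer_singleton_iff]
    constructor
    · intro h
      have h1 : u * (x : D) * u⁻¹ = x := congrArg Subtype.val (h ⟨⟨u, hn'⟩, mem_zpowers _⟩)
      exact (mul_inv_eq_iff_eq_mul.1 h1).symm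
    · rintro h ⟨g, hg⟩
      obtain ⟨i, hi⟩ := mem_zpowers_iff.1 hg
      subst hi
      apply Subtype.ext
      show (((⟨u, hn'⟩ : ↥(normalizer (P : Set D))) ^ i : ↥(normalizer (P : Set D))) : D) * x *
        (((⟨u, hn'⟩ : ↥(normalizer (P : Set D))) ^ i : ↥(normalizer (P : Set D))) : D)⁻¹ = x
      rw [SubgroupClass.coe_zpow]
      have h2 : Commute (x : D) u := h
      exact mul_inv_eq_iff_eq_mul.2 (h2.zpow_right i).eq.symm
  obtain ⟨j, hj, hjc⟩ := (Nat.dvd_prime_pow hpp).1 hPm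
  obtain ⟨i, hi, hic⟩ := (Nat.dvd_prime_pow hpp).1
    (show Nat.card ↥C ∣ p ^ j by rw [← hjc]; exact card_subgroup_dvd_card C)
  rw [hfix, hic, hjc] at hcard
  have hij : i = j := by
    by_contra hne
    have hlt : i < j := lt_of_le_of_ne hi hne
    have h1 : q ∣ p ^ j - p ^ i := (Nat.modEq_iff_dvd' (Nat.pow_le_pow_right hpp.pos hi)).1 hcard.symm
    have h2 : p ^ j - p ^ i = p ^ i * (p ^ (j - i) - 1) := by
      rw [Nat.mul_sub, mul_one, ← pow_add, Nat.add_sub_cancel' hi]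
    rw [h2] at h1
    rcases hq.out.dvd_mul.1 h1 with h3 | h3
    · exact hqp ((Nat.prime_dvd_prime_iff_eq hq.out hpp).1 (hq.out.dvd_of_dvd_pow h3))
    · exact hdiv (j - i) (by omega) (by omega) h3
  have htop : C = ⊤ := by
    apply Subgroup.eq_top_of_card_eq
    rw [hic, hjc, hij]
  intro g hg
  have h1 : (⟨g, hg⟩ : ↥P) ∈ C := by rw [htop]; trivial
  exact mul_inv_eq_iff_eq_mul.2 (mem_centralizer_singleton_iff.1 (mem_subgroupOf.1 h1)).symm

theorem card_mul_relIndex {G : Type*} [Group G] {A B : Subgroup G} (h : A ≤ B) :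
    Nat.card A * A.relIndex B = Nat.card B := by
  have h1 := (A.subgroupOf B).card_mul_index
  have h2 : Nat.card (A.subgroupOf B) = Nat.card A := Nat.card_congr (Subgroup.subgroupOfEquivOfLe h).toEquiv
  rw [h2] at h1
  exact h1

theorem card_inf_mul_card_map {G : Type*} [Group G] (N A : Subgroup G) [N.Normal] :
    Nat.card (A ⊓ N : Subgroup G) * Nat.card (A.map (QuotientGroup.mk' N)) = Nat.card A := by
  have h1 := Subgroup.relIndex_ker A (QuotientGroup.mk' N)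
  rw [QuotientGroup.ker_mk'] at h1
  rw [← h1, ← inf_relIndex_left]
  exact card_mul_relIndex inf_le_left

/-- a `p'`-element trivial on `A` and on `B / A` is trivial on `B` -/
theorem cent_of_chain {G : Type*} [Group G] {p : ℕ} {A B : Subgroup G} (hB : IsPGroup p ↥B)
    {w : G} {n : ℕ} (hw : w ^ n = 1) (hn : n.Coprime p) (hA : ∀ a ∈ A, w * a * w⁻¹ = a) (hAB : A ≤ B)
    (hBA : ∀ b ∈ B, w * b * w⁻¹ * b⁻¹ ∈ A) : ∀ b ∈ B, w * b * w⁻¹ = b := by
  intro b hb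
  obtain ⟨a, ha⟩ : ∃ a, a = w * b * w⁻¹ * b⁻¹ := ⟨_, rfl⟩
  have haA : a ∈ A := by rw [ha]; exact hBA b hb
  have hwa := hA a haA
  have e : w * b * w⁻¹ = a * b := by rw [ha]; group
  have key : ∀ k : ℕ, w ^ k * b * (w ^ k)⁻¹ = a ^ k * b := by
    intro k
    induction k with
    | zero => simp
    | succ k ih =>
      have h1 : w * a ^ k * w⁻¹ = a ^ k := by
        have h2 := conj_pow (a := w) (b := a) (i := k)
        rw [hwa] at h2
        exact h2.symm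
      calc w ^ (k + 1) * b * (w ^ (k + 1))⁻¹ = w * (w ^ k * b * (w ^ k)⁻¹) * w⁻¹ := by rw [pow_succ']; group
        _ = (w * a ^ k * w⁻¹) * (w * b * w⁻¹) := by rw [ih]; group
        _ = a ^ k * (a * b) := by rw [h1, e]
        _ = a ^ (k + 1) * b := by rw [pow_succ, mul_assoc]
  have h1 := key n
  rw [hw, one_mul, inv_one, mul_one] at h1
  have h2 : a ^ n = 1 := mul_eq_right.1 h1.symm
  obtain ⟨j, hj⟩ := hB ⟨a, hAB haA⟩
  have hj' : a ^ p ^ j = 1 := congrArg Subtype.val hj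
  have h3 : orderOf a ∣ Nat.gcd n (p ^ j) := Nat.dvd_gcd (orderOf_dvd_of_pow_eq_one h2) (orderOf_dvd_of_pow_eq_one hj')
  rw [Nat.Coprime.pow_right j hn, Nat.dvd_one, orderOf_eq_one_iff] at h3
  rw [e, h3, one_mul]

/-- **Sections of small order.** -/
theorem sec_trivial {G : Type*} [Group G] [Finite G] {p q m : ℕ} [hp : Fact p.Prime] [hq : Fact q.Prime] (hqp : q ≠ p)
    (hdiv : ∀ i, 1 ≤ i → i ≤ m → ¬ q ∣ p ^ i - 1) {A B : Subgroup G} (hB : IsPGroup p ↥B) (hAB : A ≤ B)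
    (hcard : Nat.card ↥B ∣ p ^ m * Nat.card ↥A) (hBA : ∀ b ∈ B, ∀ a ∈ A, b * a * b⁻¹ ∈ A)
    {w : G} {f : ℕ} (hw : w ^ q ^ f = 1) (hwA : ∀ a ∈ A, w * a * w⁻¹ ∈ A) (hwB : ∀ b ∈ B, w * b * w⁻¹ ∈ B) :
    ∀ b ∈ B, w * b * w⁻¹ * b⁻¹ ∈ A := by
  classical
  let N := normalizer (A : Set G)
  have hBN : B ≤ N := fun b hb => Transfer.FusionBasic.mem_normalizer_of_conj_mem (hBA b hb)
  have hwN : w ∈ N := Transfer.FusionBasic.mem_normalizer_of_conj_mem hwA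
  have hAN : A ≤ N := hAB.trans hBN
  let A' : Subgroup ↥N := A.subgroupOf N
  have hA' : A'.Normal := normal_in_normalizer
  let B' : Subgroup ↥N := B.subgroupOf N
  let π := QuotientGroup.mk' A'
  have hA'B' : A' ≤ B' := fun a ha => hAB ha
  have hcA : Nat.card ↥A' = Nat.card ↥A := Nat.card_congr (Subgroup.subgroupOfEquivOfLe hAN).toEquiv
  have hcB : Nat.card ↥B' = Nat.card ↥B := Nat.card_congr (Subgroup.subgroupOfEquivOfLe hBN).toEquiv
  have h1 := card_inf_mul_card_map A' B'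
  rw [inf_eq_right.2 hA'B', hcA, hcB] at h1
  have hP : IsPGroup p ↥(B'.map π) := (hB.comap_of_injective N.subtype N.subtype_injective).map π
  have hPm : Nat.card ↥(B'.map π) ∣ p ^ m := by
    rw [← h1, mul_comm] at hcard
    exact Nat.dvd_of_mul_dvd_mul_right Nat.card_pos hcard
  have h2 := acts_trivially_pow hqp hdiv hP hPm (u := π ⟨w, hwN⟩) (f := f) (by
    rw [← map_pow]
    have : (⟨w, hwN⟩ : ↥N) ^ q ^ f = 1 := Subtype.ext hw
    rw [this, map_one]) (by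
    rintro _ ⟨b, hb, rfl⟩
    refine ⟨⟨w, hwN⟩ * b * ⟨w, hwN⟩⁻¹, hwB b hb, ?_⟩
    rw [map_mul, map_mul, map_inv])
  intro b hb
  have h3 := h2 (π ⟨b, hBN hb⟩) ⟨⟨b, hBN hb⟩, hb, rfl⟩
  have h4 : π (⟨w, hwN⟩ * ⟨b, hBN hb⟩ * ⟨w, hwN⟩⁻¹ * ⟨b, hBN hb⟩⁻¹) = 1 := by
    rw [map_mul, map_mul, map_mul, map_inv, map_inv, h3, mul_inv_cancel]
  have h5 : (⟨w, hwN⟩ * ⟨b, hBN hb⟩ * ⟨w, hwN⟩⁻¹ * ⟨b, hBN hb⟩⁻¹ : ↥N) ∈ A' := (QuotientGroup.eq_one_iff _).1 h4
  exact h5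

/-- two elements normalising a cyclic group commute modulo its centralizer -/
theorem comm_cyclic {D : Type*} [Group D] [Finite D] {β k l : D} (hk : k * β * k⁻¹ ∈ zpowers β)
    (hl : l * β * l⁻¹ ∈ zpowers β) : (k * l * k⁻¹ * l⁻¹) * β * (k * l * k⁻¹ * l⁻¹)⁻¹ = β := by
  obtain ⟨i, hi⟩ := mem_zpowers_iff.1 hk
  obtain ⟨j, hj⟩ := mem_zpowers_iff.1 hl
  have hkz : ∀ n : ℤ, k * β ^ n * k⁻¹ = β ^ (i * n) := fun n => by
    rw [← conj_zpow, ← hi, ← zpow_mul]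
  have hlz : ∀ n : ℤ, l * β ^ n * l⁻¹ = β ^ (j * n) := fun n => by
    rw [← conj_zpow, ← hj, ← zpow_mul]
  have h1 : (l * k) * β * (l * k)⁻¹ = β ^ (j * i) := by
    calc (l * k) * β * (l * k)⁻¹ = l * (k * β * k⁻¹) * l⁻¹ := by group
      _ = _ := by rw [← hi, hlz]
  have h2 : (k * l) * β * (k * l)⁻¹ = β ^ (j * i) := by
    calc (k * l) * β * (k * l)⁻¹ = k * (l * β * l⁻¹) * k⁻¹ := by group
      _ = _ := by rw [← hj, hkz, mul_comm]
  have h3 : β ∈ zpowers (β ^ (j * i)) := by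
    have h4 : zpowers (β ^ (j * i)) = zpowers β := by
      refine Subgroup.eq_of_le_of_card_ge (zpowers_le.2 (zpow_mem (mem_zpowers β) _)) ?_
      rw [Nat.card_zpowers, Nat.card_zpowers, ← h1]
      exact (MulEquiv.orderOf_eq (MulAut.conj (l * k)) β).ge
    rw [h4]
    exact mem_zpowers β
  have h4 : Commute (k * l * k⁻¹ * l⁻¹) (β ^ (j * i)) := by
    have h5 : (k * l * k⁻¹ * l⁻¹) * β ^ (j * i) * (k * l * k⁻¹ * l⁻¹)⁻¹ = β ^ (j * i) := by
      calc (k * l * k⁻¹ * l⁻¹) * β ^ (j * i) * (k * l * k⁻¹ * l⁻¹)⁻¹ =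
          (k * l) * ((l * k)⁻¹ * β ^ (j * i) * (l * k)) * (k * l)⁻¹ := by group
        _ = (k * l) * ((l * k)⁻¹ * ((l * k) * β * (l * k)⁻¹) * (l * k)) * (k * l)⁻¹ := by rw [h1]
        _ = (k * l) * β * (k * l)⁻¹ := by group
        _ = _ := h2
    exact mul_inv_eq_iff_eq_mul.1 h5
  obtain ⟨n, hn⟩ := mem_zpowers_iff.1 h3
  have h5 : Commute (k * l * k⁻¹ * l⁻¹) β := by
    rw [← hn]
    exact h4.zpow_right n
  exact mul_inv_eq_iff_eq_mul.2 h5.eq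

/-- **Commutators act trivially on sections of order `p`.** -/
theorem comm_trivial {G : Type*} [Group G] [Finite G] {p : ℕ} [hp : Fact p.Prime] {A B : Subgroup G} (hAB : A ≤ B)
    (hcard : Nat.card ↥B = p * Nat.card ↥A) (hBA : ∀ b ∈ B, ∀ a ∈ A, b * a * b⁻¹ ∈ A) {k l : G}
    (hkA : ∀ a ∈ A, k * a * k⁻¹ ∈ A) (hkB : ∀ b ∈ B, k * b * k⁻¹ ∈ B) (hlA : ∀ a ∈ A, l * a * l⁻¹ ∈ A)
    (hlB : ∀ b ∈ B, l * b * l⁻¹ ∈ B) :
    ∀ b ∈ B, (k * l * k⁻¹ * l⁻¹) * b * (k * l * k⁻¹ * l⁻¹)⁻¹ * b⁻¹ ∈ A := by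
  classical
  let N := normalizer (A : Set G)
  have hBN : B ≤ N := fun b hb => Transfer.FusionBasic.mem_normalizer_of_conj_mem (hBA b hb)
  have hkN : k ∈ N := Transfer.FusionBasic.mem_normalizer_of_conj_mem hkA
  have hlN : l ∈ N := Transfer.FusionBasic.mem_normalizer_of_conj_mem hlA
  have hAN : A ≤ N := hAB.trans hBN
  let A' : Subgroup ↥N := A.subgroupOf N
  have hA' : A'.Normal := normal_in_normalizer
  let B' : Subgroup ↥N := B.subgroupOf N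
  let π := QuotientGroup.mk' A'
  have hA'B' : A' ≤ B' := fun a ha => hAB ha
  have hcA : Nat.card ↥A' = Nat.card ↥A := Nat.card_congr (Subgroup.subgroupOfEquivOfLe hAN).toEquiv
  have hcB : Nat.card ↥B' = Nat.card ↥B := Nat.card_congr (Subgroup.subgroupOfEquivOfLe hBN).toEquiv
  have h1 := card_inf_mul_card_map A' B'
  rw [inf_eq_right.2 hA'B', hcA, hcB, hcard, mul_comm p] at h1
  have hP : Nat.card ↥(B'.map π) = p := Nat.eq_of_mul_eq_mul_left Nat.card_pos h1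
  have hcyc : IsCyclic ↥(B'.map π) := isCyclic_of_prime_card hP
  obtain ⟨⟨β, hβ⟩, hg⟩ := hcyc.exists_generator
  have hβz : ∀ y ∈ B'.map π, y ∈ zpowers β := by
    intro y hy
    obtain ⟨n, hn⟩ := mem_zpowers_iff.1 (hg ⟨y, hy⟩)
    exact mem_zpowers_iff.2 ⟨n, congrArg Subtype.val hn⟩
  have hconj : ∀ (c : G) (hc : c ∈ N), (∀ b ∈ B, c * b * c⁻¹ ∈ B) → π ⟨c, hc⟩ * β * (π ⟨c, hc⟩)⁻¹ ∈ zpowers β := by
    intro c hc hcB'
    apply hβz
    obtain ⟨b, hb, rfl⟩ := hβ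
    refine ⟨⟨c, hc⟩ * b * ⟨c, hc⟩⁻¹, hcB' b hb, ?_⟩
    rw [map_mul, map_mul, map_inv]
  have h2 := comm_cyclic (hconj k hkN hkB) (hconj l hlN hlB)
  intro b hb
  obtain ⟨n, hn⟩ := mem_zpowers_iff.1 (hβz (π ⟨b, hBN hb⟩) ⟨⟨b, hBN hb⟩, hb, rfl⟩)
  have h3 : Commute (π ⟨k, hkN⟩ * π ⟨l, hlN⟩ * (π ⟨k, hkN⟩)⁻¹ * (π ⟨l, hlN⟩)⁻¹) (π ⟨b, hBN hb⟩) := by
    rw [← hn]
    exact (show Commute _ β from mul_inv_eq_iff_eq_mul.1 h2).zpow_right n
  have h4 : π ((⟨k, hkN⟩ * ⟨l, hlN⟩ * ⟨k, hkN⟩⁻¹ * ⟨l, hlN⟩⁻¹) * ⟨b, hBN hb⟩ *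
      (⟨k, hkN⟩ * ⟨l, hlN⟩ * ⟨k, hkN⟩⁻¹ * ⟨l, hlN⟩⁻¹)⁻¹ * ⟨b, hBN hb⟩⁻¹) = 1 := by
    simp only [map_mul, map_inv]
    rw [h3.eq]
    group
  have h5 : ((⟨k, hkN⟩ * ⟨l, hlN⟩ * ⟨k, hkN⟩⁻¹ * ⟨l, hlN⟩⁻¹) * ⟨b, hBN hb⟩ *
      (⟨k, hkN⟩ * ⟨l, hlN⟩ * ⟨k, hkN⟩⁻¹ * ⟨l, hlN⟩⁻¹)⁻¹ * ⟨b, hBN hb⟩⁻¹ : ↥N) ∈ A' := (QuotientGroup.eq_one_iff _).1 h4
  exact h5

end Cfsg.Agent.H794.MonSec
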