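import Cfsg.Agent.H794.AltClosed
import Cfsg.Agent.H795.AbSyl
import Cfsg.Prelude.Def_FusionSystem

/-!
# Strongly closed subgroups: the two kinds of rows

* `Full p G` : every strongly closed subgroup of a Sylow `p`-subgroup `S` of `G` is `1` or `S`;
* `TI p G` : an element of `G` conjugating some nontrivial element of `S` into `S` normalises `S`;
* `NFus p G` : `N_G(S)` controls fusion in `S`; `NFus.isNormal` : then `S` is normal in the fusion system;
* `NFus.of_ti`, `NFus.of_comm` (Burnside), `abIrr_of_full`, `full_alt`.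
-/

set_option autoImplicit false

namespace Cfsg.Agent.H794

open Subgroup Cfsg

universe u v

/-- Every strongly closed subgroup of a Sylow `p`-subgroup `S` is `1` or `S`. -/
def Full (p : ℕ) (G : Type*) [Group G] : Prop :=
  ∀ (S : Sylow p G) (A : Subgroup G), IsStronglyClosed A (S : Subgroup G) → A = ⊥ ∨ A = (S : Subgroup G)

/-- Elements conjugating a nontrivial element of `S` into `S` normalise `S`. -/
def TI (p : ℕ) (G : Type*) [Group G] : Prop :=
  ∀ (S : Sylow p G) (x : G), x ∈ (S : Subgroup G) → x ≠ 1 → ∀ g : G, g * x * g⁻¹ ∈ (S : Subgroup G) →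
    g ∈ normalizer ((S : Subgroup G) : Set G)

/-- `N_G(S)` controls fusion in `S`. -/
def NFus (p : ℕ) (G : Type*) [Group G] : Prop :=
  ∀ (S : Sylow p G) (P : Subgroup G), P ≤ (S : Subgroup G) → ∀ g : G, (∀ x ∈ P, g * x * g⁻¹ ∈ (S : Subgroup G)) →
    ∃ n ∈ normalizer ((S : Subgroup G) : Set G), ∀ x ∈ P, n * x * n⁻¹ = g * x * g⁻¹

theorem NFus.of_ti {p : ℕ} {G : Type*} [Group G] (h : TI p G) : NFus p G := by
  intro S P hP g hg
  by_cases hP1 : P = ⊥
  · refine ⟨1, one_mem _, fun x hx => ?_⟩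
    rw [hP1, mem_bot] at hx
    subst hx
    simp
  · obtain ⟨x, hx, hx1⟩ := P.bot_or_exists_ne_one.resolve_left hP1
    exact ⟨g, h S x (hP hx) hx1 g (hg x hx), fun _ _ => rfl⟩

/-- Elements of the normaliser. -/
theorem map_conj_eq {G : Type*} [Group G] {S : Subgroup G} {n : G} (hn : n ∈ normalizer (S : Set G)) :
    S.map (MulAut.conj n).toMonoidHom = S := by
  ext x
  constructor
  · rintro ⟨y, hy, rfl⟩
    exact (mem_normalizer_iff.1 hn y).1 hy
  · intro hx
    refine ⟨n⁻¹ * x * n, ?_, ?_⟩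
    · have := (mem_normalizer_iff.1 (inv_mem hn) x).1 hx
      rwa [inv_inv] at this
    · change n * (n⁻¹ * x * n) * n⁻¹ = x
      group

/-- If `N_G(S)` controls fusion then `S` is normal in the fusion system. -/
theorem NFus.isNormal {p : ℕ} {G : Type*} [Group G] (h : NFus p G) (S : Sylow p G) :
    (groupFusionSystem (S : Subgroup G)).IsNormal (S : Subgroup G) := by
  refine ⟨le_rfl, ?_⟩
  rintro P φ ⟨hP, hφ, g, hg⟩
  obtain ⟨n, hn, hng⟩ := h S P hP g (fun x hx => by rw [← hg ⟨x, hx⟩]; exact hφ _)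
  have hsup : P ⊔ (S : Subgroup G) = (S : Subgroup G) := sup_eq_right.2 hP
  refine ⟨conjHom (P ⊔ (S : Subgroup G)) n, ⟨hsup.le, fun x => ?_, n, fun x => rfl⟩, fun x => ?_, ?_⟩
  · have hx : (x : G) ∈ (S : Subgroup G) := hsup.le x.2
    exact (mem_normalizer_iff.1 hn _).1 hx
  · rw [hg]
    exact hng x x.2
  · ext x
    constructor
    · rintro ⟨y, hy, rfl⟩
      exact (mem_normalizer_iff.1 hn _).1 hy
    · intro hx
      have h1 : n⁻¹ * x * n ∈ (S : Subgroup G) := by
        have := (mem_normalizer_iff.1 (inv_mem hn) x).1 hx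
        rwa [inv_inv] at this
      refine ⟨⟨n⁻¹ * x * n, (le_sup_right : _ ≤ P ⊔ (S : Subgroup G)) h1⟩, h1, ?_⟩
      change n * (n⁻¹ * x * n) * n⁻¹ = x
      group

/-- transport of Sylow subgroups -/
theorem Full.congr {p : ℕ} [Fact p.Prime] {G : Type u} {H : Type v} [Group G] [Group H] [Finite G] (e : G ≃* H)
    (h : Full p G) : Full p H := by
  have : Finite H := Finite.of_equiv G e.toEquiv
  intro S A hA
  have hS : IsPGroup p ((S : Subgroup H).map e.symm.toMonoidHom) := S.isPGroup'.map _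
  obtain ⟨S', hS'⟩ := hS.exists_le_sylow
  have h2 : (S' : Subgroup G) = (S : Subgroup H).map e.symm.toMonoidHom := by
    symm
    apply Subgroup.eq_of_le_of_card_ge hS'
    have h3 : IsPGroup p ((S' : Subgroup G).map e.toMonoidHom) := S'.isPGroup'.map _
    have h4 : (S : Subgroup H) ≤ (S' : Subgroup G).map e.toMonoidHom := by
      intro x hx
      refine ⟨e.symm x, hS' ⟨x, hx, rfl⟩, ?_⟩
      simp
    have h5 := S.3 h3 h4
    have h6 : Nat.card ((S' : Subgroup G).map e.toMonoidHom) = Nat.card (S' : Subgroup G) :=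
      Nat.card_congr ((S' : Subgroup G).equivMapOfInjective _ e.injective).toEquiv.symm
    have h7 : Nat.card ((S : Subgroup H).map e.symm.toMonoidHom) = Nat.card (S : Subgroup H) :=
      Nat.card_congr ((S : Subgroup H).equivMapOfInjective _ e.symm.injective).toEquiv.symm
    rw [h7, ← h6, h5]
  have hA' : IsStronglyClosed (A.map e.symm.toMonoidHom) (S' : Subgroup G) := by
    rw [h2]
    refine ⟨Subgroup.map_mono hA.1, ?_⟩
    rintro _ ⟨a, ha, rfl⟩ g ⟨s, hs, hs'⟩
    have h3 : e g * a * (e g)⁻¹ ∈ (S : Subgroup H) := by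
      have : e g * a * (e g)⁻¹ = s := by
        apply e.symm.injective
        have : e.symm s = g * e.symm a * g⁻¹ := hs'
        rw [this]
        simp
      rw [this]
      exact hs
    refine ⟨_, hA.2 a ha (e g) h3, ?_⟩
    change e.symm (e g * a * (e g)⁻¹) = g * e.symm a * g⁻¹
    simp
  rcases h S' _ hA' with h3 | h3
  · left
    exact (Subgroup.map_eq_bot_iff_of_injective _ e.symm.injective).1 h3
  · right
    rw [h2] at h3
    exact Subgroup.map_injective e.symm.injective h3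

/-- Burnside: in an abelian Sylow subgroup the normaliser controls fusion. -/
theorem exists_normalizer_of_comm {p : ℕ} [Fact p.Prime] {G : Type*} [Group G] [Finite G] (S : Sylow p G)
    (hS : IsMulCommutative (S : Subgroup G)) {P : Subgroup G} (hP : P ≤ (S : Subgroup G)) {g : G}
    (hg : ∀ x ∈ P, g * x * g⁻¹ ∈ (S : Subgroup G)) :
    ∃ n ∈ normalizer ((S : Subgroup G) : Set G), ∀ x ∈ P, n * x * n⁻¹ = g * x * g⁻¹ := by
  have hcomm : ∀ a ∈ (S : Subgroup G), ∀ b ∈ (S : Subgroup G), a * b = b * a := fun a ha b hb =>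
    congrArg Subtype.val (hS.is_comm.comm (⟨a, ha⟩ : (S : Subgroup G)) ⟨b, hb⟩)
  -- `S` and `g S g⁻¹` are Sylow subgroups of the centraliser of `g P g⁻¹`
  obtain ⟨Q, hQ⟩ : ∃ Q : Set G, Q = {y | ∃ x ∈ P, y = g * x * g⁻¹} := ⟨_, rfl⟩
  have h1 : (S : Subgroup G) ≤ centralizer Q := by
    intro s hs
    rw [mem_centralizer_iff]
    rw [hQ]
    rintro _ ⟨x, hx, rfl⟩
    exact hcomm _ (hg x hx) _ hs
  have h2 : ((g • S : Sylow p G) : Subgroup G) ≤ centralizer Q := by
    rintro _ ⟨s, hs, rfl⟩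
    rw [mem_centralizer_iff, hQ]
    rintro _ ⟨x, hx, rfl⟩
    change g * x * g⁻¹ * (g * s * g⁻¹) = g * s * g⁻¹ * (g * x * g⁻¹)
    have h3 := hcomm x (hP hx) s hs
    calc g * x * g⁻¹ * (g * s * g⁻¹) = g * (x * s) * g⁻¹ := by group
      _ = g * (s * x) * g⁻¹ := by rw [h3]
      _ = _ := by group
  obtain ⟨c, hc⟩ := MulAction.exists_smul_eq (centralizer Q) ((g • S).subtype h2) (S.subtype h1)
  simp_rw [Sylow.smul_subtype, Subgroup.smul_def, smul_smul] at hc
  refine ⟨c * g, Sylow.smul_eq_iff_mem_normalizer.mp (Sylow.subtype_injective hc), fun x hx => ?_⟩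
  have h3 : g * x * g⁻¹ * (c : G) = c * (g * x * g⁻¹) :=
    mem_centralizer_iff.1 c.2 _ (by rw [hQ]; exact ⟨x, hx, rfl⟩)
  calc (c : G) * g * x * ((c : G) * g)⁻¹ = c * (g * x * g⁻¹) * (c : G)⁻¹ := by group
    _ = _ := by rw [← h3, mul_inv_cancel_right]

theorem NFus.of_comm {p : ℕ} [Fact p.Prime] {G : Type*} [Group G] [Finite G]
    (hS : ∀ S : Sylow p G, IsMulCommutative (S : Subgroup G)) : NFus p G :=
  fun S _ hP _ hg => exists_normalizer_of_comm S (hS S) hP hg

/-- Invariant subgroups of an abelian Sylow subgroup are strongly closed. -/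
theorem stronglyClosed_of_inv {p : ℕ} [Fact p.Prime] {G : Type*} [Group G] [Finite G] (S : Sylow p G)
    (hS : IsMulCommutative (S : Subgroup G)) {B : Subgroup G} (hB : B ≤ (S : Subgroup G))
    (hn : ∀ n ∈ normalizer ((S : Subgroup G) : Set G), ∀ b ∈ B, n * b * n⁻¹ ∈ B) :
    IsStronglyClosed B (S : Subgroup G) := by
  refine ⟨hB, fun x hx g hg => ?_⟩
  obtain ⟨n, hn', he⟩ := exists_normalizer_of_comm S hS (P := zpowers x)
    (by rw [zpowers_le]; exact hB hx) (g := g) (by
      intro y hy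
      obtain ⟨k, rfl⟩ := mem_zpowers_iff.1 hy
      rw [← conj_zpow]
      exact zpow_mem hg k)
  rw [← he x (mem_zpowers x)]
  exact hn n hn' x hx

/-- `Full` implies `AbIrr`. -/
theorem abIrr_of_full {p : ℕ} [Fact p.Prime] {G : Type*} [Group G] [Finite G] (h : Full p G) : H795.AbIrr p G := by
  intro S hS B hB _ hn
  rcases h S B (stronglyClosed_of_inv S hS hB hn) with h1 | h1
  · exact Or.inl h1
  · right
    intro x hx _
    rw [h1]
    exact hx

/-- The alternating groups, `p` odd. -/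
theorem full_alt {p : ℕ} [Fact p.Prime] (hp2 : p ≠ 2) {G : Type*} [Group G] (h : IsAlternating G) : Full p G := by
  obtain ⟨n, -, ⟨e⟩⟩ := h
  exact Full.congr e.symm fun S _ hA => AltClosed.closed_alt hp2 S hA

end Cfsg.Agent.H794
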