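import Cfsg.Agent.H794.DefRank
import Cfsg.Agent.H794.PslTwo
import Cfsg.Agent.H794.PsuNotAb

/-!
# Strongly closed subgroups and abelian Sylow subgroups in defining characteristic, `p ≠ 2`

* `notAb_ree` : the Sylow 3-subgroups of `²G₂(q)` are not abelian;
* `def_row` : `IsLieTypeChar p G`, `p ≠ 2`: `Full p G`, or `TI p G` and `G ≅ PSU₃(q)` or `²G₂(q)`;
* `abIrr_def` : `AbIrr p G`.
-/

set_option autoImplicit false

namespace Cfsg.Agent.H794.DefAb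

open Cfsg Subgroup Cfsg.Agent.H794 Cfsg.Agent.H794.DefClosed Cfsg.Agent.H794.DefRank
  Cfsg.Agent.LieRecognition.ReeAbs Cfsg.Agent.LieRecognition.ReeSylowThree

theorem notAb_ree {G : Type*} [Group G] [Finite G] (h : Cfsg.Lie.IsoRee G) : H800.Sp.NotAb 3 G := by
  have : Fact (Nat.Prime 3) := ⟨Nat.prime_three⟩
  obtain ⟨K, _, _, m, hm, hK, ⟨e⟩⟩ := h
  have : Finite ↥(Cfsg.Lie.twistedG2 K (3 ^ m)) := Finite.of_equiv G e.toEquiv
  obtain ⟨U, h, n, D⟩ := Cfsg.Agent.ChevalleyStructure.Ree.Data.exists_data hK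
  refine H800.Sp.NotAb.of_mulEquiv e.symm ?_
  have hP : IsPGroup 3 ↥(uSub D) :=
    IsPGroup.of_card (n := 3 * (2 * m + 1)) (by rw [card_uSub, hK, ← pow_mul, mul_comm])
  refine H800.Sp.notAb_of_pair (uSub D) hP (a := U 1 0 0) (b := U 0 1 0) ((mem_uSub D).2 ⟨_, _, _, rfl⟩)
    ((mem_uSub D).2 ⟨_, _, _, rfl⟩) ?_
  rw [D.U_mul, D.U_mul]
  intro he
  have h1 := (U_injective D he).2.2
  have h2 : (0 : K) ^ 3 ^ (m + 1) = 0 := zero_pow (by positivity)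
  simp [h2] at h1

/-- **Defining characteristic, `p ≠ 2`.** -/
theorem def_row {p : ℕ} [hp : Fact p.Prime] (hp2 : p ≠ 2) {G : Type*} [Group G] [Finite G] [IsSimpleGroup G]
    (hG : ¬ IsMulCommutative G) (h : IsLieTypeChar p G) : Full p G ∨ (TI p G ∧
      ((∃ (F : Type) (_ : Field F) (_ : Fintype F) (_ : CharP F p) (q : ℕ), Fintype.card F = q ^ 2 ∧ q ≠ 2 ∧
        Nonempty (G ≃* PSU 3 F q)) ∨ (p = 3 ∧ Lie.IsoRee G))) := by
  have hc : ∃ a b : G, a * b ≠ b * a := by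
    by_contra hcon
    push Not at hcon
    exact hG ⟨⟨hcon⟩⟩
  rcases full_or_ti hp2 hG h with h1 | h1
  · exact Or.inl h1
  rcases rk2_or hp2 h with h2 | ⟨F, _, _, _, hF4, ⟨e⟩⟩ | h2 | h2
  · exact Or.inl (full_of_rk2 hc h2)
  · left
    have : Finite (Matrix.ProjectiveSpecialLinearGroup (Fin 2) F) := Quotient.finite _
    exact Full.congr e.symm PslTwo.full_psl
  · exact Or.inr ⟨h1, Or.inl h2⟩
  · exact Or.inr ⟨h1, Or.inr h2⟩

theorem abIrr_def {p : ℕ} [hp : Fact p.Prime] (hp2 : p ≠ 2) {G : Type*} [Group G] [Finite G] [IsSimpleGroup G]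
    (hG : ¬ IsMulCommutative G) (h : IsLieTypeChar p G) : H795.AbIrr p G := by
  rcases def_row hp2 hG h with h1 | ⟨-, ⟨F, _, _, _, q, hF, -, ⟨e⟩⟩ | ⟨rfl, h1⟩⟩
  · exact abIrr_of_full h1
  · have : Finite (PSU 3 F q) := Quotient.finite _
    exact (H800.Sp.NotAb.of_mulEquiv e.symm (PsuNotAb.notAb hF le_rfl)).abIrr
  · exact (notAb_ree h1).abIrr

end Cfsg.Agent.H794.DefAb
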