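import Cfsg.Agent.H794.LThreeFour
import Cfsg.Agent.S0820

/-!
# `PSL₃(4)`: every nontrivial 2-element has at least 315 conjugates
-/

set_option autoImplicit false

namespace Cfsg.Agent.H794.LThreeFour

open Matrix Subgroup

variable {F : Type} [Field F] [Fintype F]

theorem two_eq_zero (hF : Fintype.card F = 4) : (2 : F) = 0 := by
  have h := FiniteField.cast_card_eq_zero F
  rw [hF] at h
  have h' : (2 : F) * 2 = 0 := by
    rw [← h]; norm_num
  exact mul_self_eq_zero.1 h'

theorem cube (hF : Fintype.card F = 4) (x : F) (hx : x ≠ 0) : x ^ 3 = 1 := by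
  have h := FiniteField.pow_card_sub_one_eq_one x hx
  rwa [hF] at h

theorem orderOf_tv (hF : Fintype.card F = 4) :
    orderOf (QuotientGroup.mk tv : ProjectiveSpecialLinearGroup (Fin 3) F) = 2 := by
  apply orderOf_eq_prime
  · rw [← QuotientGroup.mk_pow, QuotientGroup.eq_one_iff]
    have h : (tv : Matrix.SpecialLinearGroup (Fin 3) F) ^ 2 = 1 := by
      apply val_inj
      rw [pow_two, val_mul, val_tv, val_one]
      have h2 := two_eq_zero hF
      ext i j
      fin_cases i <;> fin_cases j <;> simp [mul_apply, Fin.sum_univ_three]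
      linear_combination h2
    rw [h]
    exact Subgroup.one_mem _
  · intro h
    rw [QuotientGroup.eq_one_iff, mem_center] at h
    obtain ⟨r, -, hr⟩ := h
    have := congrFun (congrFun hr 0) 2
    rw [val_tv] at this
    simp at this

theorem index_tv (hF : Fintype.card F = 4)
    (hc : Nat.card (ProjectiveSpecialLinearGroup (Fin 3) F) = 20160) :
    315 ≤ (centralizer ({(QuotientGroup.mk tv : ProjectiveSpecialLinearGroup (Fin 3) F)} :
      Set (ProjectiveSpecialLinearGroup (Fin 3) F))).index := by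
  set C := centralizer ({(QuotientGroup.mk tv : ProjectiveSpecialLinearGroup (Fin 3) F)} :
      Set (ProjectiveSpecialLinearGroup (Fin 3) F)) with hC
  have hp : IsPGroup 2 C := by
    rintro ⟨g, hg⟩
    refine ⟨2, Subtype.ext ?_⟩
    show g ^ 2 ^ 2 = 1
    obtain ⟨A, rfl⟩ := QuotientGroup.mk_surjective g
    rw [hC, mem_centralizer_singleton_iff] at hg
    have h1 := comm_of_mk (two_eq_zero hF) A (by first | exact hg | exact hg.symm)
    have h3 := pow_four_mem (two_eq_zero hF) (cube hF) A h1
    rw [← QuotientGroup.mk_pow, QuotientGroup.eq_one_iff]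
    rwa [show A ^ 2 ^ 2 = A * A * (A * A) by rw [pow_two 2, pow_mul, pow_two, pow_two]]
  obtain ⟨k, hk⟩ := IsPGroup.iff_card.1 hp
  have h1 := C.card_mul_index
  rw [hk, hc] at h1
  have h2 : 2 ^ k ∣ 2 ^ 6 * 315 := ⟨_, by rw [h1]; norm_num⟩
  have h3 : 2 ^ k ∣ 2 ^ 6 := (Nat.Coprime.pow_left k (by decide : Nat.Coprime 2 315)).dvd_of_dvd_mul_right h2
  have h4 : 2 ^ k ≤ 64 := Nat.le_of_dvd (by norm_num) h3
  by_contra hlt
  push Not at hlt
  have : 2 ^ k * C.index ≤ 64 * 314 := Nat.mul_le_mul h4 (by omega)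
  omega

/-- **Every nontrivial 2-element of `PSL₃(4)` has at least 315 conjugates.** -/
theorem index_ge (hF : Fintype.card F = 4)
    (hc : Nat.card (ProjectiveSpecialLinearGroup (Fin 3) F) = 20160)
    {y : ProjectiveSpecialLinearGroup (Fin 3) F} (hy : y ≠ 1) (h2 : ∃ j : ℕ, orderOf y = 2 ^ j) :
    315 ≤ (centralizer ({y} : Set (ProjectiveSpecialLinearGroup (Fin 3) F))).index := by
  have hfin : Finite (ProjectiveSpecialLinearGroup (Fin 3) F) := Nat.finite_of_card_ne_zero (by rw [hc]; norm_num)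
  obtain ⟨j, hj⟩ := h2
  obtain ⟨i, rfl⟩ : ∃ i, j = i + 1 := by
    cases j with
    | zero => rw [pow_zero, orderOf_eq_one_iff] at hj; exact absurd hj hy
    | succ i => exact ⟨i, rfl⟩
  have h3 : orderOf (y ^ 2 ^ i) = 2 := by
    rw [orderOf_pow_of_dvd (by positivity) (by rw [hj]; exact pow_dvd_pow 2 (Nat.le_succ i)), hj, pow_succ,
      Nat.mul_div_cancel_left _ (by positivity)]
  have h4 := Cfsg.Agent.S0820.result hF _ _ (orderOf_tv hF) h3
  obtain ⟨g, hg⟩ := isConj_iff.1 h4
  have h5 := index_tv hF hc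
  have h6 : (centralizer ({y ^ 2 ^ i} : Set (ProjectiveSpecialLinearGroup (Fin 3) F))) =
      (centralizer ({(QuotientGroup.mk tv : ProjectiveSpecialLinearGroup (Fin 3) F)} :
        Set (ProjectiveSpecialLinearGroup (Fin 3) F))).map (MulAut.conj g).toMonoidHom := by
    rw [← hg]
    ext x
    rw [mem_map_equiv, mem_centralizer_singleton_iff, mem_centralizer_singleton_iff, MulAut.conj_symm_apply]
    constructor <;> intro h
    · calc g⁻¹ * x * g * QuotientGroup.mk tv = g⁻¹ * (x * (g * QuotientGroup.mk tv * g⁻¹)) * g := by group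
        _ = g⁻¹ * (g * QuotientGroup.mk tv * g⁻¹ * x) * g := by rw [h]
        _ = _ := by group
    · calc x * (g * QuotientGroup.mk tv * g⁻¹) = g * (g⁻¹ * x * g * QuotientGroup.mk tv) * g⁻¹ := by group
        _ = g * (QuotientGroup.mk tv * (g⁻¹ * x * g)) * g⁻¹ := by rw [h]
        _ = _ := by group
  have h7 : (centralizer ({y ^ 2 ^ i} : Set (ProjectiveSpecialLinearGroup (Fin 3) F))).index =
      (centralizer ({(QuotientGroup.mk tv : ProjectiveSpecialLinearGroup (Fin 3) F)} :
        Set (ProjectiveSpecialLinearGroup (Fin 3) F))).index := by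
    rw [h6]
    exact Subgroup.index_map_equiv _ (MulAut.conj g)
  rw [← h7] at h5
  refine h5.trans (Subgroup.index_antitone ?_)
  intro x hx
  rw [mem_centralizer_singleton_iff] at hx ⊢
  exact (Commute.pow_right hx _).eq

end Cfsg.Agent.H794.LThreeFour
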