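import Cfsg.Agent.H794.MonSevenHe
import Cfsg.Agent.H794.MonThirteen
import Cfsg.Agent.CpAutMSeven.ZeroComps
import Cfsg.Agent.H792.SpTool

/-!
# The Monster, `p = 7` (helper794)

`fullP_m_seven` : `FullP 7 G` for the Monster.
-/

set_option autoImplicit false
set_option maxRecDepth 100000

namespace Cfsg.Agent.H794.MonSeven

open Subgroup hiding mk
open Cfsg Cfsg.Agent.H794.MonLift Cfsg.Agent.H794.MonSevenLoc Cfsg.Agent.H794.MonSevenBig
open Cfsg.Agent.LThreeMB (fr XX Zx KChart.Cent KChart.pi KChart.chart)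
open Cfsg.Agent.MonsterU Cfsg.Agent.MonsterU.Ch
open Cfsg.Agent.MonsterU.Lam2 (L2)
open Cfsg.Agent.MonsterX
open Cfsg.Agent.SporadicA.Co0Mono (signCo0)
open Cfsg.Agent.SporadicA.Co1Simple (allOne)
open Cfsg.Agent.CoOneType.ClosingFacts (mk mk_mul mk_eq_one neg_eq)
open Cfsg.Spor (Co1)

/-! ### Data in `Co1` -/

/-- the element of order 7 -/
noncomputable def x : Co1 := BpSevenCo.Conj.x
/-- the element commuting with it -/
noncomputable def y : Co1 := BpSevenCo.Conj.y
/-- the element of order 5 -/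
noncomputable def f : Co1 := mk (MonData.e 2)

theorem x_eq : x = mk (MonData.e 0) := rfl

theorem y_eq : y = mk (MonData.e 1) := rfl

theorem f_pow : f ^ 5 = 1 := by
  have h := congrArg (QuotientGroup.mk' (center Co0)) MonData.f_pow
  rwa [map_pow, map_one] at h

theorem fx : f * x = x * f := by
  have h := congrArg mk MonData.fx
  rwa [mk_mul, mk_mul] at h

theorem y_pow : y ^ 7 = 1 := BpSevenCo.Conj.y_pow

theorem x_pow : x ^ 7 = 1 := BpSevenCo.Conj.x_pow

theorem yx : y * x = x * y := BpSevenCo.Conj.comm_xy.symm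

theorem even_fy : Even (orderOf (f * y * f⁻¹ * y⁻¹)) := by
  have h1 : mk (MonData.e 2 * MonData.e 1 * MonData.e 2 ^ 4 * MonData.e 1 ^ 6) = f * y * f⁻¹ * y⁻¹ := by
    have e1 : f ^ 4 = f⁻¹ := by
      rw [eq_inv_iff_mul_eq_one, ← pow_succ]; exact f_pow
    have e2 : y ^ 6 = y⁻¹ := by
      rw [eq_inv_iff_mul_eq_one, ← pow_succ]; exact y_pow
    rw [← e1, ← e2]
    rfl
  rw [← h1, ← Nat.not_odd_iff_even]
  intro ho
  have h4 : (mk (MonData.e 2 * MonData.e 1 * MonData.e 2 ^ 4 * MonData.e 1 ^ 6)) ^ 4 = 1 := by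
    have h := congrArg (QuotientGroup.mk' (center Co0)) MonData.fy_pow
    rw [map_pow] at h
    exact h.trans MonThirteen.mk_neg
  have h5 : orderOf (mk (MonData.e 2 * MonData.e 1 * MonData.e 2 ^ 4 * MonData.e 1 ^ 6)) = 1 := by
    have h6 := orderOf_dvd_of_pow_eq_one h4
    have h7 : Nat.Coprime (orderOf (mk (MonData.e 2 * MonData.e 1 * MonData.e 2 ^ 4 * MonData.e 1 ^ 6))) 4 :=
      (Nat.coprime_two_right.2 ho).pow_right 2
    exact Nat.Coprime.eq_one_of_dvd h7 h6
  rw [orderOf_eq_one_iff] at h5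
  have h6 := MonThirteen.sq_of_mk h5
  apply Cfsg.Agent.SporadicA.Co0Basic.negCo0_ne_one
  rw [← MonData.fy_pow, show 4 = 2 * 2 by rfl, pow_mul, pow_two (_ * _), h6, one_pow]

/-! ### The chart -/

section chart

variable {G : Type*} [Group G] {Q : Subgroup G} {z : G} {eta : G → L2} {pi : centralizer ({z} : Set G) →* Co1}

theorem exists_lift_pow (h : Chart Q z eta pi) {e : centralizer ({z} : Set G)} (he : e ^ 7 = 1) (hfr : fr (pi e) = 1)
    {q : ℕ} (hq : Odd q) {s : Co1} (hs : s ^ q = 1) (hse : s * pi e = pi e * s) :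
    ∃ c : centralizer ({z} : Set G), pi c = s ∧ (c : G) ^ q = 1 ∧ (c : G) ∈ Ga (e : G) z := by
  obtain ⟨c, hc, rfl⟩ := MFive.exists_lift h (by norm_num : Nat.Prime 7) (by decide) he hse
  have hce : (c : G) * e = e * c := congrArg Subtype.val hc
  have h1 : (c : G) ^ q = 1 ∨ (c : G) ^ q = z := by
    have h2 := eq_of_pi_one h (p := 7) (by decide) he hfr (c := c ^ q) (by rw [map_pow, hs]) (by
      rw [SubmonoidClass.coe_pow]
      exact ((show Commute (c : G) e from hce).pow_left q).eq)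
    rwa [SubmonoidClass.coe_pow] at h2
  obtain ⟨m, hm⟩ := hq
  refine ⟨c ^ (q + 1), ?_, ?_, ?_⟩
  · rw [map_pow, pow_succ, hs, one_mul]
  · rw [SubmonoidClass.coe_pow, ← pow_mul, mul_comm, pow_mul]
    rcases h1 with h2 | h2
    · rw [h2, one_pow]
    · rw [h2, show q + 1 = 2 * (m + 1) by omega, pow_mul, pow_two, h.large.z_sq, one_pow]
  · rw [SubmonoidClass.coe_pow]
    exact pow_mem (mem_Ga.2 ⟨hce, mem_centralizer_singleton_iff.1 c.2⟩) _

theorem conj_comm {g a b : Co1} (h : a * b = b * a) : (g⁻¹ * a * g) * (g⁻¹ * b * g) = (g⁻¹ * b * g) * (g⁻¹ * a * g) := by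
  calc (g⁻¹ * a * g) * (g⁻¹ * b * g) = g⁻¹ * (a * b) * g := by group
    _ = g⁻¹ * (b * a) * g := by rw [h]
    _ = _ := by group

theorem conj_pow' {g a : Co1} (n : ℕ) : (g⁻¹ * a * g) ^ n = g⁻¹ * a ^ n * g := by
  have h := conj_pow (i := n) (a := g⁻¹) (b := a)
  rwa [inv_inv] at h

/-- **Rank 0.** -/
theorem loc_of [Finite G] (h : Chart Q z eta pi) {e : centralizer ({z} : Set G)} (he : orderOf e = 7)
    (hfr : fr (pi e) = 1)
    (only : ∀ u : G, u * e = e * u → u * z = z * u → u * u = 1 → u = 1 ∨ u = z)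
    (cz : ¬ 7 ^ 3 ∣ Nat.card ↥(centralizer ({z} : Set G))) : Loc (e : G) z := by
  have h7 : Nat.Prime 7 := by norm_num
  have he7 : e ^ 7 = 1 := by rw [← he, pow_orderOf_eq_one]
  obtain ⟨g, i, hi, hge⟩ := BpSevenCo.Conj.conj_pow (MFive.orderOf_pi h h7 (by decide) he) hfr
  have hpe : pi e = g⁻¹ * x ^ i * g := by
    rw [show x = BpSevenCo.Conj.x from rfl, ← hge]; group
  refine ⟨?_, by rw [orderOf_coe, he], (mem_centralizer_singleton_iff.1 e.2).symm, only, ?_, ?_, cz⟩
  · have : Fact (Nat.Prime 2) := ⟨Nat.prime_two⟩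
    exact orderOf_eq_prime (by rw [pow_two]; exact h.large.z_sq) h.large.z_ne
  · obtain ⟨F, hF, hF5, hFG⟩ := exists_lift_pow h he7 hfr (q := 5) (by decide) (s := g⁻¹ * f * g)
      (by rw [conj_pow', f_pow]; group) (by
        rw [hpe]
        exact conj_comm ((show Commute f x from fx).pow_right i).eq)
    obtain ⟨Y, hY, hY7, hYG⟩ := exists_lift_pow h he7 hfr (q := 7) (by decide) (s := g⁻¹ * y * g)
      (by rw [conj_pow', y_pow]; group) (by
        rw [hpe]
        exact conj_comm ((show Commute y x from yx).pow_right i).eq)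
    refine ⟨F, Y, hF5, hY7, hFG, hYG, ?_⟩
    have h1 : orderOf (pi (F * Y * F⁻¹ * Y⁻¹)) ∣ orderOf (F * Y * F⁻¹ * Y⁻¹) := orderOf_map_dvd pi _
    have h2 : pi (F * Y * F⁻¹ * Y⁻¹) = g⁻¹ * (f * y * f⁻¹ * y⁻¹) * g := by
      rw [map_mul, map_mul, map_mul, map_inv, map_inv, hF, hY]
      group
    have h3 : orderOf (g⁻¹ * (f * y * f⁻¹ * y⁻¹) * g) = orderOf (f * y * f⁻¹ * y⁻¹) := by
      have h4 := MulEquiv.orderOf_eq (MulAut.conj g⁻¹) (f * y * f⁻¹ * y⁻¹)
      rwa [MulAut.conj_apply, inv_inv] at h4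
    rw [h2, h3] at h1
    rw [← Subgroup.orderOf_coe] at h1
    exact even_iff_two_dvd.2 ((even_iff_two_dvd.1 even_fy).trans h1)
  · obtain ⟨m, hm⟩ := h.pi_surj (g⁻¹ * BpSevenCo.Conj.n * g)
    have hpe' : pi (m * e * m⁻¹) = g⁻¹ * (x ^ i * y ^ (3 * i)) * g := by
      have h1 : BpSevenCo.Conj.n * x ^ i * BpSevenCo.Conj.n⁻¹ = x ^ i * y ^ (3 * i) := by
        rw [← conj_pow, show x = BpSevenCo.Conj.x from rfl, BpSevenCo.Conj.nxn1, BpSevenCo.Conj.xy_pow]
        rfl
      rw [map_mul, map_mul, map_inv, hm, hpe, ← h1]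
      group
    have hcm : pi (m * e * m⁻¹) * pi e = pi e * pi (m * e * m⁻¹) := by
      rw [hpe', hpe]
      refine conj_comm ?_
      have h1 : Commute (x ^ i) (x ^ i) := rfl
      have h2 : Commute (y ^ (3 * i)) (x ^ i) := (show Commute y x from yx).pow_pow _ _
      exact (h1.mul_left h2).eq
    have hme : (m * e * m⁻¹) ^ 7 = 1 := by rw [conj_pow, he7, mul_one, mul_inv_cancel]
    obtain ⟨c, hc, hc7, hcG⟩ := exists_lift_pow h he7 hfr (q := 7) (by decide) (s := pi (m * e * m⁻¹))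
      (by rw [← map_pow, hme, map_one]) hcm
    obtain ⟨q, hq, hqc⟩ := MFive.exists_conj_of_pi_eq h h7 (by decide) hme (y := c) (Subtype.ext hc7) hc.symm
    have e1 : q * (m : G) * (e : G) * (q * (m : G))⁻¹ = c := by
      rw [← hqc]
      show q * (m : G) * (e : G) * (q * (m : G))⁻¹ = q * ((m : G) * e * (m : G)⁻¹) * q⁻¹
      group
    refine ⟨q * (m : G), by rw [e1]; exact hcG, ?_⟩
    rw [e1]
    intro h1
    obtain ⟨j, hj⟩ := mem_zpowers_iff.1 h1
    have h2 : e ^ j = c := Subtype.ext (by rw [SubgroupClass.coe_zpow]; exact hj)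
    have h3 : pi c = pi e ^ j := by rw [← h2, map_zpow]
    rw [hc, hpe', hpe] at h3
    have h4 : x ^ i * y ^ (3 * i) = (x ^ i) ^ j := by
      have h5 := conj_zpow (i := j) (a := g⁻¹) (b := x ^ i)
      rw [inv_inv] at h5
      rw [h5] at h3
      exact mul_left_cancel (mul_right_cancel h3)
    have h5 : y ^ (3 * i) ∈ zpowers x := by
      have h6 : y ^ (3 * i) = (x ^ i)⁻¹ * (x ^ i) ^ j := by rw [← h4, inv_mul_cancel_left]
      rw [h6]
      exact mul_mem (inv_mem (npow_mem_zpowers x i)) (zpow_mem (npow_mem_zpowers x i) j)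
    apply BpSevenCo.Conj.y_notMem
    have hcop : Nat.Coprime (3 * i) 7 := by
      refine Nat.Coprime.mul_left (by norm_num) ?_
      refine ((Nat.Prime.coprime_iff_not_dvd h7).2 fun h8 => hi (Nat.mod_eq_zero_of_dvd h8)).symm
    have h8 : (Nat.gcd (3 * i) 7 : ℤ) = (3 * i : ℕ) * Nat.gcdA (3 * i) 7 + (7 : ℕ) * Nat.gcdB (3 * i) 7 :=
      Nat.gcd_eq_gcd_ab _ _
    rw [hcop] at h8
    have h9 : y = (y ^ (3 * i)) ^ (Nat.gcdA (3 * i) 7) * (y ^ 7) ^ (Nat.gcdB (3 * i) 7) := by
      rw [← zpow_natCast y (3 * i), ← zpow_natCast y 7, ← zpow_mul, ← zpow_mul, ← zpow_add, ← h8]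
      simp
    show y ∈ zpowers x
    rw [h9, y_pow, one_zpow, mul_one]
    exact zpow_mem h5 _

end chart

/-! ### The model -/

theorem card_mod : Nat.card ↥InstData.M.G = 808017424794512875886459904961710757005754368000000000 := by
  rw [Cfsg.Agent.MonsterP.EquivOf.isM_model.2]

theorem cz_model : ¬ 7 ^ 3 ∣ Nat.card ↥(centralizer ({KDone.K.z} : Set ↥InstData.M.G)) := by
  have hfin := MFive.Row.finite_model
  intro h7
  have h1 := h7.trans (BpRankZero.Seven.card_cz (KChart.chart KDone.lft MFive.Row.hc))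
  rw [Cfsg.Agent.MonsterU.CoFrameF.card_Co1] at h1
  norm_num at h1

theorem loc_model {e : centralizer ({KDone.K.z} : Set ↥InstData.M.G)} (he : orderOf e = 7)
    (hfr : fr (KChart.pi MFive.Row.hc e) = 1) : Loc (e : ↥InstData.M.G) KDone.K.z := by
  have hfin := MFive.Row.finite_model
  refine loc_of (KChart.chart KDone.lft MFive.Row.hc) he hfr ?_ cz_model
  intro t htx htz htt
  by_cases ht : t = 1
  · exact Or.inl ht
  · right
    exact PreUniq.MonSeven.only_inv KDone.lft MFive.Row.hc (x := e) (t := ⟨t, mem_centralizer_singleton_iff.2 htz⟩)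
      (by rw [← he, pow_orderOf_eq_one]) hfr
      (Subtype.ext htt) (fun h1 => ht (congrArg Subtype.val h1)) (Subtype.ext htx.symm)

/-- fixed rank 6: the centralizer has order `7 |He|` -/
theorem card_six {e : centralizer ({KDone.K.z} : Set ↥InstData.M.G)} (he : orderOf e = 7)
    (hfr : fr (KChart.pi MFive.Row.hc e) = 2 ^ 6) :
    ¬ 7 ^ 5 ∣ Nat.card ↥(centralizer ({(e : ↥InstData.M.G)} : Set ↥InstData.M.G)) := by
  have hfin := MFive.Row.finite_model
  rw [BpRankZero.Seven.card_cent, (BpRankZero.MRow.he_facts (CpAutMSeven.ZeroComps.heSix e he hfr)).2,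
    Subgroup.orderOf_coe, he]
  norm_num

theorem cases_model {e : ↥InstData.M.G} (he : orderOf e = 7) (hez : e * KDone.K.z = KDone.K.z * e) :
    Loc e KDone.K.z ∨ ¬ 7 ^ 5 ∣ Nat.card ↥(centralizer ({e} : Set ↥InstData.M.G)) := by
  have hfin := MFive.Row.finite_model
  have h := KChart.chart KDone.lft MFive.Row.hc
  have he' : orderOf (⟨e, mem_centralizer_singleton_iff.2 hez⟩ : centralizer ({KDone.K.z} : Set ↥InstData.M.G)) = 7 := by
    rw [Subgroup.orderOf_mk]; exact he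
  rcases CpAutMSeven.Ranks.hranks _ (MFive.orderOf_pi h (by norm_num) (by decide) he') with h1 | h1
  · exact Or.inl (loc_model he' h1)
  · right
    have h2 := card_six (e := ⟨e, mem_centralizer_singleton_iff.2 hez⟩) he' h1
    intro h3
    exact h2 h3

theorem ex_model : ∃ e : ↥InstData.M.G, Loc e KDone.K.z := by
  have h := KChart.chart KDone.lft MFive.Row.hc
  obtain ⟨e, he, hes⟩ := MFive.KPair.exists_order h (by norm_num : Nat.Prime 7) (by decide) BpSevenCo.Conj.orderOf_x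
  exact ⟨e, loc_model he (by rw [hes]; exact BpSevenCo.Conj.fr_x)⟩

theorem sm_model : ∃ (r : ↥InstData.M.G) (A : Subgroup ↥InstData.M.G), Sm r A := by
  have hfin := MFive.Row.finite_model
  have hf7 := prime_seven
  obtain ⟨r, hr, hfr⟩ := BpRankZero.MRow.exists_six
  obtain ⟨e⟩ := CpAutMSeven.ZeroComps.heSix r hr hfr
  obtain ⟨B, hB, a, ha, b, hb, hab⟩ := MonSevenHe.he_seven
  let π : ↥(centralizer ({(r : ↥InstData.M.G)} : Set ↥InstData.M.G)) →* XX (r : ↥InstData.M.G) :=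
    QuotientGroup.mk' (Zx (r : ↥InstData.M.G))
  let φ : ↥(centralizer ({(r : ↥InstData.M.G)} : Set ↥InstData.M.G)) →* Spor.He := e.toMonoidHom.comp π
  have hφ : Function.Surjective φ := e.surjective.comp (QuotientGroup.mk'_surjective _)
  have hker : IsPGroup 7 ↥φ.ker := by
    have h1 : φ.ker = Zx (r : ↥InstData.M.G) := by
      have h2 : φ.ker = π.ker := by
        ext c
        rw [MonoidHom.mem_ker, MonoidHom.mem_ker]
        show e (π c) = 1 ↔ π c = 1
        exact e.map_eq_one_iff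
      rw [h2]
      exact QuotientGroup.ker_mk' _
    rw [h1]
    refine IsPGroup.of_card (n := 1) ?_
    show Nat.card ↥(zpowers (LThreeMB.self (r : ↥InstData.M.G))) = _
    rw [Nat.card_zpowers, ← Subgroup.orderOf_coe, pow_one, ← hr, ← Subgroup.orderOf_coe r]
    rfl
  have hrr : φ (LThreeMB.self (r : ↥InstData.M.G)) = 1 := by
    show e (π _) = 1
    rw [e.map_eq_one_iff]
    exact (QuotientGroup.eq_one_iff _).2 (mem_zpowers _)
  obtain ⟨a', rfl⟩ := hφ a
  obtain ⟨b', rfl⟩ := hφ b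
  refine ⟨r, (B.comap φ).map (centralizer ({(r : ↥InstData.M.G)} : Set ↥InstData.M.G)).subtype,
    (hB.comap_of_ker_isPGroup φ hker).map _, ⟨LThreeMB.self (r : ↥InstData.M.G), ?_, rfl⟩, ?_,
    ⟨a', ⟨a', ha, rfl⟩, b', ⟨b', hb, rfl⟩, fun h1 => hab ?_⟩, card_six hr hfr⟩
  · show φ _ ∈ B
    rw [hrr]
    exact one_mem _
  · rintro _ ⟨c, -, rfl⟩
    exact mem_centralizer_singleton_iff.1 c.2
  · rw [← map_mul, ← map_mul]
    congr 1
    exact Subtype.ext h1

theorem hyp_model : Hyp KDone.K.z where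
  cases := fun _ he hez => cases_model he hez
  ex := ex_model
  h6 := by rw [card_mod]; norm_num
  h7 := by rw [card_mod]; norm_num
  sm := sm_model

theorem full_model : H794.Full 7 ↥InstData.M.G := by
  have hfin := MFive.Row.finite_model
  exact hyp_model.full

/-- **The Monster, `p = 7`.** -/
theorem fullP_m_seven {G : Type*} [Group G] [Finite G] (h : Cfsg.Spor.IsoM G) : Cfsg.Agent.H749.FullP 7 G := by
  have hfin := MFive.Row.finite_model
  have hf7 := prime_seven
  obtain ⟨f⟩ := h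
  obtain ⟨f'⟩ := Cfsg.Agent.MonsterP.Equiv.equiv
  exact H749.FullP.of_mulEquiv (f.trans f').symm (H792.SpTool.fullP_of_full full_model)

end Cfsg.Agent.H794.MonSeven
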