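import Cfsg.Agent.H794.PP
import Cfsg.Agent.SporadicStructure.DodecadM12
import Cfsg.Prelude.Def_Spor_Mathieu
import Cfsg.Agent.S0366

/-!
# The degrees `|X| - 1` of the doubly transitive Mathieu groups

* `hasPP_M24` : 23; `hasPP_M12` : 11 (on the dodecad); `hasPP_M11` : 11 (on the complement of the dodecad);
* `mem_twentytwo_M23`, `mem_twentyone_M22`.
-/

set_option autoImplicit false

namespace Cfsg.Agent.H794.MathieuPP

open Cfsg Cfsg.Agent.H794.PP Cfsg.Agent.SporadicStructure.M12Core Cfsg.Agent.SporadicStructure.DodecadM12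
open scoped Pointwise

/-- A criterion for double transitivity. -/
theorem two_of_stab {G X : Type*} [Group G] [MulAction G X] (a b : X) (h1 : ∀ x : X, ∃ g : G, g • a = x)
    (h2 : ∀ x : X, x ≠ a → ∃ g : G, g • a = a ∧ g • b = x) : MulAction.IsMultiplyPretransitive G X 2 := by
  have key : ∀ x y : X, x ≠ y → ∃ g : G, g • a = x ∧ g • b = y := by
    intro x y hxy
    obtain ⟨g, rfl⟩ := h1 x
    obtain ⟨h, h3, h4⟩ := h2 (g⁻¹ • y) (fun h => hxy (by rw [← h, smul_inv_smul]))
    exact ⟨g * h, by rw [mul_smul, h3], by rw [mul_smul, h4, smul_inv_smul]⟩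
  rw [MulAction.is_two_pretransitive_iff]
  intro x y z w hxy hzw
  obtain ⟨g, h3, h4⟩ := key x y hxy
  obtain ⟨h, h5, h6⟩ := key z w hzw
  refine ⟨h * g⁻¹, ?_, ?_⟩
  · rw [← h3, mul_smul, inv_smul_smul, h5]
  · rw [← h4, mul_smul, inv_smul_smul, h6]

/-- The action on an invariant finset. -/
@[reducible] def actFin (H : Subgroup (Equiv.Perm GolayPt)) (D : Finset GolayPt) (hD : ∀ g ∈ H, ∀ p ∈ D, g p ∈ D) :
    MulAction H {p // p ∈ D} where
  smul g p := ⟨(g : Equiv.Perm GolayPt) p, hD g g.2 p p.2⟩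
  one_smul _ := rfl
  mul_smul _ _ _ := rfl

theorem mem_of_finset (H : Subgroup (Equiv.Perm GolayPt)) (D : Finset GolayPt)
    (hD : ∀ g ∈ H, ∀ p ∈ D, g p ∈ D) (a b : GolayPt) (ha : a ∈ D) (hb : b ∈ D) (h1 : ∀ p ∈ D, ∃ g ∈ H, g a = p)
    (h2 : ∀ p ∈ D, p ≠ a → ∃ g ∈ H ⊓ MulAction.stabilizer (Equiv.Perm GolayPt) a, g b = p) {n : ℕ} (hn : D.card = n + 1)
    (hn1 : 1 ≤ n) : n ∈ charDegrees H := by
  let _ := actFin H D hD
  have h3 : MulAction.IsMultiplyPretransitive H {p // p ∈ D} 2 := by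
    refine two_of_stab ⟨a, ha⟩ ⟨b, hb⟩ ?_ ?_
    · rintro ⟨x, hx⟩
      obtain ⟨g, hg, h⟩ := h1 x hx
      exact ⟨⟨g, hg⟩, Subtype.ext h⟩
    · rintro ⟨x, hx⟩ hxa
      obtain ⟨g, hg, h⟩ := h2 x hx (fun h => hxa (Subtype.ext h))
      exact ⟨⟨g, hg.1⟩, Subtype.ext hg.2, Subtype.ext h⟩
  have h4 := mem_of_two {p // p ∈ D} h3 (by simp [hn, hn1])
  simpa [hn] using h4

/-- The mask of the dodecad of squares. -/
def dm : ℕ := 340831

theorem ddm_eq : Spor.squareDodecad = fin dm := by
  unfold Spor.squareDodecad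
  ext p
  rw [mem_fin]
  revert p
  decide +kernel

/-- `x ↦ 2 x` -/
def t2 : ℕ := 983435072843990828779021698901151808
/-- an element of `M11` moving `none` -/
def tY : ℕ := 444572319133977448504083841375357312
/-- an element of `M12` moving `0` -/
def tR : ℕ := 726522646669442125173340962317186182

/-- the table codes an element of `M12` -/
def goodM12 (t : ℕ) : Bool := good t && act t dm == dm

theorem perm_mem_M12 {t : ℕ} (h : goodM12 t = true) : perm t ∈ Spor.M12 := by
  rw [goodM12, Bool.and_eq_true, beq_iff_eq] at h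
  refine Subgroup.mem_inf.2 ⟨perm_mem_M24 h.1, ?_⟩
  rw [MulAction.mem_stabilizer_iff, ddm_eq, smul_fin (valid_of_good h.1), h.2]

theorem perm_mem_stab {t i : ℕ} (h : valid t = true) (hi : i < 24) (h0 : dig t i = i) :
    perm t ∈ MulAction.stabilizer (Equiv.Perm GolayPt) (ofPos i) := by
  rw [MulAction.mem_stabilizer_iff]
  change perm t (ofPos i) = _
  rw [perm_apply h, ap, pos_ofPos hi, h0]

/-- orbits from tables -/
theorem reach_of {H : Subgroup (Equiv.Perm GolayPt)} {l : List ℕ} (hl : ∀ t ∈ l, valid t = true ∧ perm t ∈ H)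
    {i n m : ℕ} (hm : m &&& reach l n (1 <<< i) = m) : ∀ p ∈ fin m, ∃ g ∈ H, g (ofPos i) = p := by
  intro p hp
  refine reach_sound hl (ofPos i) n (1 <<< i) ?_ p ?_
  · intro q hq
    rw [mem_fin, Nat.one_shiftLeft, Nat.testBit_two_pow, decide_eq_true_eq] at hq
    exact ⟨1, one_mem _, by rw [hq, ofPos_pos]; rfl⟩
  · rw [← hm, fin_and, Finset.mem_inter] at hp
    exact hp.2

theorem M12_smul_mem {g : Equiv.Perm GolayPt} (hg : g ∈ Spor.M12) {p : GolayPt} : g p ∈ fin dm ↔ p ∈ fin dm := by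
  have h1 : g • fin dm = fin dm := by
    rw [← ddm_eq]
    exact hg.2
  conv_lhs => rw [← h1]
  exact Finset.smul_mem_smul_finset_iff g

theorem mem_eleven_M12 : 11 ∈ charDegrees Spor.M12 := by
  refine mem_of_finset Spor.M12 (fin dm) (fun g hg p hp => (M12_smul_mem hg).2 hp) (ofPos 0) (ofPos 1) ?_ ?_
    (reach_of (l := [t2, tR]) (n := 6) ?_ ?_) ?_ ?_ (by norm_num)
  · rw [mem_fin]; decide +kernel
  · rw [mem_fin]; decide +kernel
  · intro t ht
    rcases List.mem_pair.1 ht with rfl | rfl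
    · exact ⟨by decide +kernel, perm_mem_M12 (by decide +kernel)⟩
    · exact ⟨by decide +kernel, perm_mem_M12 (by decide +kernel)⟩
  · decide +kernel
  · intro p hp hp0
    refine reach_of (H := Spor.M12 ⊓ MulAction.stabilizer (Equiv.Perm GolayPt) (ofPos 0)) (l := [t2]) (n := 10)
      (m := dm ^^^ 1) ?_ ?_ p ?_
    · intro t ht
      rw [List.mem_singleton] at ht
      subst ht
      have h1 : valid t2 = true := by decide +kernel
      exact ⟨h1, Subgroup.mem_inf.2 ⟨perm_mem_M12 (by decide +kernel), perm_mem_stab h1 (by norm_num) (by decide +kernel)⟩⟩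
    · decide +kernel
    · revert hp hp0
      rw [mem_fin, mem_fin]
      revert p
      decide +kernel
  · rw [card_fin]; decide +kernel

/-- the mask of the complement -/
def cm : ℕ := 16436384

theorem mem_eleven_M11 : 11 ∈ charDegrees Spor.M11 := by
  have hc : ∀ p : GolayPt, p ∈ fin cm ↔ p ∉ fin dm := by
    intro p
    rw [mem_fin, mem_fin]
    revert p
    decide +kernel
  refine mem_of_finset Spor.M11 (fin cm) (fun g hg p hp => ?_) (ofPos 23) (ofPos 5) ?_ ?_
    (reach_of (l := [t2, tY]) (n := 6) ?_ ?_) ?_ ?_ (by norm_num)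
  · rw [hc] at hp ⊢
    rwa [M12_smul_mem hg.1]
  · rw [mem_fin]; decide +kernel
  · rw [mem_fin]; decide +kernel
  · have h0 : ofPos 0 = some 0 := by decide
    intro t ht
    rcases List.mem_pair.1 ht with rfl | rfl
    · have h1 : valid t2 = true := by decide +kernel
      exact ⟨h1, Subgroup.mem_inf.2 ⟨perm_mem_M12 (by decide +kernel), h0 ▸ perm_mem_stab h1 (by norm_num) (by decide +kernel)⟩⟩
    · have h1 : valid tY = true := by decide +kernel
      exact ⟨h1, Subgroup.mem_inf.2 ⟨perm_mem_M12 (by decide +kernel), h0 ▸ perm_mem_stab h1 (by norm_num) (by decide +kernel)⟩⟩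
  · decide +kernel
  · intro p hp hp0
    have h0 : ofPos 0 = some 0 := by decide
    refine reach_of (H := Spor.M11 ⊓ MulAction.stabilizer (Equiv.Perm GolayPt) (ofPos 23)) (l := [t2]) (n := 10)
      (m := cm ^^^ 1 <<< 23) ?_ ?_ p ?_
    · intro t ht
      rw [List.mem_singleton] at ht
      subst ht
      have h1 : valid t2 = true := by decide +kernel
      exact ⟨h1, Subgroup.mem_inf.2 ⟨Subgroup.mem_inf.2 ⟨perm_mem_M12 (by decide +kernel),
        h0 ▸ perm_mem_stab h1 (by norm_num) (by decide +kernel)⟩,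
        perm_mem_stab h1 (by norm_num) (by decide +kernel)⟩⟩
    · decide +kernel
    · revert hp hp0
      rw [mem_fin, mem_fin]
      revert p
      decide +kernel
  · rw [card_fin]; decide +kernel

theorem mem_twentythree_M24 : 23 ∈ charDegrees M24 := by
  have h1 := S0366.result
  have h2 : MulAction.IsMultiplyPretransitive M24 GolayPt 2 :=
    MulAction.isMultiplyPretransitive_of_le (n := 5) (by norm_num) (by simp [GolayPt])
  have h3 := mem_of_two GolayPt h2 (by simp [GolayPt])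
  simpa [GolayPt] using h3

theorem hasPP_M11 {G : Type*} [Group G] (h : Spor.IsoM11 G) : HasPP G :=
  HasPP.of_nonempty ⟨11, mem_eleven_M11, (by norm_num : Nat.Prime 11).isPrimePow⟩ h

theorem hasPP_M12 {G : Type*} [Group G] (h : Spor.IsoM12 G) : HasPP G :=
  HasPP.of_nonempty ⟨11, mem_eleven_M12, (by norm_num : Nat.Prime 11).isPrimePow⟩ h

theorem hasPP_M24 {G : Type*} [Group G] (h : Spor.IsoM24 G) : HasPP G :=
  HasPP.of_nonempty ⟨23, mem_twentythree_M24, (by norm_num : Nat.Prime 23).isPrimePow⟩ h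

end Cfsg.Agent.H794.MathieuPP
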