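import Cfsg.Agent.H794.DefClosed
import Cfsg.Agent.ThreePrime.Main
import Cfsg.Agent.Mrg.Omega.ML.LieRow.Lie
import Cfsg.Prelude.Def_Exceptional

/-!
# Strongly closed 2-subgroups of simple groups, from Goldschmidt's theorem (S1252)

`Concl` : the statement of S1252 for the group `G`; `two_row` : then `Full 2 G` or `TI 2 G`.
-/

set_option autoImplicit false

namespace Cfsg.Agent.H794.TwoClosed

open Cfsg Subgroup Cfsg.Agent.H794 Cfsg.Agent.H794.DefClosed

/-- The statement of S1252 for `G`. -/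
def Concl (G : Type*) [Group G] : Prop :=
  ∀ (S : Sylow 2 G) (A : Subgroup G), Cfsg.IsStronglyClosed A (S : Subgroup G) →
    Even (A.relIndex (Subgroup.normalClosure (A : Set G))) →
    (∀ N : Subgroup G, N.Normal → N ≠ ⊥ → Even ((A ⊓ N).relIndex N)) →
    A ≠ ⊥ ∧ ∃ (r : ℕ) (L : Fin r → Subgroup G), (∀ i j, i ≠ j → ∀ a ∈ L i, ∀ b ∈ L j, a * b = b * a) ∧
      (∀ i, L i ⊓ (⨆ j ∈ {j | j ≠ i}, L j) = ⊥) ∧ (⨆ i, L i) = Subgroup.normalClosure (A : Set G) ∧
      (∀ i, IsSimpleGroup ↥(L i) ∧ ((∃ (F : Type) (_ : Field F) (_ : Fintype F) (q : ℕ), Fintype.card F = q ^ 2 ∧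
        Even q ∧ 4 ≤ q ∧ Nonempty (↥(L i) ≃* Cfsg.PSU 3 F q)) ∨ Cfsg.IsSuzuki ↥(L i))) ∧
      (∀ i, ∃ P : Sylow 2 ↥(L i), (A ⊓ L i) =
        ((Subgroup.center (P : Subgroup ↥(L i))).map (P : Subgroup ↥(L i)).subtype).map (L i).subtype)

theorem ti_suzuki {G : Type*} [Group G] [Finite G] (h : Cfsg.Lie.IsoSuzuki G) : TI 2 G := by
  have : Fact (Nat.Prime 2) := ⟨Nat.prime_two⟩
  obtain ⟨K, i1, i2, m, hm, hK, ⟨e⟩⟩ := h
  have H := Cfsg.Agent.LieRecognition.SzMatrix.good hK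
  have hs : IsSimpleGroup ↥(Cfsg.Lie.Sz K (2 ^ (m + 1))) := Cfsg.Agent.S1162.result hm hK
  have : Finite ↥(Cfsg.Lie.Sz K (2 ^ (m + 1))) := Finite.of_equiv G e.toEquiv
  exact TI.congr e.symm (ti_of_split (Omega.ML.LieRow.SzSplit.split hm hK H hs) (s := H.w) rfl)

theorem ti_psu {G : Type*} [Group G] [Finite G] [IsSimpleGroup G] (hna : ¬ IsMulCommutative G)
    {F : Type} [Field F] [Fintype F] {q : ℕ} (hF : Fintype.card F = q ^ 2) (hq : Even q) (hq4 : 4 ≤ q)
    (e : G ≃* Cfsg.PSU 3 F q) : Full 2 G ∨ TI 2 G := by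
  have : Fact (Nat.Prime 2) := ⟨Nat.prime_two⟩
  have hc : ∃ a b : G, a * b ≠ b * a := by
    by_contra hcon
    push Not at hcon
    exact hna ⟨⟨hcon⟩⟩
  have hchar : CharP F 2 := by
    obtain ⟨p, hp⟩ := CharP.exists F
    have hpp : Fact p.Prime := ⟨CharP.char_is_prime F p⟩
    obtain ⟨n, hp1, hn⟩ := FiniteField.card F p
    have h1 : 2 ∣ p ^ (n : ℕ) := by
      rw [← hn, hF]
      exact dvd_pow (even_iff_two_dvd.1 hq) (by norm_num)
    have h2 : 2 = p := (Nat.prime_dvd_prime_iff_eq Nat.prime_two hp1).1 (Nat.prime_two.dvd_of_dvd_pow h1)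
    rw [h2]
    exact hp
  refine full_or_ti_of_filt (KFacts.RgdLieCharP.hasFilt_of_lie (Or.inr (Or.inr (Or.inl ?_)))) hc
  exact ⟨F, _, _, hchar, 3, q, hF, le_rfl, by omega, ⟨e⟩⟩

/-- The structure of `G` with a strongly closed subgroup `1 < A < S`. -/
theorem two_struct {G : Type*} [Group G] [Finite G] [IsSimpleGroup G] (h : Concl G) (S : Sylow 2 G)
    (A : Subgroup G) (hA : IsStronglyClosed A (S : Subgroup G)) (hA1 : A ≠ ⊥) (hAS : A ≠ (S : Subgroup G)) :
    ∃ L : Subgroup G, L = ⊤ ∧ ((∃ (F : Type) (_ : Field F) (_ : Fintype F) (q : ℕ), Fintype.card F = q ^ 2 ∧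
        Even q ∧ 4 ≤ q ∧ Nonempty (↥L ≃* Cfsg.PSU 3 F q)) ∨ Cfsg.IsSuzuki ↥L) ∧
      ∃ P : Sylow 2 ↥L, (A ⊓ L) = ((Subgroup.center (P : Subgroup ↥L)).map (P : Subgroup ↥L).subtype).map L.subtype := by
  have : Fact (Nat.Prime 2) := ⟨Nat.prime_two⟩
  have hK : normalClosure (A : Set G) = ⊤ := by
    refine (normalClosure_normal (s := (A : Set G))).eq_bot_or_eq_top.resolve_left fun h0 => hA1 ?_
    rw [eq_bot_iff, ← h0]
    exact fun x hx => subset_normalClosure hx
  have heven : Even A.index := by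
    have h1 := relIndex_mul_index hA.1
    rw [← h1]
    apply Even.mul_right
    have h2 : A.relIndex (S : Subgroup G) ∣ Nat.card (S : Subgroup G) := relIndex_dvd_card _ _
    obtain ⟨k, hk⟩ := IsPGroup.iff_card.1 S.isPGroup'
    change A.relIndex (S : Subgroup G) ∣ Nat.card S at h2
    rw [hk] at h2
    obtain ⟨j, -, hj⟩ := (Nat.dvd_prime_pow Nat.prime_two).1 h2
    rw [hj, Nat.even_pow' (by
      rintro rfl
      rw [pow_zero, relIndex_eq_one] at hj
      exact hAS (le_antisymm hA.1 hj))]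
    exact even_two
  obtain ⟨-, r, L, hcomm, -, hsup, hL, hP⟩ := h S A hA (by rw [hK, relIndex_top_right]; exact heven) (by
    intro N hN hN1
    have hN2 : N = ⊤ := hN.eq_bot_or_eq_top.resolve_left hN1
    rw [hN2, inf_top_eq, relIndex_top_right]
    exact heven)
  rw [hK] at hsup
  have hr : ∃ i : Fin r, True := by
    by_contra hcon
    push Not at hcon
    have h1 : (⨆ i, L i) = ⊥ := by
      rw [iSup_eq_bot]
      exact fun i => (hcon i).elim
    rw [h1] at hsup
    exact bot_ne_top hsup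
  obtain ⟨i, -⟩ := hr
  have hnor : (L i).Normal := by
    rw [← normalizer_eq_top_iff, eq_top_iff, ← hsup, iSup_le_iff]
    intro j
    by_cases hij : i = j
    · subst hij
      exact le_normalizer
    · intro x hx
      rw [mem_normalizer_iff]
      intro y
      constructor
      · intro hy
        rw [← hcomm i j hij y hy x hx, mul_inv_cancel_right]
        exact hy
      · intro hy
        have h1 := hcomm i j hij _ hy x hx
        have h2 : x * (x * y * x⁻¹) * x⁻¹ = x * y * x⁻¹ := by rw [← h1, mul_inv_cancel_right]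
        have h3 : x * y * x⁻¹ = y := by
          have h4 : x⁻¹ * (x * (x * y * x⁻¹) * x⁻¹) * x = x⁻¹ * (x * y * x⁻¹) * x := by rw [h2]
          rw [show x⁻¹ * (x * (x * y * x⁻¹) * x⁻¹) * x = x * y * x⁻¹ by group,
            show x⁻¹ * (x * y * x⁻¹) * x = y by group] at h4
          exact h4
        rwa [h3] at hy
  have htop : L i = ⊤ := by
    refine hnor.eq_bot_or_eq_top.resolve_left fun h0 => ?_
    have h1 := (hL i).1
    have h2 := h1.toNontrivial
    rw [h0] at h2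
    exact not_nontrivial _ h2
  exact ⟨L i, htop, (hL i).2, hP i⟩

/-- **The rows for `p = 2`.** -/
theorem two_or {G : Type*} [Group G] [Finite G] [IsSimpleGroup G] (hna : ¬ IsMulCommutative G) (h : Concl G) :
    Full 2 G ∨ (∃ (F : Type) (_ : Field F) (_ : Fintype F) (q : ℕ), Fintype.card F = q ^ 2 ∧
        Even q ∧ 4 ≤ q ∧ Nonempty (G ≃* Cfsg.PSU 3 F q)) ∨ Cfsg.Lie.IsoSuzuki G := by
  have : Fact (Nat.Prime 2) := ⟨Nat.prime_two⟩
  by_cases hfull : Full 2 G
  · exact Or.inl hfull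
  right
  unfold Full at hfull
  push Not at hfull
  obtain ⟨S, A, hA, hA1, hAS⟩ := hfull
  obtain ⟨L, htop, hL, -⟩ := two_struct h S A hA hA1 hAS
  have e : G ≃* ↥L := (Subgroup.topEquiv.symm).trans (MulEquiv.subgroupCongr htop.symm)
  rcases hL with ⟨F, i1, i2, q, hF, hq, hq4, ⟨f⟩⟩ | hz
  · exact Or.inl ⟨F, _, _, q, hF, hq, hq4, ⟨e.trans f⟩⟩
  · right
    apply ThreePrime.Main.isoSuzuki' hna
    obtain ⟨m, -, hm⟩ := hz.2
    rw [Nat.card_congr e.toEquiv, hm]
    intro h3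
    have h30 : (3 : ℕ).Prime := Nat.prime_three
    have hmod : (2 ^ (2 * m + 1)) % 3 = 2 := by
      rw [pow_succ, pow_mul, Nat.mul_mod, Nat.pow_mod]
      norm_num
    have hpos : 0 < 2 ^ (2 * m + 1) := by positivity
    rcases (Nat.Prime.dvd_mul h30).1 h3 with h4 | h4
    · rcases (Nat.Prime.dvd_mul h30).1 h4 with h5 | h5
      · have h6 := h30.dvd_of_dvd_pow h5
        omega
      · have h6 : ((2 ^ (2 * m + 1)) ^ 2 + 1) % 3 = 2 := by
          rw [Nat.add_mod, Nat.pow_mod, hmod]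
        omega
    · omega

/-- **The rows for `p = 2`.** -/
theorem two_row {G : Type*} [Group G] [Finite G] [IsSimpleGroup G] (hna : ¬ IsMulCommutative G) (h : Concl G) :
    Full 2 G ∨ TI 2 G := by
  rcases two_or hna h with h1 | ⟨F, _, _, q, hF, hq, hq4, ⟨e⟩⟩ | h1
  · exact Or.inl h1
  · exact ti_psu hna hF hq hq4 e
  · exact Or.inr (ti_suzuki h1)

/-- abelian Sylow 2-subgroups -/
theorem eq_of_comm {G : Type*} [Group G] [Finite G] [IsSimpleGroup G] (h : Concl G) (S : Sylow 2 G)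
    (hS : IsMulCommutative (S : Subgroup G)) (A : Subgroup G) (hA : IsStronglyClosed A (S : Subgroup G)) :
    A = ⊥ ∨ A = (S : Subgroup G) := by
  have : Fact (Nat.Prime 2) := ⟨Nat.prime_two⟩
  by_contra hcon
  push Not at hcon
  obtain ⟨L, htop, -, P, hP⟩ := two_struct h S A hA hcon.1 hcon.2
  apply hcon.2
  have hQ : IsPGroup 2 ((P : Subgroup L).map L.subtype) := P.isPGroup'.map _
  obtain ⟨Q, hQ⟩ := hQ.exists_le_sylow
  obtain ⟨g, hg⟩ := MulAction.exists_smul_eq G Q S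
  have hPc : ∀ x ∈ (P : Subgroup L), ∀ y ∈ (P : Subgroup L), x * y = y * x := by
    intro x hx y hy
    apply Subtype.ext
    have h1 : ∀ z ∈ (P : Subgroup L), g * (z : G) * g⁻¹ ∈ (S : Subgroup G) := by
      intro z hz
      rw [← hg]
      exact ⟨z, hQ ⟨z, hz, rfl⟩, rfl⟩
    have h2 := H795.comm_of hS (h1 x hx) (h1 y hy)
    have h3 : g * ((x : G) * (y : G)) * g⁻¹ = g * ((y : G) * (x : G)) * g⁻¹ := by
      rw [show g * ((x : G) * (y : G)) * g⁻¹ = (g * x * g⁻¹) * (g * y * g⁻¹) by group, h2]; group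
    exact mul_left_cancel (mul_right_cancel h3)
  have hcen : Subgroup.center (P : Subgroup ↥L) = ⊤ := by
    rw [eq_top_iff]
    intro x _
    rw [mem_center_iff]
    intro y
    exact Subtype.ext (hPc y y.2 x x.2)
  rw [hcen, ← MonoidHom.range_eq_map, Subgroup.range_subtype] at hP
  apply Subgroup.eq_of_le_of_card_ge hA.1
  have h1 : Nat.card (P : Subgroup L) = Nat.card (A ⊓ L : Subgroup G) := by
    rw [hP]
    exact Nat.card_congr ((P : Subgroup L).equivMapOfInjective _ L.subtype_injective).toEquiv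
  have h2 : Nat.card (P : Subgroup L) = Nat.card (S : Subgroup G) := by
    change Nat.card P = Nat.card S
    have h3 : Nat.card L = Nat.card G := by rw [htop, Subgroup.card_top]
    rw [Sylow.card_eq_multiplicity, Sylow.card_eq_multiplicity, h3]
  rw [← h2, h1]
  exact Nat.card_le_card_of_injective _ (Subgroup.inclusion_injective (inf_le_left : A ⊓ L ≤ A))

theorem abIrr_two {G : Type*} [Group G] [Finite G] [IsSimpleGroup G] (h : Concl G) : H795.AbIrr 2 G := by
  have : Fact (Nat.Prime 2) := ⟨Nat.prime_two⟩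
  intro S hS B hBS hB hinv
  rcases eq_of_comm h S hS B (stronglyClosed_of_inv S hS hBS hinv) with h1 | h1
  · exact Or.inl h1
  · exact Or.inr fun x hx _ => by rw [h1]; exact hx

end Cfsg.Agent.H794.TwoClosed
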