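import Cfsg.Agent.H794.PP
import Cfsg.Agent.Mrg.ParSys.Fam.TwoFFour
import Cfsg.Agent.S1113
import Cfsg.Agent.S1074

/-!
# The Steinberg character of `²F₄(2)` and a character degree of the Tits group which is a power of two
-/

set_option autoImplicit false
set_option linter.unusedSectionVars false

namespace Cfsg.Agent.H794.TitsPP

open Cfsg.Lie
open Cfsg.Agent.ParSys.Fam.TwoFFour
open Cfsg.Agent.ChevalleyStructure.TwF4.Tables
open Cfsg.Agent.ChevalleyStructure.TwF4.Rel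
open Cfsg.Agent.ChevalleyStructure.TwF4.Groups Cfsg.Agent.ChevalleyStructure.TwF4.RankOne
open Cfsg.Agent.ChevalleyStructure.TwF4.Twisted Cfsg.Agent.ChevalleyStructure.TwF4.TwistedFix
open Cfsg.Agent.ChevalleyStructure.TwF4.BN
open Cfsg.Agent.ChevalleyStructure.TwF4.Torus (T chi T_conj_X T_inr chi_def)
open Cfsg.Agent.ChevalleyStructure.TwF4.TorusFix (mem_iff pow_unit T_rt rt)
open Cfsg.Agent.ChevalleyStructure.TwF4.TwGen (tc)
open Cfsg.Agent.Schreier.TwFFour

variable {K : Type*} [Field K] [Fintype K] {m : ℕ}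

/-- The groups `²F₄(2 ^ (2 m + 1))` have a split (B,N)-pair, `m = 0` included. -/
theorem hasSplit (hK : Fintype.card K = 2 ^ (2 * m + 1)) : FixBN.HasSplit 2 ↥(twistedF4 K (2 ^ m)) := by
  have : CharP K 2 := charP_two hK
  have : Fact (Nat.Prime 2) := ⟨Nat.prime_two⟩
  obtain ⟨φ, hφ⟩ := exists_rln hK
  obtain ⟨P, hPB, hPN, -, hPS⟩ := Cfsg.Agent.ChevalleyStructure.TwF4.BNIrred.exists_bnPair_irreducible hφ
  have hB : P.B = B0 K (2 ^ m) := hPB
  have hdec := dec hK hφ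
  have hUp := isPGroup_U0 hK
  have node_1 := node1 hφ hB
  have node_2 := node2 hφ hB
  have hdB : ∀ b ∈ P.B, ∃ s t : Kˣ, ∃ u ∈ U0 K (2 ^ m), b = u * tt hdec s t := by
    intro b hb
    rw [hB] at hb
    obtain ⟨s, t, u, hu, hbu⟩ := hdec.1 b hb
    exact ⟨s, t, u, hu, Subtype.ext hbu⟩
  have httN : ∀ s t : Kˣ, tt hdec s t ∈ P.N := fun s t => by
    rw [hPN]
    exact Cfsg.Agent.ChevalleyStructure.TwF4.NStruct.T_mem_N _
  have hH : ∀ h ∈ P.B, h ∈ P.N → ∃ s t : Kˣ, h = tt hdec s t := by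
    intro h hh hN
    rw [hPB, Subgroup.mem_subgroupOf] at hh
    rw [hPN, Subgroup.mem_subgroupOf] at hN
    have h1 := borel_inf_N ⟨hh, hN⟩
    obtain ⟨s, t, hst⟩ := (mem_iff hK (h : GL chevF4.Idx K)).1 ⟨h1, h.2⟩
    exact ⟨s, t, Subtype.ext hst⟩
  have hUB : U0 K (2 ^ m) ≤ P.B := by rw [hB]; exact U0_le_B0
  have hnorm : ∀ b ∈ P.B, ∀ u ∈ U0 K (2 ^ m), b * u * b⁻¹ ∈ U0 K (2 ^ m) := fun b hb u hu => by
    rw [hB] at hb
    exact conj_U0 hb hu
  have hsplit : FixBN.Split P 2 (U0 K (2 ^ m)) :=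
    { le := hUB
      norm := hnorm
      isP := hUp
      cover := fun b hb => by
        obtain ⟨s, t, u, hu, rfl⟩ := hdB b hb
        refine ⟨u, hu, ?_⟩
        rw [inv_mul_cancel_left]
        exact httN s t
      tor := ⟨2 ^ (2 * m + 1) - 1, by
        have h1 : 2 ∣ 2 ^ (2 * m + 1) := dvd_pow_self 2 (by omega)
        have h2 : 0 < 2 ^ (2 * m + 1) := by positivity
        omega, fun h hh hN => by
        obtain ⟨s, t, rfl⟩ := hH h hh hN
        apply Subtype.ext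
        show T (tc (2 ^ m) s t) ^ (2 ^ (2 * m + 1) - 1) = 1
        rw [← map_pow]
        have h2 : tc (2 ^ m) s t ^ (2 ^ (2 * m + 1) - 1) = 1 := by
          have h3 : ∀ x : Kˣ, x ^ (2 ^ (2 * m + 1) - 1) = 1 := by
            intro x
            have h4 := pow_card_eq_one' (x := x)
            rwa [Nat.card_units, Nat.card_eq_fintype_card, hK] at h4
          funext l
          rw [Pi.pow_apply, h3]; rfl
        rw [h2, map_one]⟩
      node := by
        intro s hs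
        rw [hPS] at hs
        rcases hs with rfl | hs
        · exact ⟨_, node_1⟩
        · rw [Set.mem_singleton_iff] at hs
          subst hs
          exact ⟨_, node_2⟩
      core := by
        rw [hPB, ← Subgroup.inf_subgroupOf_right]
        exact Cfsg.Agent.S1113.result hK }
  exact ⟨P, U0 K (2 ^ m), by rw [hPS]; exact Set.insert_nonempty _ _, hsplit⟩

theorem hasPP_titsGroup : PP.HasPP TitsGroup := by
  have : Fact (Nat.Prime 2) := ⟨Nat.prime_two⟩
  obtain ⟨hidx, -, -, hcard⟩ := Cfsg.Agent.S1074.result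
  have h0 : FixBN.HasSplit 2 ↥(twistedF4 (ZMod 2) 1) := hasSplit (K := ZMod 2) (m := 0) (by simp)
  obtain ⟨χ, hχ, h1⟩ := Cfsg.Agent.H163.Steinberg.exists_irr_of_hasSplit h0
  obtain ⟨h2, -⟩ := h1 default
  obtain ⟨k, hk⟩ := IsPGroup.iff_card.1 (default : Sylow 2 ↥(twistedF4 (ZMod 2) 1)).isPGroup'
  have hcard' : Nat.card ↥(twistedF4 (ZMod 2) 1) = 2 ^ 12 * (3 ^ 3 * 5 ^ 2 * 13) := by
    rw [← Subgroup.card_mul_index (commutator ↥(twistedF4 (ZMod 2) 1)), hidx, hcard]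
    norm_num
  have hk12 : 2 ^ 12 ∣ 2 ^ k := by
    rw [← hk]
    exact Sylow.pow_dvd_card_of_pow_dvd_card _ (by rw [hcard']; exact dvd_mul_right _ _)
  have hk' : 2 ^ 12 ≤ 2 ^ k := Nat.le_of_dvd (by positivity) hk12
  rw [hk] at h2
  have h3 : 2 ^ k ∈ Cfsg.charDegrees ↥(twistedF4 (ZMod 2) 1) :=
    Cfsg.Agent.H681.DegBasic.mem_charDegrees.2 ⟨χ, hχ, h2⟩
  have h4 : (commutator ↥(twistedF4 (ZMod 2) 1)).index < 2 ^ k := by
    rw [hidx]
    exact lt_of_lt_of_le (by norm_num) hk'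
  exact PP.hasPP_of_index _ Nat.prime_two h3 h4

theorem hasPP_tits {G : Type*} [Group G] (h : IsoTits G) : PP.HasPP G :=
  PP.HasPP.of_nonempty hasPP_titsGroup h

end Cfsg.Agent.H794.TitsPP
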