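import Cfsg.Agent.H681.DegBasic
import Cfsg.Agent.S0157
import Cfsg.Agent.H163.Steinberg
import Cfsg.Agent.Mrg.Omega.ML.LieRow.Lie
import Cfsg.Agent.OddHalf.Known
import Mathlib.GroupTheory.GroupAction.MultipleTransitivity
import Mathlib.GroupTheory.SpecificGroups.Alternating

/-!
# Character degrees that are prime powers

`HasPP G` : some irreducible character degree of `G` is a prime power `> 1`.

* `hasPP_of_two` : 2-transitive on `q + 1` points;
* `hasPP_alt` : alternating groups of degree `q + 1`;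
* `hasSplit_of_isLieTypeChar`, `hasPP_lie` : groups of Lie type (Steinberg character);
* `HasPP.subgroup` : from a group to a normal subgroup of small index.
-/

set_option autoImplicit false

namespace Cfsg.Agent.H794.PP

open Cfsg Cfsg.Agent.H681.DegBasic Cfsg.Agent.Characters.Core Cfsg.Agent.FixBN

/-- Some character degree is a prime power. -/
def HasPP (G : Type*) [Group G] : Prop := ∃ d ∈ charDegrees G, IsPrimePow d

theorem HasPP.congr {G K : Type*} [Group G] [Group K] (e : G ≃* K) (h : HasPP G) : HasPP K := by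
  obtain ⟨d, hd, hp⟩ := h
  exact ⟨d, charDegrees_comp e.symm.toMonoidHom e.symm.surjective hd, hp⟩

theorem HasPP.of_nonempty {G K : Type*} [Group G] [Group K] (h : HasPP K) (e : Nonempty (G ≃* K)) : HasPP G := by
  obtain ⟨e⟩ := e
  exact h.congr e.symm

/-- The degree `|X| - 1` of a 2-transitive group. -/
theorem mem_of_two {G : Type*} [Group G] [Finite G] (X : Type*) [MulAction G X] [Finite X]
    (h2 : MulAction.IsMultiplyPretransitive G X 2) (hX : 2 ≤ Nat.card X) : Nat.card X - 1 ∈ charDegrees G := by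
  have h1 : MulAction.IsPretransitive G X := by
    rw [← MulAction.is_one_pretransitive_iff]
    exact MulAction.isMultiplyPretransitive_of_le (m := 1) (n := 2) (by norm_num) hX
  refine mem_charDegrees.2 ⟨_, (S0157.result X hX).2 h2, ?_⟩
  have h3 : MulAction.fixedBy X (1 : G) = Set.univ := by
    ext x; simp
  rw [h3, Nat.card_coe_set_eq, Set.ncard_univ, Nat.cast_sub (by omega), Nat.cast_one]

theorem hasPP_of_two {G : Type*} [Group G] [Finite G] (X : Type*) [MulAction G X] [Finite X]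
    (h2 : MulAction.IsMultiplyPretransitive G X 2) (hX : IsPrimePow (Nat.card X - 1)) : HasPP G := by
  refine ⟨_, mem_of_two X h2 ?_, hX⟩
  have := hX.two_le
  omega

/-- The degree `n - 1` of the alternating group. -/
theorem hasPP_alt {G : Type*} [Group G] {n : ℕ} (hn : 5 ≤ n) (e : G ≃* alternatingGroup (Fin n))
    (h : IsPrimePow (n - 1)) : HasPP G := by
  refine HasPP.congr e.symm (hasPP_of_two (Fin n) ?_ (by rwa [Nat.card_eq_fintype_card, Fintype.card_fin]))
  have := alternatingGroup.isMultiplyPretransitive (Fin n)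
  apply MulAction.isMultiplyPretransitive_of_le (n := Nat.card (Fin n) - 2)
  · rw [Nat.card_eq_fintype_card, Fintype.card_fin]
    omega
  · exact Nat.sub_le _ _

theorem hasPP_of_split {K : Type*} [Group K] [Finite K] {P : Cfsg.BNPair K} {p : ℕ} (hp : p.Prime)
    {U : Subgroup K} (h : FixBN.Split P p U) (hS : P.S.Nonempty) : HasPP K := by
  have : Fact p.Prime := ⟨hp⟩
  obtain ⟨χ, hχ, h1⟩ := Cfsg.Agent.H163.Steinberg.exists_irr_of_split h
  obtain ⟨h2, -⟩ := h1 default
  obtain ⟨k, hk⟩ := IsPGroup.iff_card.1 (default : Sylow p K).isPGroup'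
  refine ⟨_, mem_charDegrees.2 ⟨χ, hχ, h2⟩, ?_⟩
  rw [hk]
  refine (isPrimePow_nat_iff _).2 ⟨p, k, hp, ?_, rfl⟩
  rw [Nat.pos_iff_ne_zero]
  rintro rfl
  rw [pow_zero] at hk
  -- a nontrivial p-element
  obtain ⟨s, hs⟩ := hS
  obtain ⟨V, hV⟩ := h.node s hs
  obtain ⟨u, hu, huV⟩ := hV.ne
  obtain ⟨Q, hQ⟩ := h.isP.exists_le_sylow
  have h3 : Nat.card Q = 1 := by rw [← hk]; exact Nat.card_congr (Sylow.equiv Q default).toEquiv
  have h4 := Subgroup.eq_bot_of_card_eq (Q : Subgroup K) h3
  have h5 : u = 1 := by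
    have := hQ hu
    rw [h4] at this
    exact Subgroup.mem_bot.1 this
  exact huV (h5 ▸ V.one_mem)

theorem hasPP_of_hasSplit {K : Type*} [Group K] [Finite K] {p : ℕ} (hp : p.Prime)
    (h : FixBN.HasSplit p K) : HasPP K := by
  obtain ⟨P, U, hS, hU⟩ := h
  exact hasPP_of_split hp hU hS

/-- A character degree of `G` which is a power `p ^ k` gives a character degree of the normal subgroup `N` which is
a power of `p`, at least `p ^ k / |G : N|`. -/
theorem hasPP_of_index {G : Type*} [Group G] [Finite G] (N : Subgroup G) [N.Normal] {p k : ℕ} (hp : p.Prime)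
    (h : p ^ k ∈ charDegrees G) (hN : N.index < p ^ k) : HasPP N := by
  have := Fintype.ofFinite G
  have := Fintype.ofFinite N
  obtain ⟨χ, hχ, h1⟩ := mem_charDegrees.1 h
  obtain ⟨ψ, d, hψ, hd, -, hdvd, hidx⟩ := exists_constituent N hχ h1
  obtain ⟨j, hj, rfl⟩ := (Nat.dvd_prime_pow hp).1 hdvd
  refine ⟨_, mem_charDegrees.2 ⟨ψ, hψ, hd⟩, (isPrimePow_nat_iff _).2 ⟨p, j, hp, ?_, rfl⟩⟩
  rw [Nat.pos_iff_ne_zero]
  rintro rfl
  rw [pow_zero, Nat.div_one] at hidx
  have := Nat.le_of_dvd (Nat.pos_of_ne_zero Subgroup.index_ne_zero_of_finite) hidx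
  omega

/-- Every simple group of Lie type has a split (B,N)-pair. -/
theorem hasSplit_of_isLieTypeChar {p : ℕ} (hp : p.Prime) {G : Type*} [Group G] [IsSimpleGroup G]
    (h : IsLieTypeChar p G) : FixBN.HasSplit p G := by
  rcases Nodes.RGDLie.hasRGD_of_lie h with h1 | ⟨rfl, h1⟩ | ⟨rfl, h1⟩ | ⟨rfl, h1⟩
  · exact Omega.ML.LieRow.hasSplit_of_rgd hp h1
  · exact Omega.ML.LieRow.hasSplit_of_lie h
  · exact Omega.ML.LieRow.hasSplit_of_lie h
  · exact FixBN.ReeSplit.hasSplit_of_isoRee h1

/-- The Steinberg character. -/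
theorem hasPP_lie {p : ℕ} (hp : p.Prime) {G : Type*} [Group G] [Finite G] [IsSimpleGroup G]
    (h : IsLieTypeChar p G) : HasPP G :=
  hasPP_of_hasSplit hp (hasSplit_of_isLieTypeChar hp h)

end Cfsg.Agent.H794.PP
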