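import Cfsg.Agent.H794.MonCore
import Cfsg.Agent.H794.MonSec
import Cfsg.Agent.H794.Full

/-!
# Sylow 7-subgroups of order `7 ^ 6`, local part (helper794)

`Loc x z` : `x` of order 7 and the involution `z` commute, `z` is the only involution of `Γ = C(x) ∩ C(z)`, `Γ` contains `f` of
order 5, `v` of order 7 with `[f, v]` of even order and a conjugate of `x` outside `⟨x⟩`.
`Loc.exists_big` : when `7³` divides `|C(x)|`: the subgroup `R = O₇(C(x))` of order `7 ^ 5`, `E` of order 49 in `Γ`.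
-/

set_option autoImplicit false
set_option linter.unusedSectionVars false

namespace Cfsg.Agent.H794.MonSevenLoc

open Subgroup Cfsg Cfsg.Agent.H794.MonCore Cfsg.Agent.H794.MonSec

universe u

variable {G : Type u} [Group G] [Finite G]

/-! ### General lemmas -/

theorem not_pow_dvd_mul {p a b m n : ℕ} (hp : p.Prime) (ha0 : a ≠ 0) (hb0 : b ≠ 0) (ha : ¬ p ^ (m + 1) ∣ a)
    (hb : ¬ p ^ (n + 1) ∣ b) : ¬ p ^ (m + n + 1) ∣ a * b := by
  rw [hp.pow_dvd_iff_le_factorization ha0] at ha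
  rw [hp.pow_dvd_iff_le_factorization hb0] at hb
  rw [hp.pow_dvd_iff_le_factorization (Nat.mul_ne_zero ha0 hb0), Nat.factorization_mul ha0 hb0, Finsupp.add_apply]
  omega

theorem card_eq_pow {p k : ℕ} [hp : Fact p.Prime] {D E : Subgroup G} (hED : E ≤ D) (hE : IsPGroup p ↥E)
    (hk : p ^ k ∣ Nat.card ↥E) (hD : ¬ p ^ (k + 1) ∣ Nat.card ↥D) : Nat.card ↥E = p ^ k := by
  obtain ⟨e, he⟩ := IsPGroup.iff_card.1 hE
  rw [he] at hk ⊢
  have h1 := (Nat.pow_dvd_pow_iff_le_right hp.out.one_lt).1 hk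
  have h2 : e ≤ k := by
    by_contra hlt
    exact hD ((pow_dvd_pow p (by omega)).trans (he ▸ Subgroup.card_dvd_of_le hED))
  rw [le_antisymm h2 h1]

/-- Conjugation into a Sylow subgroup of `D`. -/
theorem exists_conj_le {p k : ℕ} [hp : Fact p.Prime] {D E : Subgroup G} (hED : E ≤ D) (hE : IsPGroup p ↥E)
    (hk : p ^ k ∣ Nat.card ↥E) (hD : ¬ p ^ (k + 1) ∣ Nat.card ↥D) {Q : Subgroup G} (hQD : Q ≤ D)
    (hQ : IsPGroup p ↥Q) : ∃ d ∈ D, ∀ q ∈ Q, d * q * d⁻¹ ∈ E := by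
  have hE1 : IsPGroup p ↥(E.subgroupOf D) := hE.comap_of_injective D.subtype D.subtype_injective
  have hQ1 : IsPGroup p ↥(Q.subgroupOf D) := hQ.comap_of_injective D.subtype D.subtype_injective
  obtain ⟨P, hP⟩ := hE1.exists_le_sylow
  obtain ⟨P1, hP1⟩ := hQ1.exists_le_sylow
  have hcE : Nat.card ↥(E.subgroupOf D) = Nat.card ↥E := Nat.card_congr (Subgroup.subgroupOfEquivOfLe hED).toEquiv
  have hPE : E.subgroupOf D = (P : Subgroup ↥D) := by
    refine Subgroup.eq_of_le_of_card_ge hP ?_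
    obtain ⟨n, hn⟩ := IsPGroup.iff_card.1 P.2
    rw [hcE, hn]
    refine (Nat.pow_le_pow_right hp.out.pos ?_).trans (Nat.le_of_dvd Nat.card_pos hk)
    by_contra hlt
    exact hD ((pow_dvd_pow p (by omega)).trans (hn ▸ Subgroup.card_subgroup_dvd_card (P : Subgroup ↥D)))
  obtain ⟨n, hn⟩ := MulAction.exists_smul_eq ↥D P1 P
  refine ⟨n, n.2, fun q hq => ?_⟩
  have h3 : (⟨q, hQD hq⟩ : ↥D) ∈ (P1 : Subgroup ↥D) := hP1 hq
  have h4 : n * ⟨q, hQD hq⟩ * n⁻¹ ∈ E.subgroupOf D := by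
    rw [hPE, ← hn]
    exact Subgroup.smul_mem_pointwise_smul _ (MulAut.conj n) (P1 : Subgroup ↥D) h3
  exact h4

theorem sq_dvd_of_notMem {p : ℕ} [hp : Fact p.Prime] {E : Subgroup G} (hE : IsPGroup p ↥E) {x y : G}
    (hx : orderOf x = p) (hxE : x ∈ E) (hy : y ∈ E) (hyx : y ∉ zpowers x) : p ^ 2 ∣ Nat.card ↥E := by
  obtain ⟨n, hn⟩ := IsPGroup.iff_card.1 hE
  rw [hn]
  apply pow_dvd_pow
  by_contra hlt
  have h1 : Nat.card ↥E ≤ Nat.card ↥(zpowers x) := by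
    rw [hn, Nat.card_zpowers, hx]
    calc p ^ n ≤ p ^ 1 := Nat.pow_le_pow_right hp.out.pos (by omega)
      _ = p := pow_one p
  have h2 := Subgroup.eq_of_le_of_card_ge (zpowers_le.2 hxE) h1
  exact hyx (h2 ▸ hy)

omit [Finite G] in
theorem isPGroup_zpowers {p k : ℕ} {y : G} (h : y ^ p ^ k = 1) : IsPGroup p ↥(zpowers y) := by
  rintro ⟨a, ha⟩
  obtain ⟨i, rfl⟩ := mem_zpowers_iff.1 ha
  refine ⟨k, Subtype.ext ?_⟩
  show (y ^ i) ^ p ^ k = 1
  rw [← zpow_natCast, ← zpow_mul, mul_comm, zpow_mul, zpow_natCast, h, one_zpow]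

omit [Finite G] in
theorem conj_zpowers_of_comm {x c : G} (hc : c * x = x * c) {a : G} (ha : a ∈ zpowers x) : c * a * c⁻¹ = a := by
  obtain ⟨i, rfl⟩ := mem_zpowers_iff.1 ha
  exact mul_inv_eq_iff_eq_mul.2 ((show Commute c x from hc).zpow_right i).eq

theorem isPGroup_two {p : ℕ} {x y : G} (hxy : y * x = x * y) (hx : IsPGroup p ↥(zpowers x))
    (hy : IsPGroup p ↥(zpowers y)) : IsPGroup p ↥(zpowers x ⊔ zpowers y) := by
  rw [sup_comm]
  refine hy.to_sup_of_normal_right' hx ?_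
  rw [zpowers_le]
  exact Transfer.FusionBasic.mem_normalizer_of_conj_mem fun a ha => by
    rw [conj_zpowers_of_comm hxy ha]; exact ha

theorem not_even {U : Subgroup G} (hU : Odd (Nat.card ↥U)) {w : G} (hw : w ∈ U) : ¬ Even (orderOf w) := by
  have h1 : orderOf (⟨w, hw⟩ : ↥U) ∣ Nat.card ↥U := orderOf_dvd_natCard _
  rw [Subgroup.orderOf_mk] at h1
  exact Nat.not_even_iff_odd.2 (hU.of_dvd_nat h1)

/-! ### The setting -/

/-- `C(x) ∩ C(z)` -/
def Ga (x z : G) : Subgroup G := centralizer ({x} : Set G) ⊓ centralizer ({z} : Set G)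

omit [Finite G] in
theorem mem_Ga {x z c : G} : c ∈ Ga x z ↔ c * x = x * c ∧ c * z = z * c := by
  rw [Ga, mem_inf, mem_centralizer_singleton_iff, mem_centralizer_singleton_iff]

/-- The hypotheses on `x`. -/
structure Loc (x z : G) : Prop where
  hz : orderOf z = 2
  hx : orderOf x = 7
  zx : z * x = x * z
  only : ∀ u : G, u * x = x * u → u * z = z * u → u * u = 1 → u = 1 ∨ u = z
  fv : ∃ f v : G, f ^ 5 = 1 ∧ v ^ 7 = 1 ∧ f ∈ Ga x z ∧ v ∈ Ga x z ∧ Even (orderOf (f * v * f⁻¹ * v⁻¹))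
  cj : ∃ g : G, g * x * g⁻¹ ∈ Ga x z ∧ g * x * g⁻¹ ∉ zpowers x
  cz : ¬ 7 ^ 3 ∣ Nat.card ↥(centralizer ({z} : Set G))

theorem prime_seven : Fact (Nat.Prime 7) := ⟨by norm_num⟩

theorem prime_five : Fact (Nat.Prime 5) := ⟨by norm_num⟩

variable {x z : G}

theorem Loc.xGa (h : Loc x z) : x ∈ Ga x z := mem_Ga.2 ⟨rfl, h.zx.symm⟩

theorem Loc.cGa (h : Loc x z) : ¬ 7 ^ (2 + 1) ∣ Nat.card ↥(Ga x z) := fun h1 =>
  h.cz (h1.trans (Subgroup.card_dvd_of_le inf_le_right))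

theorem Loc.xP (h : Loc x z) : IsPGroup 7 ↥(zpowers x) :=
  isPGroup_zpowers (k := 1) (by rw [pow_one, ← h.hx, pow_orderOf_eq_one])

/-- `f`, `v` are in no normal subgroup of odd order of `Γ`. -/
theorem notMem_of_even {O : Subgroup G} {f v : G} (hO : Odd (Nat.card ↥O))
    (hn : ∀ c ∈ Ga x z, ∀ o ∈ O, c * o * c⁻¹ ∈ O) (hf : f ∈ Ga x z) (hv : v ∈ Ga x z)
    (he : Even (orderOf (f * v * f⁻¹ * v⁻¹))) : f ∉ O ∧ v ∉ O := by
  constructor
  · intro h1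
    refine not_even hO ?_ he
    have e : f * v * f⁻¹ * v⁻¹ = f * (v * f⁻¹ * v⁻¹) := by group
    rw [e]
    exact mul_mem h1 (hn v hv _ (inv_mem h1))
  · intro h1
    refine not_even hO ?_ he
    exact mul_mem (hn f hf _ h1) (inv_mem h1)

/-- The 7-elements of a normal subgroup of odd order of `Γ` are in `⟨x⟩`. -/
theorem Loc.seven_mem (h : Loc x z) {O : Subgroup G} (hO : Odd (Nat.card ↥O)) (hOG : O ≤ Ga x z)
    (hn : ∀ c ∈ Ga x z, ∀ o ∈ O, c * o * c⁻¹ ∈ O) (hxO : x ∈ O) {e : G} (heO : e ∈ O) {k : ℕ}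
    (he : e ^ 7 ^ k = 1) : e ∈ zpowers x := by
  have h7 := prime_seven
  by_contra hne
  obtain ⟨f, v, -, hv7, hf, hv, hev⟩ := h.fv
  have hex := (mem_Ga.1 (hOG heO)).1
  have hP : IsPGroup 7 ↥(zpowers x ⊔ zpowers e) := isPGroup_two hex h.xP (isPGroup_zpowers he)
  have hle : zpowers x ⊔ zpowers e ≤ O := sup_le (zpowers_le.2 hxO) (zpowers_le.2 heO)
  obtain ⟨d, hd, hdv⟩ := exists_conj_le (D := Ga x z) (hle.trans hOG) hP
    (sq_dvd_of_notMem hP h.hx (mem_sup_left (mem_zpowers x)) (mem_sup_right (mem_zpowers e)) hne) h.cGa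
    (Q := zpowers v) (zpowers_le.2 hv) (isPGroup_zpowers (k := 1) (by rw [pow_one, hv7]))
  refine (notMem_of_even hO hn hf hv hev).2 ?_
  have h1 := hn d⁻¹ (inv_mem hd) _ (hle (hdv v (mem_zpowers v)))
  rwa [show d⁻¹ * (d * v * d⁻¹) * d⁻¹⁻¹ = v by group] at h1

end Cfsg.Agent.H794.MonSevenLoc
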