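import Cfsg.Agent.PermutationGroups.OnanScott
import Cfsg.Agent.Lib.ModFour

/-!
# Class sizes of elements of a minimal normal subgroup

`N` is a minimal normal subgroup of `G`, `N = T₁ × ⋯ × T_m` with `Tᵢ` non-abelian simple.
* `card_class_single` : the `G`-class of an element of a factor.
* `le_card_class` : a lower bound for the size of the class of an element of `N` all whose nontrivial
  components have classes of size at least `c`.
-/

set_option autoImplicit false

namespace Cfsg.Agent.H794.SocleCount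

open Subgroup

/-- The coordinates of a minimal normal subgroup (as in `OnanScott.exists_coordinates`). -/
structure Coord {G : Type*} [Group G] (N : Subgroup G) (m : ℕ) (T : Fin m → Subgroup G)
    (e : N ≃* (∀ i, T i)) : Prop where
  pos : 0 < m
  simple : ∀ i, IsSimpleGroup (T i)
  nc : ∀ i, ∃ a b : T i, a * b ≠ b * a
  inj : Function.Injective T
  le : ∀ i, T i ≤ N
  conj : ∀ (g : G) i, ∃ j, T j = (T i).map (MulAut.conj g).toMonoidHom
  trans : ∀ i j, ∃ g : G, T j = (T i).map (MulAut.conj g).toMonoidHom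
  single : ∀ i (t : T i), ((e.symm (Pi.mulSingle i t) : N) : G) = t
  one_iff : ∀ (n : N) i, e n i = 1 ↔ ∀ t ∈ T i, Commute (n : G) t

theorem exists_coord {G : Type*} [Group G] [Finite G] (N : Subgroup G) [N.Normal]
    (hmin : ∀ M : Subgroup G, M.Normal → M ≤ N → M = ⊥ ∨ M = N)
    (hna : ¬ ∀ x ∈ N, ∀ y ∈ N, Commute x y) :
    ∃ (m : ℕ) (T : Fin m → Subgroup G) (e : N ≃* (∀ i, T i)), Coord N m T e := by
  obtain ⟨m, T, e, h0, h1, h2, h3, h4, -, h6, h7, h8, h9⟩ :=
    PermutationGroups.OnanScott.exists_coordinates N hmin hna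
  exact ⟨m, T, e, h0, h1, h2, h3, h4, h6, h7, h8, h9⟩

variable {G : Type*} [Group G] {N : Subgroup G} {m : ℕ} {T : Fin m → Subgroup G}
  {e : N ≃* (∀ i, T i)}

theorem Coord.disj (h : Coord N m T e) {i j : Fin m} {x : G} (hi : x ∈ T i) (hj : x ∈ T j) (hx : x ≠ 1) :
    i = j := by
  by_contra hij
  have h1 := h.single i ⟨x, hi⟩
  have h2 := h.single j ⟨x, hj⟩
  have h3 : e.symm (Pi.mulSingle i ⟨x, hi⟩) = e.symm (Pi.mulSingle j ⟨x, hj⟩) :=
    Subtype.ext (h1.trans h2.symm)
  have h4 := e.symm.injective h3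
  have h5 := congrFun h4 i
  rw [Pi.mulSingle_eq_same, Pi.mulSingle_eq_of_ne hij] at h5
  exact hx (congrArg Subtype.val h5)

/-- The components are permuted by conjugation. -/
theorem Coord.exists_perm (h : Coord N m T e) (g : G) : ∃ σ : Equiv.Perm (Fin m), ∀ i, T (σ i) = (T i).map (MulAut.conj g).toMonoidHom := by
  choose f hf using h.conj g
  have hinj : Function.Injective f := by
    intro i j hij
    have h1 : (T i).map (MulAut.conj g).toMonoidHom = (T j).map (MulAut.conj g).toMonoidHom := by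
      rw [← hf i, ← hf j, hij]
    exact h.inj (Subgroup.map_injective (MulAut.conj g).injective h1)
  exact ⟨Equiv.ofBijective f (Finite.injective_iff_bijective.1 hinj), hf⟩

/-- The class of an element of one factor. -/
theorem card_class_single [Finite G] (h : Coord N m T e) (P : ∀ i, T i → Prop) (c : ℕ)
    (hP : ∀ i, Nat.card {t : T i // P i t} = c)
    (hone : ∀ i t, P i t → (t : G) ≠ 1)
    (hinv : ∀ (g : G) i j (t : T i) (s : T j), (s : G) = g * t * g⁻¹ → (P i t ↔ P j s))
    (hcl : ∀ i (s t : T i), P i s → P i t → IsConj s t)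
    {i₀ : Fin m} {x : T i₀} (hx : P i₀ x) :
    (centralizer ({(x : G)} : Set G)).index = c * m := by
  rw [← Lib.ModFour.card_isConj]
  let f : {y : G // IsConj (x : G) y} → (Σ i : Fin m, {t : T i // P i t}) := fun y => by
    choose i hi using show ∃ i, y.1 ∈ T i by
      obtain ⟨g, hg⟩ := isConj_iff.1 y.2
      obtain ⟨j, hj⟩ := h.conj g i₀
      refine ⟨j, ?_⟩
      rw [hj]
      exact ⟨x, x.2, by rw [← hg]; rfl⟩
    exact ⟨i, ⟨⟨y.1, hi⟩, by
      obtain ⟨g, hg⟩ := isConj_iff.1 y.2
      exact (hinv g i₀ i x ⟨y.1, hi⟩ hg.symm).1 hx⟩⟩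
  have hf : ∀ y, ((f y).2.1 : G) = y.1 := fun y => rfl
  have hbij : Function.Bijective f := by
    constructor
    · intro y z hyz
      apply Subtype.ext
      rw [← hf y, ← hf z, hyz]
    · rintro ⟨i, t, ht⟩
      obtain ⟨g, hg⟩ := h.trans i₀ i
      have hmem : g * (x : G) * g⁻¹ ∈ T i := by
        rw [hg]
        exact ⟨x, x.2, rfl⟩
      have hP' : P i ⟨_, hmem⟩ := (hinv g i₀ i x ⟨_, hmem⟩ rfl).1 hx
      obtain ⟨u, hu⟩ := isConj_iff.1 (hcl i _ _ hP' ht)
      have hconj : IsConj (x : G) (t : G) := by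
        refine isConj_iff.2 ⟨u * g, ?_⟩
        have := congrArg Subtype.val hu
        simp only [Subgroup.coe_mul, InvMemClass.coe_inv] at this
        rw [← this]
        group
      refine ⟨⟨t, hconj⟩, ?_⟩
      have h1 := hf ⟨t, hconj⟩
      generalize f ⟨t, hconj⟩ = z at h1
      obtain ⟨j, s, hs⟩ := z
      have h2 : (s : G) = t := h1
      have hij : j = i := h.disj (x := (t : G)) (by rw [← h2]; exact s.2) t.2 (hone i t ht)
      subst hij
      have h3 : s = t := Subtype.ext h2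
      subst h3
      rfl
  rw [Nat.card_congr (Equiv.ofBijective f hbij), Nat.card_sigma]
  simp_rw [hP]
  simp [mul_comm]

/-- The class of `y` in `N`. -/
theorem card_class_pi (y : N) :
    Nat.card {n : N // IsConj y n} = ∏ i, Nat.card {t : T i // IsConj (e y i) t} := by
  rw [← Nat.card_pi]
  have hiff : ∀ n : N, IsConj y n ↔ ∀ i, IsConj (e y i) (e n i) := by
    intro n
    constructor
    · intro h i
      obtain ⟨g, rfl⟩ := isConj_iff.1 h
      exact isConj_iff.2 ⟨e g i, by simp [map_mul]⟩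
    · intro h
      choose g hg using fun i => isConj_iff.1 (h i)
      refine isConj_iff.2 ⟨e.symm g, ?_⟩
      apply e.injective
      funext i
      simp [map_mul, hg i]
  refine Nat.card_congr ⟨fun n i => ⟨e n.1 i, (hiff n.1).1 n.2 i⟩, fun f => ⟨e.symm fun i => (f i).1, (hiff _).2 fun i => by
    simpa using (f i).2⟩, fun n => ?_, fun f => ?_⟩
  · apply Subtype.ext
    simp
  · funext i
    apply Subtype.ext
    simp

open Classical in
/-- **Lower bound for the class of an element of `N`.** -/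
theorem le_card_class [Finite G] [hN : N.Normal] (h : Coord N m T e) (c : ℕ) (Q : G → Prop)
    (hQ : ∀ g x, Q x → Q (g * x * g⁻¹))
    (hQc : ∀ (n : N) i, Q n → e n i ≠ 1 → c ≤ (centralizer ({e n i} : Set (T i))).index)
    {x : G} (hxN : x ∈ N) (hx1 : x ≠ 1) (hQx : Q x) :
    ∃ r : ℕ, 0 < r ∧ m * c ^ r ≤ r * (centralizer ({x} : Set G)).index := by
  let S : N → Finset (Fin m) := fun n => Finset.univ.filter fun i => e n i ≠ 1
  have hS : ∀ n i, i ∈ S n ↔ e n i ≠ 1 := fun n i => by simp [S]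
  have hmem : ∀ z, IsConj x z → z ∈ N := by
    intro z hz
    obtain ⟨g, rfl⟩ := isConj_iff.1 hz
    exact hN.conj_mem x hxN g
  have hQz : ∀ z, IsConj x z → Q z := by
    intro z hz
    obtain ⟨g, rfl⟩ := isConj_iff.1 hz
    exact hQ g x hQx
  set r := (S ⟨x, hxN⟩).card with hr
  -- conjugation permutes the supports
  have hconj : ∀ (g : G) (n n' : N) (i j : Fin m), (n' : G) = g * n * g⁻¹ →
      T j = (T i).map (MulAut.conj g).toMonoidHom → (e n' j = 1 ↔ e n i = 1) := by
    intro g n n' i j hn hij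
    rw [h.one_iff, h.one_iff, hij]
    constructor
    · intro h1 t ht
      have h2 := h1 (g * t * g⁻¹) ⟨t, ht, rfl⟩
      rw [hn] at h2
      have h3 : g * (n : G) * g⁻¹ * (g * t * g⁻¹) = g * t * g⁻¹ * (g * n * g⁻¹) := h2
      have h4 : g * ((n : G) * t) * g⁻¹ = g * (t * n) * g⁻¹ := by
        calc g * ((n : G) * t) * g⁻¹ = g * (n : G) * g⁻¹ * (g * t * g⁻¹) := by group
          _ = g * t * g⁻¹ * (g * n * g⁻¹) := h3
          _ = _ := by group
      exact mul_left_cancel (mul_right_cancel h4)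
    · rintro h1 _ ⟨t, ht, rfl⟩
      have h2 : (n : G) * t = t * n := h1 t ht
      rw [hn]
      show g * (n : G) * g⁻¹ * (g * t * g⁻¹) = g * t * g⁻¹ * (g * n * g⁻¹)
      calc g * (n : G) * g⁻¹ * (g * t * g⁻¹) = g * ((n : G) * t) * g⁻¹ := by group
        _ = g * (t * n) * g⁻¹ := by rw [h2]
        _ = _ := by group
  have hcard : ∀ z (hz : IsConj x z), (S ⟨z, hmem z hz⟩).card = r := by
    intro z hz
    obtain ⟨g, hg⟩ := isConj_iff.1 hz
    obtain ⟨σ, hσ⟩ := h.exists_perm g
    rw [hr]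
    symm
    refine Finset.card_bij (fun i _ => σ i) ?_ (fun i _ j _ hij => σ.injective hij) ?_
    · intro i hi
      rw [hS] at hi ⊢
      exact fun h' => hi ((hconj g ⟨x, hxN⟩ ⟨z, hmem z hz⟩ i (σ i) hg.symm (hσ i)).1 h')
    · intro j hj
      refine ⟨σ.symm j, ?_, σ.apply_symm_apply j⟩
      rw [hS] at hj ⊢
      intro h'
      apply hj
      have h1 := hσ (σ.symm j)
      rw [σ.apply_symm_apply] at h1
      exact (hconj g ⟨x, hxN⟩ ⟨z, hmem z hz⟩ (σ.symm j) j hg.symm h1).2 h'
  -- a nontrivial component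
  obtain ⟨i₁, hi₁⟩ : ∃ i, e ⟨x, hxN⟩ i ≠ 1 := by
    by_contra hno
    push Not at hno
    have h1 : e ⟨x, hxN⟩ = 1 := funext hno
    have h2 : (⟨x, hxN⟩ : N) = 1 := e.injective (by rw [h1, map_one])
    exact hx1 (congrArg Subtype.val h2)
  have hrpos : 0 < r := Finset.card_pos.2 ⟨i₁, (hS _ _).2 hi₁⟩
  refine ⟨r, hrpos, ?_⟩
  have _ : Fintype {z : G // IsConj x z} := Fintype.ofFinite _
  -- the lower bound for every index
  have hlow : ∀ i : Fin m, c ^ r ≤ (Finset.univ.filter fun z : {z : G // IsConj x z} =>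
      e ⟨z.1, hmem z.1 z.2⟩ i ≠ 1).card := by
    intro i
    obtain ⟨g, hg⟩ := h.trans i₁ i
    have hz : IsConj x (g * x * g⁻¹) := isConj_iff.2 ⟨g, rfl⟩
    set z₀ : N := ⟨g * x * g⁻¹, hmem _ hz⟩ with hz₀
    have hz₀i : e z₀ i ≠ 1 := fun h' => hi₁ ((hconj g ⟨x, hxN⟩ z₀ i₁ i rfl hg).1 h')
    have h1 : Nat.card {n : N // IsConj z₀ n} = ∏ j, Nat.card {t : T j // IsConj (e z₀ j) t} :=
      card_class_pi z₀
    have h2 : c ^ r ≤ ∏ j, Nat.card {t : T j // IsConj (e z₀ j) t} := by
      calc c ^ r = ∏ j ∈ S z₀, c := by rw [Finset.prod_const, hcard _ hz]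
        _ ≤ ∏ j ∈ S z₀, Nat.card {t : T j // IsConj (e z₀ j) t} := by
            apply Finset.prod_le_prod'
            intro j hj
            rw [Lib.ModFour.card_isConj]
            exact hQc z₀ j (hQz _ hz) ((hS _ _).1 hj)
        _ ≤ _ := by
            apply Finset.prod_le_prod_of_subset_of_one_le' (Finset.subset_univ _)
            intro j _ _
            have _ : Nonempty {t : T j // IsConj (e z₀ j) t} := ⟨⟨_, IsConj.refl _⟩⟩
            exact Nat.card_pos
    refine h2.trans ?_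
    rw [← h1]
    have _ : Fintype {n : N // IsConj z₀ n} := Fintype.ofFinite _
    rw [Nat.card_eq_fintype_card, ← Finset.card_univ]
    refine Finset.card_le_card_of_injOn
      (fun n => ⟨(n.1 : G), ?_⟩) ?_ ?_
    · obtain ⟨u, hu⟩ := isConj_iff.1 n.2
      refine hz.trans (isConj_iff.2 ⟨(u : G), ?_⟩)
      rw [← hu]
      rfl
    · intro n _
      rw [Finset.mem_coe, Finset.mem_filter]
      refine ⟨Finset.mem_univ _, ?_⟩
      obtain ⟨u, hu⟩ := isConj_iff.1 n.2
      intro h'
      apply hz₀i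
      have h3 : e n.1 i = 1 := h'
      rw [← hu] at h3
      simp only [map_mul, map_inv, Pi.mul_apply, Pi.inv_apply] at h3
      have h4 := congrArg (fun t => (e u i)⁻¹ * t * e u i) h3
      simpa [mul_assoc] using h4
    · intro n _ n' _ hnn
      have h5 : ((n.1 : N) : G) = ((n'.1 : N) : G) := by
        simpa using hnn
      exact Subtype.ext (Subtype.ext h5)
  calc m * c ^ r = ∑ _i : Fin m, c ^ r := by simp
    _ ≤ ∑ i : Fin m, (Finset.univ.filter fun z : {z : G // IsConj x z} =>
          e ⟨z.1, hmem z.1 z.2⟩ i ≠ 1).card := Finset.sum_le_sum fun i _ => hlow i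
    _ = ∑ i : Fin m, ∑ z : {z : G // IsConj x z}, if e ⟨z.1, hmem z.1 z.2⟩ i ≠ 1 then 1 else 0 := by
          refine Finset.sum_congr rfl fun i _ => ?_
          rw [Finset.card_filter]
    _ = ∑ z : {z : G // IsConj x z}, ∑ i : Fin m, if e ⟨z.1, hmem z.1 z.2⟩ i ≠ 1 then 1 else 0 :=
          Finset.sum_comm
    _ = ∑ z : {z : G // IsConj x z}, r := by
          refine Finset.sum_congr rfl fun z _ => ?_
          rw [← hcard z.1 z.2, Finset.card_filter]
    _ = r * (centralizer ({x} : Set G)).index := by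
          rw [Finset.sum_const, Finset.card_univ, smul_eq_mul, ← Nat.card_eq_fintype_card,
            Lib.ModFour.card_isConj, mul_comm]

end Cfsg.Agent.H794.SocleCount
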