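import Mathlib

/-!
# Sums of powers (helper794, Hering hub task 956)

`key` : a multiset of exponents with the same sum of powers of `p` as a set `D` has at least `|D|` elements, with equality
only for `D` itself; `digit_sum`.
-/

set_option autoImplicit false

namespace Cfsg.Agent.H794.HerDigit

theorem digits_unique {p : ℕ} (hp : 2 ≤ p) : ∀ (N : ℕ) (f g : ℕ → ℕ), (∀ x, f x < p) → (∀ x, g x < p) →
    ∑ x ∈ Finset.range N, f x * p ^ x = ∑ x ∈ Finset.range N, g x * p ^ x → ∀ x < N, f x = g x := by
  intro N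
  induction N with
  | zero => intro f g _ _ _ x hx; omega
  | succ N ih =>
    intro f g hf hg h x hx
    have hs : ∀ f : ℕ → ℕ, ∑ x ∈ Finset.range (N + 1), f x * p ^ x =
        p * (∑ x ∈ Finset.range N, f (x + 1) * p ^ x) + f 0 := by
      intro f
      rw [Finset.sum_range_succ', Finset.mul_sum, pow_zero, mul_one]
      congr 1
      refine Finset.sum_congr rfl fun x _ => ?_
      ring
    rw [hs, hs] at h
    have h0 : f 0 = g 0 := by
      have h1 := congrArg (· % p) h
      simp only [Nat.mul_add_mod, Nat.mod_eq_of_lt (hf 0), Nat.mod_eq_of_lt (hg 0)] at h1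
      exact h1
    rw [h0] at h
    have h2 : ∑ x ∈ Finset.range N, f (x + 1) * p ^ x = ∑ x ∈ Finset.range N, g (x + 1) * p ^ x :=
      Nat.eq_of_mul_eq_mul_left (by omega) (Nat.add_right_cancel h)
    cases x with
    | zero => exact h0
    | succ x => exact ih (fun x => f (x + 1)) (fun x => g (x + 1)) (fun x => hf _) (fun x => hg _) h2 x (by omega)

theorem sum_eq {p N : ℕ} (m : Multiset ℕ) (hN : ∀ x ∈ m, x < N) :
    (m.map (fun x => p ^ x)).sum = ∑ x ∈ Finset.range N, m.count x * p ^ x := by
  rw [Finset.sum_multiset_map_count]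
  simp only [smul_eq_mul]
  refine Finset.sum_subset (fun x hx => Finset.mem_range.2 (hN x (Multiset.mem_toFinset.1 hx))) fun x _ hx => ?_
  rw [Multiset.count_eq_zero_of_notMem (fun h => hx (Multiset.mem_toFinset.2 h)), zero_mul]

/-- **Sets of exponents have the smallest number of elements.** -/
theorem key {p : ℕ} (hp : 2 ≤ p) (D : Finset ℕ) : ∀ (n : ℕ) (m : Multiset ℕ), m.card = n →
    (m.map (fun x => p ^ x)).sum = ∑ x ∈ D, p ^ x → D.card ≤ m.card ∧ (m.card ≤ D.card → m = D.val) := by
  intro n
  induction n using Nat.strong_induction_on with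
  | _ n ih =>
    intro m hm h
    by_cases hc : ∃ x, p ≤ m.count x
    · obtain ⟨x, hx⟩ := hc
      rw [Multiset.le_count_iff_replicate_le] at hx
      obtain ⟨m', rfl⟩ := Multiset.le_iff_exists_add.1 hx
      rw [Multiset.card_add, Multiset.card_replicate] at hm
      have h1 := ih ((x + 1) ::ₘ m').card (by rw [Multiset.card_cons]; omega) ((x + 1) ::ₘ m') rfl (by
        rw [← h, Multiset.map_cons, Multiset.sum_cons, Multiset.map_add, Multiset.sum_add, Multiset.map_replicate,
          Multiset.sum_replicate, smul_eq_mul, pow_succ']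
        )
      rw [Multiset.card_cons] at h1
      rw [Multiset.card_add, Multiset.card_replicate]
      exact ⟨by omega, fun h2 => by omega⟩
    · push Not at hc
      have hD : ∀ x, D.val.count x < p := fun x =>
        lt_of_le_of_lt (Multiset.nodup_iff_count_le_one.1 D.nodup x) (by omega)
      obtain ⟨N, hN⟩ : ∃ N, (∀ x ∈ m, x < N) ∧ ∀ x ∈ D.val, x < N := by
        refine ⟨(m + D.val).sum + 1, fun x hx => ?_, fun x hx => ?_⟩
        · exact Nat.lt_succ_of_le (Multiset.single_le_sum (fun _ _ => Nat.zero_le _) x (Multiset.mem_add.2 (Or.inl hx)))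
        · exact Nat.lt_succ_of_le (Multiset.single_le_sum (fun _ _ => Nat.zero_le _) x (Multiset.mem_add.2 (Or.inr hx)))
      have hDs : ∑ x ∈ D, p ^ x = (D.val.map (fun x => p ^ x)).sum := rfl
      rw [hDs, sum_eq m hN.1, sum_eq D.val hN.2] at h
      have h1 := digits_unique hp N (fun x => m.count x) (fun x => D.val.count x) hc hD h
      have h2 : m = D.val := by
        ext x
        by_cases hx : x < N
        · exact h1 x hx
        · rw [Multiset.count_eq_zero_of_notMem (fun h => hx (hN.1 x h)),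
            Multiset.count_eq_zero_of_notMem (fun h => hx (hN.2 x h))]
      exact ⟨by rw [h2]; exact le_rfl, fun _ => h2⟩

theorem digit_sum {p β a : ℕ} (hp : 2 ≤ p) {ι : Type*} (E : Finset ι) (e : ι → ℕ) (hE : E.card ≤ a)
    (h : ∑ i ∈ E, p ^ e i = ∑ j ∈ Finset.range a, p ^ (β * j)) (hβ : 1 ≤ β) :
    E.card = a ∧ ∃ f : ι → ℕ, (∀ i ∈ E, f i < a ∧ e i = β * f i) ∧ ∀ j < a, ∃! i, i ∈ E ∧ f i = j := by
  classical
  have hinj : Function.Injective (fun j : ℕ => β * j) := fun i j hij => Nat.eq_of_mul_eq_mul_left (by omega) hij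
  have hDc : ((Finset.range a).image (fun j => β * j)).card = a := by
    rw [Finset.card_image_of_injective _ hinj, Finset.card_range]
  have h1 := key hp ((Finset.range a).image (fun j => β * j)) E.card (E.val.map e) (by rw [Multiset.card_map]; rfl) (by
    rw [Finset.sum_image (fun i _ j _ hij => hinj hij), ← h, Multiset.map_map]
    rfl)
  rw [hDc, Multiset.card_map] at h1
  have h2 := h1.2 hE
  have hnd : (E.val.map e).Nodup := by rw [h2]; exact Finset.nodup _
  have hei := Multiset.inj_on_of_nodup_map hnd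
  have hmem : ∀ x, x ∈ E.val.map e ↔ ∃ j < a, β * j = x := by
    intro x
    rw [h2, Finset.mem_val, Finset.mem_image]
    simp only [Finset.mem_range]
  refine ⟨le_antisymm hE h1.1, fun i => e i / β, fun i hi => ?_, fun j hj => ?_⟩
  · obtain ⟨j, hj, hji⟩ := (hmem (e i)).1 (Multiset.mem_map_of_mem e hi)
    show e i / β < a ∧ e i = β * (e i / β)
    rw [← hji, Nat.mul_div_cancel_left j (by omega)]
    exact ⟨hj, rfl⟩
  · obtain ⟨i, hi, hij⟩ := Multiset.mem_map.1 ((hmem (β * j)).2 ⟨j, hj, rfl⟩)
    refine ⟨i, ⟨hi, ?_⟩, ?_⟩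
    · show e i / β = j
      rw [hij, Nat.mul_div_cancel_left j (by omega)]
    · rintro i' ⟨hi', he'⟩
      obtain ⟨j', hj', hji'⟩ := (hmem (e i')).1 (Multiset.mem_map_of_mem e hi')
      apply hei i' hi' i hi
      have he2 : e i' / β = j := he'
      rw [← hji', Nat.mul_div_cancel_left j' (by omega)] at he2
      rw [← hji', he2, hij]

end Cfsg.Agent.H794.HerDigit
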