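import Mathlib

/-!
# Groups containing a spread set, commutative up to scalars (helper794, Hering hub task 959)

`comm_of_spread`.
-/

set_option autoImplicit false

namespace Cfsg.Agent.H794.HerSpread

open Module

variable {p : ℕ} [Fact p.Prime] {M : Type*} [AddCommGroup M] [Module (ZMod p) M] [Finite M]

/-- nonzero elements of `K` have inverses in `K` -/
theorem exists_inv_mem {K : Subring (End (ZMod p) M)} (hK : ∀ a ∈ K, a ≠ 0 → Function.Injective a)
    {a : End (ZMod p) M} (ha : a ∈ K) (ha0 : a ≠ 0) : ∃ b ∈ K, b * a = 1 := by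
  have hfin : Finite (End (ZMod p) M) := Finite.of_injective (fun f : End (ZMod p) M => (f : M → M))
    DFunLike.coe_injective
  have hinj := hK a ha ha0
  have hbij : Function.Bijective a := ⟨hinj, Finite.surjective_of_injective hinj⟩
  have hu : IsUnit a := (Module.End.isUnit_iff a).2 hbij
  obtain ⟨u, rfl⟩ := hu
  have h1 := pow_orderOf_eq_one u
  have h2 : 0 < orderOf u := orderOf_pos u
  refine ⟨(u : End (ZMod p) M) ^ (orderOf u - 1), K.pow_mem ha _, ?_⟩
  rw [← pow_succ, Nat.sub_add_cancel h2]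
  rw [← Units.val_pow_eq_pow_val, h1, Units.val_one]

theorem comm_of_spread [Nontrivial M]
    (T : Subgroup (M ≃ₗ[ZMod p] M)) (D : AddSubgroup (Module.End (ZMod p) M)) (h1 : 1 ∈ D)
    (hcard : Nat.card D = Nat.card M) (hinv : ∀ a ∈ D, a ≠ 0 → ∃ t ∈ T, (t : Module.End (ZMod p) M) = a)
    (K : Subring (Module.End (ZMod p) M)) (hK : ∀ a ∈ K, a ≠ 0 → Function.Injective a)
    (hKT : ∀ a ∈ K, ∀ t ∈ T, ∀ v, a (t v) = t (a v))
    (hcomm : ∀ s ∈ T, ∀ t ∈ T, ∃ c ∈ K, ∀ v, s (t v) = c (t (s v))) : ∀ s ∈ T, ∀ t ∈ T, s * t = t * s := by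
  have hfin : Finite (End (ZMod p) M) := Finite.of_injective (fun f : End (ZMod p) M => (f : M → M))
    DFunLike.coe_injective
  have hDinj : ∀ a ∈ D, a ≠ 0 → Function.Injective a := by
    intro a ha ha0
    obtain ⟨t, -, rfl⟩ := hinv a ha ha0
    exact t.injective
  -- (2)
  have h2 : ∀ t ∈ T, ∀ a ∈ D, ∀ v, t (a v) = a (t v) := by
    intro t ht a ha v
    by_cases ha0 : a = 0
    · subst ha0; simp
    by_cases ha1 : 1 + a = 0
    · have h3 : a = -1 := by rw [add_comm] at ha1; exact eq_neg_of_add_eq_zero_left ha1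
      subst h3; simp
    obtain ⟨s, hs, rfl⟩ := hinv a ha ha0
    obtain ⟨r, hr, hra⟩ := hinv _ (D.add_mem h1 ha) ha1
    obtain ⟨c, hc, hc'⟩ := hcomm t ht s hs
    obtain ⟨d, hd, hd'⟩ := hcomm t ht r hr
    have hrv : ∀ v, r v = v + s v := fun v => by
      have := congrArg (fun f : End (ZMod p) M => f v) hra
      simpa using this
    -- `(c - d) s t = (d - 1) t`
    have h3 : ∀ w, (c - d) (s w) = (d - 1) w := by
      intro w
      obtain ⟨u, rfl⟩ := t.surjective w
      have e1 := hd' u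
      rw [hrv, hrv, map_add, map_add, hc' u] at e1
      rw [LinearMap.sub_apply, LinearMap.sub_apply, Module.End.one_apply]
      rw [← sub_eq_zero] at e1 ⊢
      rw [← e1]
      abel
    by_cases hcd : c - d = 0
    · -- `d = 1`, `c = 1`
      have h4 : d = 1 := by
        ext w
        have h5 := h3 w
        rw [hcd, LinearMap.zero_apply, LinearMap.sub_apply] at h5
        exact (sub_eq_zero.1 h5.symm)
      have h5 : c = 1 := by rw [← h4]; exact sub_eq_zero.1 hcd
      have h6 := hc' v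
      rw [h5] at h6
      exact h6
    · obtain ⟨b, hb, hbc⟩ := exists_inv_mem hK (K.sub_mem hc hd) hcd
      have h4 : ∀ w, s w = (b * (d - 1)) w := by
        intro w
        have h5 := congrArg b (h3 w)
        rw [← Module.End.mul_apply, hbc] at h5
        exact h5
      show t (s v) = s (t v)
      rw [h4, h4]
      exact (hKT _ (K.mul_mem hb (K.sub_mem hd K.one_mem)) t ht v).symm
  -- (3)
  obtain ⟨v, hv⟩ := exists_ne (0 : M)
  have hsur : ∀ w : M, ∃ a ∈ D, a v = w := by
    have hinj : Function.Injective (fun a : D => (a : End (ZMod p) M) v) := by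
      intro a b hab
      by_contra hne
      have h4 : ((a : End (ZMod p) M) - b) ≠ 0 := fun h => hne (Subtype.ext (sub_eq_zero.1 h))
      apply hv
      apply hDinj _ (D.sub_mem a.2 b.2) h4
      rw [LinearMap.sub_apply, map_zero]
      exact sub_eq_zero.2 hab
    have hbij := (Nat.bijective_iff_injective_and_card (fun a : D => (a : End (ZMod p) M) v)).2 ⟨hinj, hcard⟩
    intro w
    obtain ⟨a, ha⟩ := hbij.2 w
    exact ⟨a, a.2, ha⟩
  have hDD : ∀ a ∈ D, ∀ b ∈ D, ∀ w, a (b w) = b (a w) := by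
    intro a ha b hb w
    by_cases ha0 : a = 0
    · subst ha0; simp
    obtain ⟨s, hs, rfl⟩ := hinv a ha ha0
    exact h2 s hs b hb w
  have hTD : ∀ t ∈ T, ∃ a ∈ D, ∀ w, t w = a w := by
    intro t ht
    obtain ⟨a, ha, hav⟩ := hsur (t v)
    refine ⟨a, ha, fun w => ?_⟩
    obtain ⟨b, hb, rfl⟩ := hsur w
    rw [h2 t ht b hb, ← hav, hDD a ha b hb]
  intro s hs t ht
  obtain ⟨a, ha, hsa⟩ := hTD s hs
  ext w
  show s (t w) = t (s w)
  rw [hsa, hsa, h2 t ht a ha]

end Cfsg.Agent.H794.HerSpread
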