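import Cfsg.Agent.H794.ImcTools
import Cfsg.Agent.H653.CycFinal
import Cfsg.Agent.H653.CycHeight
import Cfsg.Agent.Blocks.Knorr

/-!
# `IMC p S` for groups with cyclic Sylow `p`-subgroups (helper794)

* `imc_of_cyclic_defect` : a block with a cyclic defect group has height zero (Dade);
* `imc_of_cyclic` : if Sylow `p`-subgroups are cyclic then `IM p G` implies `IMC p G`.
-/

set_option autoImplicit false

open Cfsg
open scoped ComplexConjugate

namespace Cfsg.Agent.H794.Imc

open Cfsg.Agent.H625.SylConst Cfsg.Agent.Blocks.Local Cfsg.Agent.Blocks.Basic Cfsg.Agent.Blocks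

universe u

variable {G : Type u} [Group G] [Finite G] {p : ℕ} [hp : Fact p.Prime] {M : Ideal AlgInt}

/-- Heights are zero in blocks with cyclic defect groups. -/
theorem height_zero_of_cyclic (hM : IsPModular p M) (hcyc : ∀ P : Subgroup G, IsPGroup p P → IsCyclic P)
    {B : Set (IrrCharacter G)} (hB : IsPBlock M B) :
    ∀ χ ∈ B, blockHeight p B (χ : G → ℂ) = 0 := by
  classical
  have := Fintype.ofFinite G
  have : M.IsPrime := hM.2.1.isPrime
  obtain ⟨D, b, hmax⟩ := H644.exists_maximal hM hB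
  have hdef := H644.isDefectGroup_of_isMaximalBrauerPair hM hmax
  have hDp : IsPGroup p D := by
    obtain ⟨g, -, P, rfl⟩ := hdef
    exact P.isPGroup'.map _
  obtain ⟨n, hn⟩ := (IsPGroup.iff_card.1 hDp)
  rcases Nat.eq_zero_or_pos n with rfl | hn0
  · -- defect zero
    intro χ hχ
    have hmin : ∀ ψ ∈ B, (charDegree (ψ : G → ℂ)).factorization p = (Nat.card G).factorization p := by
      intro ψ hψ
      have h1 := Cfsg.Agent.H592.Defect.le_degree_add p hM hB hdef hψ
      rw [hn, pow_zero, Nat.factorization_one] at h1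
      have h2 : charDegree (ψ : G → ℂ) ∣ Nat.card G := by
        have h4 := Cfsg.Agent.Blocks.Knorr.charDegree_dvd ψ.2
        exact h4
      have h3 := (Nat.factorization_le_iff_dvd (charDegree_pos ψ.2).ne' Nat.card_pos.ne').2 h2 p
      have h5 : ((0 : ℕ →₀ ℕ) p) = 0 := rfl
      omega
    unfold blockHeight
    have h6 : (fun ψ : IrrCharacter G => (charDegree (ψ : G → ℂ)).factorization p) '' B =
        {(Nat.card G).factorization p} := by
      ext m
      constructor
      · rintro ⟨ψ, hψ, rfl⟩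
        exact hmin ψ hψ
      · rintro rfl
        exact ⟨χ, hχ, hmin χ hχ⟩
    rw [h6, csInf_singleton, hmin χ hχ, Nat.sub_self]
  · obtain ⟨z, hz⟩ := exists_prime_orderOf_dvd_card' p (G := D) (by
      rw [hn]
      exact dvd_pow_self p (by omega))
    have hyp : H653.CycPairs.Hyp p M B ⟨D, b⟩ (z : G) :=
      ⟨hM, hmax, hcyc D hDp, z.2, by rw [Subgroup.orderOf_coe]; exact hz⟩
    obtain ⟨-, hm, he0⟩ := H653.CycFinal.dvd_and hyp hn rfl
    exact (H653.CycHeight.main hyp (n := n) hn rfl hm he0).1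

/-- cyclic Sylow `p`-subgroups -/
theorem imc_of_cyclic (P : Sylow p G) (hP : IsCyclic P) (h : H33.IM p G) : IMC p G := by
  obtain ⟨χ, hχ⟩ := h
  obtain ⟨M, hM⟩ := ExistsModular.exists_isPModular hp.out
  have hM' : M.IsPrime := hM.2.1.isPrime
  have hcyc : ∀ Q : Subgroup G, IsPGroup p Q → IsCyclic Q := by
    intro Q hQ
    obtain ⟨R, hR⟩ := hQ.exists_le_sylow
    obtain ⟨g, rfl⟩ := MulAction.exists_smul_eq G P R
    have h1 : IsCyclic (g • P : Sylow p G) := isCyclic_of_surjective _ (P.equivSMul g).surjective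
    exact isCyclic_of_injective (Subgroup.inclusion hR) (Subgroup.inclusion_injective hR)
  have hB : IsPBlock M (blockOf M (χ : G → ℂ)) := ⟨χ, rfl⟩
  have hχB := mem_blockOf_self (M := M) χ
  refine imc_of_block hM hB fun ψ hψ => ?_
  have h1 := height_zero_of_cyclic hM hcyc hB χ hχB
  unfold blockHeight at h1
  have h2 : sInf ((fun ψ : IrrCharacter G => (charDegree (ψ : G → ℂ)).factorization p) ''
      (blockOf M (χ : G → ℂ))) ≤ (charDegree (ψ : G → ℂ)).factorization p :=
    Nat.sInf_le ⟨ψ, hψ, rfl⟩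
  have h3 : 1 ≤ (charDegree (χ : G → ℂ)).factorization p :=
    hp.out.factorization_pos_of_dvd (charDegree_pos χ.2).ne' hχ
  exact (hp.out.dvd_iff_one_le_factorization (charDegree_pos ψ.2).ne').2 (by omega)

end Cfsg.Agent.H794.Imc
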