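import Cfsg.Agent.H794.ImcSL
import Cfsg.Agent.H113.PSU.Facts

/-!
# `IMC r (PSU_n(q))`, `n ≥ 6`, `r` not the characteristic (helper794)
-/

set_option autoImplicit false

open Cfsg
open scoped ComplexConjugate ComplexOrder

namespace Cfsg.Agent.H794.Imc

open Cfsg.Agent.H625.SylConst Cfsg.Agent.H139.Cusp Cfsg.Agent.H53.HC Cfsg.Agent.H477.HC Module
  Cfsg.Agent.Characters Cfsg.Agent.H113.PSU.Levi
open Cfsg.Agent.H113.PSU.Descent (eSU toGU toGU_injective index_NN eSU_val)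

universe u v w

/-! ### arithmetic -/

theorem exists_ordU {q r : ℕ} (hr : r.Prime) (hrq : ¬ r ∣ q) (hq : 1 ≤ q) :
    ∃ e : ℕ, 0 < e ∧ ∀ j, r ∣ uu q j ↔ e ∣ j := by
  have := Fact.mk hr
  have h0 : (-(q : ZMod r)) ≠ 0 := neg_ne_zero.2 fun h => hrq ((ZMod.natCast_eq_zero_iff q r).1 h)
  have hfo : IsOfFinOrder (-(q : ZMod r)) := by
    rw [isOfFinOrder_iff_pow_eq_one]
    exact ⟨r - 1, by have := hr.two_le; omega, ZMod.pow_card_sub_one_eq_one h0⟩
  refine ⟨orderOf (-(q : ZMod r)), hfo.orderOf_pos, fun j => ?_⟩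
  rw [orderOf_dvd_iff_pow_eq_one, ← ZMod.natCast_eq_zero_iff]
  have h1 : ((uu q j : ℕ) : ZMod r) = (q : ZMod r) ^ j - (-1) ^ j := by
    have h2 := congrArg (Int.cast (R := ZMod r)) (uu_cast hq j)
    push_cast at h2
    exact h2
  rw [h1, sub_eq_zero, neg_pow (q : ZMod r) j]
  rcases neg_one_pow_eq_or (ZMod r) j with h2 | h2
  · rw [h2, one_mul]
  · rw [h2, neg_one_mul, neg_eq_iff_eq_neg]

theorem uu_even {q i : ℕ} (hi : Even i) : uu q i = q ^ i - 1 := by
  unfold uu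
  rw [if_pos hi]

theorem uu_odd {q i : ℕ} (hi : Odd i) : uu q i = q ^ i + 1 := by
  unfold uu
  rw [if_neg (Nat.not_even_iff_odd.2 hi)]

/-- `e = 2k` implies primitive -/
theorem prim_of_ordU {q r k : ℕ} (hr : r.Prime) (hk : Odd k) (he : ∀ j, r ∣ uu q j ↔ 2 * k ∣ j) :
    ∀ i, r ∣ q ^ i - 1 ↔ k ∣ i := by
  have hk0 := hk.pos
  have h1 : r ∣ q ^ k - 1 := by
    have h2 : r ∣ uu q (2 * k) := (he _).2 dvd_rfl
    rw [uu_even (even_two_mul k), sq_sub] at h2
    refine (hr.dvd_mul.1 h2).resolve_left fun h3 => ?_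
    rw [← uu_odd hk, he] at h3
    exact absurd (Nat.le_of_dvd hk0 h3) (by omega)
  intro i
  constructor
  · intro h
    have h2 : r ∣ uu q (2 * i) := by
      rw [uu_even (even_two_mul i)]
      exact h.trans (pow_sub_dvd _ _)
    exact Nat.dvd_of_mul_dvd_mul_left two_pos ((he _).1 h2)
  · rintro ⟨t, rfl⟩
    refine h1.trans ?_
    rw [pow_mul]
    simpa using Nat.sub_dvd_pow_sub_pow (q ^ k) 1 t

theorem ordU_of_prim {q r k : ℕ} (hr : r.Prime) (hq : 1 ≤ q) (hr2 : r ≠ 2) (hk : Odd k)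
    (hpr : ∀ i, r ∣ q ^ i - 1 ↔ k ∣ i) : ∀ j, r ∣ uu q j ↔ 2 * k ∣ j := by
  intro j
  rcases Nat.even_or_odd j with hj | hj
  · rw [uu_even hj, hpr]
    constructor
    · intro h
      exact Nat.Coprime.mul_dvd_of_dvd_of_dvd hk.coprime_two_left hj.two_dvd h
    · exact fun h => (dvd_mul_left k 2).trans h
  · rw [uu_odd hj]
    constructor
    · intro h
      exact absurd h (ell_not_dvd_add hk hr hpr hq hr2 j)
    · intro h
      exact absurd ((dvd_mul_right 2 k).trans h) (fun h' => (Nat.not_even_iff_odd.2 hj) (even_iff_two_dvd.2 h'))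

/-- the fixed vector case -/
theorem arith_su {q r k n' e : ℕ} (hk3 : 3 ≤ k) (hn : n' ≤ 3) (he : ∀ j, r ∣ uu q j ↔ e ∣ j) (he2 : 2 ≤ e)
    (hek : e ≠ 2 * k) (hen : e ≤ 2 * k + n') :
    ∃ j, n' + 1 ≤ j ∧ j ≤ 2 * k + n' ∧ j ≠ 2 * k ∧ r ∣ uu q j := by
  rcases Nat.lt_or_ge e (n' + 1) with h1 | h1
  · have h2 : e = 2 ∨ e = 3 := by omega
    rcases h2 with rfl | rfl
    · exact ⟨2 * (k - 1), by omega, by omega, by omega, (he _).2 (dvd_mul_right _ _)⟩
    · have hn3 : n' = 3 := by omega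
      subst hn3
      by_cases hk' : k = 3
      · subst hk'
        exact ⟨9, by omega, by omega, by omega, (he _).2 (by decide)⟩
      · exact ⟨6, by omega, by omega, by omega, (he _).2 (by decide)⟩
  · exact ⟨e, h1, hen, hek, (he _).2 dvd_rfl⟩

/-- two factors -/
theorem mem_prod_uu (q : ℕ) {n t k j : ℕ} (h1 : n + 1 ≤ k) (h2 : k ≤ t) (h3 : n + 1 ≤ j) (h4 : j ≤ t) (h5 : j ≠ k) :
    uu q j * uu q k ∣ ∏ i ∈ Finset.Ico n t, uu q (i + 1) := by
  have e : ({j - 1, k - 1} : Finset ℕ) ⊆ Finset.Ico n t := by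
    intro x hx
    rw [Finset.mem_insert, Finset.mem_singleton] at hx
    rw [Finset.mem_Ico]
    omega
  refine dvd_trans ?_ (Finset.prod_dvd_prod_of_subset _ _ (fun i => uu q (i + 1)) e)
  rw [Finset.prod_pair (by omega)]
  have e1 : j - 1 + 1 = j := by omega
  have e2 : k - 1 + 1 = k := by omega
  rw [e1, e2]

theorem mem_prod_uu_one (q : ℕ) {n t k : ℕ} (h1 : n + 1 ≤ k) (h2 : k ≤ t) :
    uu q k ∣ ∏ i ∈ Finset.Ico n t, uu q (i + 1) := by
  have h6 := Finset.dvd_prod_of_mem (fun i => uu q (i + 1))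
    (Finset.mem_Ico.2 (⟨by omega, by omega⟩ : n ≤ k - 1 ∧ k - 1 < t))
  have e1 : k - 1 + 1 = k := by omega
  simp only [e1] at h6
  exact h6

/-- `r ∣ q + 1` -/
theorem exists_exponentU {q k r : ℕ} (hr : r.Prime) (hk : 3 ≤ k) (hrq : r ∣ q + 1) :
    ∃ a, r ^ a ∣ ∏ i ∈ Finset.Ico 1 k, ((q ^ 2) ^ i - 1) ∧ ¬ r ^ a ∣ q + 1 := by
  obtain ⟨v, m, hm, hvm⟩ := Nat.exists_eq_pow_mul_and_not_dvd (show q + 1 ≠ 0 by omega) r hr.ne_one
  refine ⟨v + 1, ?_, ?_⟩
  · have e : ({1, 2} : Finset ℕ) ⊆ Finset.Ico 1 k := by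
      intro x hx
      rw [Finset.mem_insert, Finset.mem_singleton] at hx
      rw [Finset.mem_Ico]
      omega
    refine dvd_trans ?_ (Finset.prod_dvd_prod_of_subset _ _ (fun i => (q ^ 2) ^ i - 1) e)
    rw [Finset.prod_pair (by omega), pow_one, pow_succ]
    have h1 : q + 1 ∣ q ^ 2 - 1 := ⟨q - 1, by rw [← one_pow 2, Nat.sq_sub_sq, one_pow]⟩
    refine Nat.mul_dvd_mul ?_ ?_
    · refine Dvd.dvd.trans ?_ h1
      rw [hvm]; exact dvd_mul_right _ _
    · exact hrq.trans (h1.trans (by simpa using Nat.sub_dvd_pow_sub_pow (q ^ 2) 1 2))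
  · intro h
    rw [hvm, pow_succ] at h
    exact hm (Nat.dvd_of_mul_dvd_mul_left (pow_pos hr.pos v) h)

section psu

variable {F : Type u} [Field F] [Fintype F] {q : ℕ}

/-- the character of `GU` -/
theorem gu_char_nn (hq : Nat.card F = q ^ 2) {k n' : ℕ} {c : GL (Fin k) F → ℂ}
    (hc : Cus F k (CForm.powHom hq) (fun z => z ^ (q + 1) = 1) c) {r : ℕ} (hr : r.Prime) (hnn : NN r c) :
    ∃ χ : GU (k + (k + n')) F q → ℂ, IsIrrCharacter _ χ ∧
      χ 1 = (dg (CForm.hermF F hq (k + (k + n'))) k : ℂ) ∧ NN r χ ∧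
      ∀ (z : GU (k + (k + n')) F q) (c : F), c * c ^ q = 1 →
      (∀ v, ((z : GL (Fin (k + (k + n'))) F) : Matrix (Fin (k + (k + n'))) (Fin (k + (k + n'))) F).mulVec v = c • v) →
        χ z = χ 1 := by
  classical
  obtain ⟨p, hp⟩ := CharP.exists F
  have hpr : p.Prime := (CharP.char_is_prime_or_zero F p).resolve_right (CharP.char_ne_zero_of_finite F p)
  have : Fact p.Prime := ⟨hpr⟩
  obtain ⟨⟨W₀, hW₀⟩, -⟩ := CForm.hermF_frame (K := F) (p := p) hq k n'
  obtain ⟨χ, hχ, hχ1, hχn, hχz⟩ := exists_char_nn (CForm.hermF F hq (k + (k + n'))) hW₀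
    (Z := fun z => z ^ (q + 1) = 1) (c := c) hc hr hnn
  refine ⟨χ ∘ (isoGU hq (k + (k + n'))).toMonoidHom,
    Core.isIrr_comp (isoGU hq (k + (k + n'))).toMonoidHom (isoGU hq (k + (k + n'))).surjective hχ, ?_,
    hχn.comp hr _, ?_⟩
  · change χ (isoGU hq (k + (k + n')) 1) = _
    rw [map_one, hχ1]
  · intro z c hc hz
    change χ (isoGU hq (k + (k + n')) z) = χ (isoGU hq (k + (k + n')) 1)
    rw [map_one]
    have hc0 : c ≠ 0 := by rintro rfl; rw [zero_mul] at hc; exact zero_ne_one hc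
    refine hχz _ (Units.mk0 c hc0) ?_ fun v => ?_
    · apply Units.ext
      rw [Units.val_pow_eq_pow_val, Units.val_mk0, Units.val_one, pow_succ', hc]
    · rw [isoGU_apply, hz v, Units.val_mk0]

/-- `PSU = N / Z(N)`, `N` the kernel of the determinant -/
noncomputable def psuEquiv (n : ℕ) (F : Type u) [Field F] (q : ℕ) :
    PSU n F q ≃* (Cfsg.Agent.H113.PSU.Descent.NN n F q ⧸ Subgroup.center (Cfsg.Agent.H113.PSU.Descent.NN n F q)) :=
  QuotientGroup.congr (Subgroup.center (SU n F q)) (Subgroup.center (Cfsg.Agent.H113.PSU.Descent.NN n F q)) (eSU n F q) (by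
    ext x
    constructor
    · rintro ⟨z, hz, rfl⟩
      refine Subgroup.mem_center_iff.2 fun g => ?_
      obtain ⟨g, rfl⟩ := (eSU n F q).surjective g
      change (eSU n F q g) * (eSU n F q z) = (eSU n F q z) * (eSU n F q g)
      rw [← map_mul, ← map_mul, Subgroup.mem_center_iff.1 hz]
    · intro hx
      refine ⟨(eSU n F q).symm x, Subgroup.mem_center_iff.2 fun g => ?_, (eSU n F q).apply_symm_apply x⟩
      apply (eSU n F q).injective
      rw [map_mul, map_mul, (eSU n F q).apply_symm_apply, Subgroup.mem_center_iff.1 hx])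

theorem center_scal {n : ℕ} (hF : Fintype.card F = q ^ 2) (hn : 3 ≤ n) {χ : GU n F q → ℂ}
    (hz : ∀ (z : GU n F q) (c : F), c * c ^ q = 1 →
      (∀ v, ((z : GL (Fin n) F) : Matrix (Fin n) (Fin n) F).mulVec v = c • v) → χ z = χ 1)
    (z : Cfsg.Agent.H113.PSU.Descent.NN n F q) (hzc : z ∈ Subgroup.center (Cfsg.Agent.H113.PSU.Descent.NN n F q)) : χ z = χ 1 := by
  obtain ⟨g, rfl⟩ := (eSU n F q).surjective z
  have hg : g ∈ Subgroup.center (SU n F q) := by
    refine Subgroup.mem_center_iff.2 fun h => ?_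
    apply (eSU n F q).injective
    rw [map_mul, map_mul, Subgroup.mem_center_iff.1 hzc]
  obtain ⟨c, hc, hcq, hc'⟩ := Cfsg.Agent.ClassicalGeometry.PSUAutBasic.exists_scalar_of_mem_center hF hn hg
  refine hz _ c hcq fun v => ?_
  rw [eSU_val, hc']

/-- fixed vectors -/
theorem imc_psu_nn {n : ℕ} (hF : Fintype.card F = q ^ 2) (hn : 3 ≤ n) {χ : GU n F q → ℂ} (hχ : IsIrrCharacter _ χ)
    {d a : ℕ} (hd : χ 1 = d) {r : ℕ} [hr : Fact r.Prime] (hnn : NN r χ)
    (hz : ∀ (z : GU n F q) (c : F), c * c ^ q = 1 →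
      (∀ v, ((z : GL (Fin n) F) : Matrix (Fin n) (Fin n) F).mulVec v = c • v) → χ z = χ 1)
    (h1 : r ^ a ∣ d) (h2 : ¬ r ^ a ∣ q + 1) : IMC r (PSU n F q) := by
  refine IMC.of_equiv (psuEquiv n F q) ?_
  obtain ⟨Q⟩ : Nonempty (Sylow r (Cfsg.Agent.H113.PSU.Descent.NN n F q)) := inferInstance
  rw [← index_NN (n := n) hF (by omega)] at h2
  exact imc_down (Cfsg.Agent.H113.PSU.Descent.NN n F q) hχ hd (center_scal hF hn hz) h1 h2 Q (hnn.fix _ (Q.isPGroup'.map _))

/-- defect zero -/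
theorem imc_psu_dz {n : ℕ} (hF : Fintype.card F = q ^ 2) (hn : 3 ≤ n) {χ : GU n F q → ℂ} (hχ : IsIrrCharacter _ χ)
    {d : ℕ} (hd : χ 1 = d) {r : ℕ} [hr : Fact r.Prime]
    (hz : ∀ (z : GU n F q) (c : F), c * c ^ q = 1 →
      (∀ v, ((z : GL (Fin n) F) : Matrix (Fin n) (Fin n) F).mulVec v = c • v) → χ z = χ 1)
    (hrS : r ∣ Nat.card (PSU n F q)) (h1 : r ^ (Nat.card (PSU n F q)).factorization r ∣ d) (h2 : ¬ r ∣ q + 1) :
    IMC r (PSU n F q) := by
  refine IMC.of_equiv (psuEquiv n F q) ?_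
  rw [← index_NN (n := n) hF (by omega)] at h2
  rw [Nat.card_congr (psuEquiv n F q).toEquiv] at h1 hrS
  exact imc_down_dz (Cfsg.Agent.H113.PSU.Descent.NN n F q) hχ hd (center_scal hF hn hz) hrS h1 h2

theorem card_psu_dvd {n r N : ℕ} (hF : Fintype.card F = q ^ 2) (hr : r.Prime) (hrq : ¬ r ∣ q)
    (h : r ^ N ∣ Nat.card (PSU n F q)) : r ^ N ∣ ∏ i ∈ Finset.range n, uu q (i + 1) := by
  have hq : Nat.card F = q ^ 2 := by rw [Nat.card_eq_fintype_card, hF]
  have h1 : r ^ N ∣ Nat.card (CForm.hermF F hq n).iso := by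
    rw [← Nat.card_congr (isoGU hq n).toEquiv]
    have h2 : Nat.card (PSU n F q) ∣ Nat.card (SU n F q) := Subgroup.card_quotient_dvd_card _
    exact h.trans (h2.trans (Subgroup.card_dvd_of_injective (toGU n F q) toGU_injective))
  rw [card_iso] at h1
  refine (Nat.Coprime.pow_left N ?_).dvd_of_dvd_mul_left h1
  rw [Nat.Prime.coprime_iff_not_dvd hr]
  exact fun h => hrq (hr.dvd_of_dvd_pow h)

/-- **`PSU_n(q)`, `n ≥ 6`, `r ≠ p`** -/
theorem imc_psu_main {n : ℕ} (hF : Fintype.card F = q ^ 2) (hn : 6 ≤ n) {r : ℕ} [hr : Fact r.Prime] (hrq : ¬ r ∣ q)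
    (hd : r ∣ Nat.card (PSU n F q)) : IMC r (PSU n F q) := by
  classical
  obtain ⟨p, hpr', hp, hpq⟩ := Cfsg.Agent.H113.PSU.Facts.prime_pow hF
  have hpf : Fact p.Prime := ⟨hpr'⟩
  have hrp : r ≠ p := fun h => hrq ((hpq r hr.out).2 h)
  have hq2 := LieClassical.HermBasic.two_le hF
  have hq : Nat.card F = q ^ 2 := by rw [Nat.card_eq_fintype_card, hF]
  have hrF : (r : F) ≠ 0 := cast_ne_zero_of hr.out hpr' hrp
  obtain ⟨e, he0, he⟩ := exists_ordU (q := q) hr.out hrq (by omega)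
  have h1 := card_psu_dvd (N := 1) hF hr.out hrq (by rwa [pow_one])
  rw [pow_one] at h1
  obtain ⟨i₀, hi₀, hi₀'⟩ := (Prime.dvd_finsetProd_iff hr.out.prime _).1 h1
  rw [Finset.mem_range] at hi₀
  have hen : e ≤ n := (Nat.le_of_dvd (by omega) ((he _).1 hi₀')).trans (by omega)
  -- the odd one of `m`, `m - 1`
  obtain ⟨k, n', k', n'', hkn, hkn', hk, hk3, hn', hn'', hne, hk'2⟩ : ∃ k n' k' n'', k + (k + n') = n ∧
      k' + (k' + n'') = n ∧ Odd k ∧ 3 ≤ k ∧ n' ≤ 3 ∧ n'' ≤ 3 ∧ k' ≠ k ∧ 2 ≤ k' := by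
    obtain ⟨m, hm | hm⟩ := Nat.even_or_odd' n
    · rcases Nat.even_or_odd m with h | h
      · obtain ⟨t, ht⟩ := h
        exact ⟨m - 1, 2, m, 0, by omega, by omega, ⟨t - 1, by omega⟩, by omega, by omega, by omega, by omega, by omega⟩
      · exact ⟨m, 0, m - 1, 2, by omega, by omega, h, by omega, by omega, by omega, by omega, by omega⟩
    · rcases Nat.even_or_odd m with h | h
      · obtain ⟨t, ht⟩ := h
        exact ⟨m - 1, 3, m, 1, by omega, by omega, ⟨t - 1, by omega⟩, by omega, by omega, by omega, by omega, by omega⟩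
      · exact ⟨m, 1, m - 1, 3, by omega, by omega, h, by omega, by omega, by omega, by omega, by omega⟩
  by_cases hpr : ∀ i, r ∣ q ^ i - 1 ↔ k ∣ i
  · -- defect zero
    have hr2 := prim_ne_two hrq hk3 hpr
    have hU := ordU_of_prim hr.out (by omega) hr2 hk hpr
    have hq1 : ¬ r ∣ q + 1 := by
      have h2 := ell_not_dvd_add hk hr.out hpr (by omega) hr2 1
      rwa [pow_one] at h2
    obtain ⟨c, hc⟩ := Cfsg.Agent.H345.CusU.exists_cusU hq k' hk'2
    have hN0 := card_psu_dvd hF hr.out hrq (Nat.ordProj_dvd (Nat.card (PSU n F q)) r)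
    have hN : r ^ (Nat.card (PSU n F q)).factorization r ∣ uu q (2 * k) := by
      have h5 := pow_dvd_factor hr.out (Finset.range n) (fun i => uu q (i + 1)) (a := 2 * k - 1)
        (Finset.mem_range.2 (by omega)) (fun i hi hik => by
          rw [Finset.mem_range] at hi
          rw [hU]
          intro h
          obtain ⟨t, ht⟩ := h
          rcases Nat.lt_or_ge t 2 with h4 | h4
          · interval_cases t <;> omega
          · have : 2 * k * 2 ≤ 2 * k * t := Nat.mul_le_mul_left _ h4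
            omega) hN0
      have e1 : 2 * k - 1 + 1 = 2 * k := by omega
      simp only [e1] at h5
      exact h5
    obtain ⟨s, hs⟩ := dvd_dg hq (p := p) (k := k') (n' := n'') (by omega)
    have hk'nd : ¬ r ∣ q ^ (2 * k') - 1 := by
      rw [← uu_even (even_two_mul k'), hU]
      intro h
      obtain ⟨t, ht⟩ := h
      rcases Nat.lt_or_ge t 2 with h4 | h4
      · interval_cases t <;> omega
      · have : 2 * k * 2 ≤ 2 * k * t := Nat.mul_le_mul_left _ h4
        omega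
    have hdeg : r ^ (Nat.card (PSU n F q)).factorization r ∣ dg (CForm.hermF F hq (k' + (k' + n''))) k' := by
      have h5 := mem_prod_uu_one q (n := n'') (t := k' + (k' + n'')) (k := 2 * k) (by omega) (by omega)
      have h7 := prime_pow_dvd hr.out hpr' hrp (hN.trans (h5.trans hs))
      exact (Nat.Coprime.pow_left _ ((Nat.Prime.coprime_iff_not_dvd hr.out).2 hk'nd)).dvd_of_dvd_mul_right h7
    subst hkn'
    obtain ⟨χ, hχ, hχ1, hχz⟩ := gu_char (n' := n'') hq hc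
    exact imc_psu_dz hF (by omega) hχ hχ1 hχz hd hdeg hq1
  · -- fixed vectors
    obtain ⟨c, hc, hnn⟩ := exists_cusU_imc (K := F) hq hk hk3 hr.out hrF hpr
    have hek : e ≠ 2 * k := by
      rintro rfl
      exact hpr (prim_of_ordU hr.out hk he)
    obtain ⟨s, hs⟩ := dvd_dg hq (p := p) (k := k) (n' := n') (by omega)
    subst hkn
    obtain ⟨χ, hχ, hχ1, hχn, hχz⟩ := gu_char_nn (n' := n') hq hc hr.out hnn
    by_cases hrq1 : r ∣ q + 1
    · obtain ⟨a, ha1, ha2⟩ := exists_exponentU (q := q) (k := k) hr.out hk3 hrq1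
      refine imc_psu_nn hF (by omega) hχ hχ1 hχn hχz (a := a) ?_ ha2
      unfold dg
      refine Dvd.dvd.mul_left ?_ _
      rwa [hq]
    · have he2 : 2 ≤ e := by
        by_contra h
        have h2 : e = 1 := by omega
        apply hrq1
        have h3 := (he 1).2 (by rw [h2])
        rwa [uu_odd odd_one, pow_one] at h3
      obtain ⟨j, hj1, hj2, hj3, hj4⟩ := arith_su hk3 hn' he he2 hek (by omega)
      refine imc_psu_nn hF (by omega) hχ hχ1 hχn hχz (a := 1) ?_ (by rwa [pow_one])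
      rw [pow_one]
      have hk0 : 0 < q ^ (2 * k) - 1 := pow_pred_pos hq2 (by omega)
      have h5 := (mem_prod_uu q (n := n') (t := k + (k + n')) (k := 2 * k) (j := j) (by omega) (by omega)
        (by omega) (by omega) hj3).trans hs
      rw [uu_even (even_two_mul k)] at h5
      exact prime_dvd_of hr.out hpr' hrp (hj4.trans (dvd_of_cancel hk0 h5))

end psu

end Cfsg.Agent.H794.Imc
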