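import Cfsg.Agent.Lib.ModFour

/-!
# Involutions of the alternating group of degree 8 with exactly 105 conjugates
-/

set_option autoImplicit false

namespace Cfsg.Agent.H794.AEight

open Subgroup Equiv

/-- Even permutations of equal cycle type are conjugate if one of them commutes with an odd permutation. -/
theorem isConj_of_odd {n : ℕ} {σ τ : alternatingGroup (Fin n)}
    (h : (σ : Perm (Fin n)).cycleType = (τ : Perm (Fin n)).cycleType)
    (hodd : ∃ π : Perm (Fin n), Perm.sign π = -1 ∧ π * σ = σ * π) : IsConj σ τ := by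
  obtain ⟨g, hg⟩ := isConj_iff.1 (Perm.isConj_iff_cycleType_eq.2 h)
  obtain ⟨π, hπ, hc⟩ := hodd
  rcases Int.units_eq_one_or (Perm.sign g) with h1 | h1
  · refine isConj_iff.2 ⟨⟨g, Perm.mem_alternatingGroup.2 h1⟩, ?_⟩
    exact Subtype.ext hg
  · refine isConj_iff.2 ⟨⟨g * π, Perm.mem_alternatingGroup.2 (by rw [Perm.sign_mul, h1, hπ]; rfl)⟩, ?_⟩
    apply Subtype.ext
    show g * π * (σ : Perm (Fin n)) * (g * π)⁻¹ = τ
    rw [← hg, mul_assoc g π, hc]
    group

/-- The fixed-point-free involution. -/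
def s0 : Perm (Fin 8) := swap 0 1 * (swap 2 3 * (swap 4 5 * swap 6 7))

theorem sign_s0 : Perm.sign s0 = 1 := by decide
theorem cycleType_s0 : s0.cycleType = {2, 2, 2, 2} := by
  have h2 : s0 * s0 = 1 := by decide
  have h1 : s0 ^ 2 = 1 := by rw [pow_two, h2]
  have h3 := Perm.cycleType_of_pow_prime_eq_one (p := 2) h1
  have h4 : s0.support.card = 8 := by decide
  have h5 := s0.sum_cycleType
  rw [h3, Multiset.sum_replicate, h4, smul_eq_mul] at h5
  have h6 : Multiset.card s0.cycleType = 4 := by omega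
  rw [h3] at h6 ⊢
  rw [Multiset.card_replicate] at h6
  rw [h6]
  rfl

theorem exists_odd {σ : Perm (Fin 8)} (h : σ.cycleType = {2, 2, 2, 2}) :
    ∃ π : Perm (Fin 8), Perm.sign π = -1 ∧ π * σ = σ * π := by
  obtain ⟨g, hg⟩ := isConj_iff.1 (Perm.isConj_iff_cycleType_eq.2 (cycleType_s0.trans h.symm))
  refine ⟨g * swap 0 1 * g⁻¹, ?_, ?_⟩
  · rw [Perm.sign_mul, Perm.sign_mul, Perm.sign_inv, mul_right_comm, ← sq, Int.units_sq, one_mul]
    decide
  · rw [← hg]
    have : swap (0 : Fin 8) 1 * s0 = s0 * swap 0 1 := by decide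
    calc g * swap 0 1 * g⁻¹ * (g * s0 * g⁻¹) = g * (swap 0 1 * s0) * g⁻¹ := by group
      _ = g * (s0 * swap 0 1) * g⁻¹ := by rw [this]
      _ = _ := by group

theorem cycleType_cases {σ : alternatingGroup (Fin 8)} (h : orderOf σ = 2) :
    (σ : Perm (Fin 8)).cycleType = {2, 2} ∨ (σ : Perm (Fin 8)).cycleType = {2, 2, 2, 2} := by
  have h1 : (σ : Perm (Fin 8)) ^ 2 = 1 := by
    have := pow_orderOf_eq_one σ
    rw [h] at this
    exact congrArg Subtype.val this
  have h3 := Perm.cycleType_of_pow_prime_eq_one (p := 2) h1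
  have h5 := (σ : Perm (Fin 8)).sum_cycleType_le
  have hs : Perm.sign (σ : Perm (Fin 8)) = 1 := Perm.mem_alternatingGroup.1 σ.2
  rw [Perm.sign_of_cycleType] at hs
  generalize hk : (Multiset.card (σ : Perm (Fin 8)).cycleType) = k at *
  rw [h3, Multiset.sum_replicate, smul_eq_mul, Fintype.card_fin] at h5
  rw [h3, Multiset.sum_replicate, smul_eq_mul] at hs
  have hk0 : k ≠ 0 := by
    intro h0
    rw [h0, Multiset.replicate_zero, Perm.cycleType_eq_zero] at h3
    rw [show σ = 1 from Subtype.ext h3, orderOf_one] at h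
    omega
  have hk4 : k ≤ 4 := by
    have : Multiset.card (Multiset.replicate k 2) = k := Multiset.card_replicate _ _
    omega
  have hcase : k = 1 ∨ k = 2 ∨ k = 3 ∨ k = 4 := by omega
  rcases hcase with rfl | rfl | rfl | rfl
  · exact absurd hs (by decide)
  · left; rw [h3]; rfl
  · exact absurd hs (by decide)
  · right; rw [h3]; rfl

theorem index_two_two {σ : alternatingGroup (Fin 8)} (h : (σ : Perm (Fin 8)).cycleType = {2, 2}) :
    (centralizer ({σ} : Set (alternatingGroup (Fin 8)))).index ≠ 105 := by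
  rw [← Lib.ModFour.card_isConj]
  have h1 : ∀ τ : alternatingGroup (Fin 8), IsConj σ τ ↔ (τ : Perm (Fin 8)).cycleType = {2, 2} := by
    intro τ
    constructor
    · intro hc
      obtain ⟨g, hg⟩ := isConj_iff.1 hc
      rw [← h]
      refine (Perm.isConj_iff_cycleType_eq.1 (isConj_iff.2 ⟨(g : Perm (Fin 8)), ?_⟩)).symm
      rw [← hg]
      rfl
    · intro hτ
      apply alternatingGroup.isConj_of (Perm.isConj_iff_cycleType_eq.2 (h.trans hτ.symm))
      rw [← Perm.sum_cycleType, h]
      decide
  have h2 : Nat.card {τ : alternatingGroup (Fin 8) // IsConj σ τ} =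
      Nat.card {τ : alternatingGroup (Fin 8) // (τ : Perm (Fin 8)).cycleType = {2, 2}} :=
    Nat.card_congr (Equiv.subtypeEquivRight h1)
  have h3 := AlternatingGroup.card_of_cycleType (Fin 8) ({2, 2} : Multiset ℕ)
  rw [h2, Nat.card_eq_fintype_card, Fintype.card_subtype, h3]
  decide

theorem index_four {σ : alternatingGroup (Fin 8)} (h : (σ : Perm (Fin 8)).cycleType = {2, 2, 2, 2}) :
    (centralizer ({σ} : Set (alternatingGroup (Fin 8)))).index = 105 := by
  rw [← Lib.ModFour.card_isConj]
  have h1 : ∀ τ : alternatingGroup (Fin 8), IsConj σ τ ↔ (τ : Perm (Fin 8)).cycleType = {2, 2, 2, 2} := by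
    intro τ
    constructor
    · intro hc
      obtain ⟨g, hg⟩ := isConj_iff.1 hc
      rw [← h]
      refine (Perm.isConj_iff_cycleType_eq.1 (isConj_iff.2 ⟨(g : Perm (Fin 8)), ?_⟩)).symm
      rw [← hg]
      rfl
    · intro hτ
      exact isConj_of_odd (h.trans hτ.symm) (exists_odd h)
  have h2 : Nat.card {τ : alternatingGroup (Fin 8) // IsConj σ τ} =
      Nat.card {τ : alternatingGroup (Fin 8) // (τ : Perm (Fin 8)).cycleType = {2, 2, 2, 2}} :=
    Nat.card_congr (Equiv.subtypeEquivRight h1)
  have h3 := AlternatingGroup.card_of_cycleType (Fin 8) ({2, 2, 2, 2} : Multiset ℕ)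
  rw [h2, Nat.card_eq_fintype_card, Fintype.card_subtype, h3]
  decide

/-- `X` has exactly 105 involutions with exactly 105 conjugates, and they form one class. -/
def Big (X : Type*) [Group X] : Prop :=
  (∃ x : X, orderOf x = 2 ∧ (centralizer ({x} : Set X)).index = 105) ∧
    ∀ x y : X, orderOf x = 2 → (centralizer ({x} : Set X)).index = 105 →
      orderOf y = 2 → (centralizer ({y} : Set X)).index = 105 → IsConj x y

theorem big_alt : Big (alternatingGroup (Fin 8)) := by
  constructor
  · refine ⟨⟨s0, Perm.mem_alternatingGroup.2 sign_s0⟩, ?_, index_four cycleType_s0⟩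
    apply orderOf_eq_prime
    · apply Subtype.ext
      show s0 ^ 2 = 1
      decide
    · intro h
      have := congrArg Subtype.val h
      exact absurd this (by decide)
  · intro x y hx hx' hy hy'
    have h1 : (x : Perm (Fin 8)).cycleType = {2, 2, 2, 2} :=
      (cycleType_cases hx).resolve_left fun h => index_two_two h hx'
    have h2 : (y : Perm (Fin 8)).cycleType = {2, 2, 2, 2} :=
      (cycleType_cases hy).resolve_left fun h => index_two_two h hy'
    exact isConj_of_odd (h1.trans h2.symm) (exists_odd h1)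

theorem index_centralizer_congr {X Y : Type*} [Group X] [Group Y] (e : X ≃* Y) (x : X) :
    (centralizer ({e x} : Set Y)).index = (centralizer ({x} : Set X)).index := by
  rw [← Lib.ModFour.card_isConj, ← Lib.ModFour.card_isConj]
  refine (Nat.card_congr (e.toEquiv.subtypeEquiv fun y => ?_)).symm
  constructor
  · intro h
    exact e.toMonoidHom.map_isConj h
  · intro h
    have := e.symm.toMonoidHom.map_isConj h
    simpa using this

theorem Big.congr {X Y : Type*} [Group X] [Group Y] (e : X ≃* Y) (h : Big X) : Big Y := by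
  obtain ⟨⟨x, hx, hxi⟩, h2⟩ := h
  refine ⟨⟨e x, ?_, ?_⟩, ?_⟩
  · rw [MulEquiv.orderOf_eq, hx]
  · rw [index_centralizer_congr, hxi]
  · intro a b ha ha' hb hb'
    have h3 := h2 (e.symm a) (e.symm b) (by rw [MulEquiv.orderOf_eq, ha])
      (by rw [index_centralizer_congr, ha']) (by rw [MulEquiv.orderOf_eq, hb])
      (by rw [index_centralizer_congr, hb'])
    have := e.toMonoidHom.map_isConj h3
    simpa using this

end Cfsg.Agent.H794.AEight
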