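import Cfsg.Agent.H794.TwoClosed
import Cfsg.Agent.H794.DefAb
import Cfsg.Agent.H794.IrrMain
import Cfsg.Agent.H795.ExcRow
import Cfsg.Agent.H42.Tw.F4Asm
import Cfsg.Agent.H42.Tw.SzRee
import Cfsg.Agent.PreUniq.Cases

/-!
# `AbIrr p G` for the known simple groups from the classical and the sporadic rows (helper794)

* `ClassRow`, `SporRow` : the classical groups in cross characteristic, the sporadic groups and the Tits group;
* `abIrr_known` : `AbIrr p G` for the known simple groups.
-/

set_option autoImplicit false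

namespace Cfsg.Agent.H794.AbIrrRows

open Cfsg Cfsg.Agent.H795

universe u

/-- the classical groups in cross characteristic -/
def ClassRow : Prop :=
  ∀ (r p : ℕ) [Fact p.Prime] (G : Type u) [Group G] [Finite G] [IsSimpleGroup G], p ≠ 2 → p ≠ r →
    (IsPSLChar r G ∨ IsPSpChar r G ∨ IsPSUChar r G ∨ IsPOmegaOddChar r G ∨ IsPOmegaPlusChar r G ∨
      IsPOmegaMinusChar r G) → AbIrr p G

/-- the sporadic groups and the Tits group -/
def SporRow : Prop :=
  ∀ (p : ℕ) [Fact p.Prime] (G : Type u) [Group G] [Finite G] [IsSimpleGroup G], p ≠ 2 →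
    (IsSporadicGroup G ∨ Lie.IsoTits G) → AbIrr p G

/-- **Known simple groups.** -/
theorem abIrr_known (hC : ClassRow.{u}) (hS : SporRow.{u}) {G : Type u} [Group G] [Finite G] [IsSimpleGroup G]
    (hna : ¬ IsMulCommutative G) (hk : IsKnownSimple' G) (htwo : TwoClosed.Concl G) (p : ℕ) [hp : Fact p.Prime] :
    AbIrr p G := by
  by_cases hp2 : p = 2
  · subst hp2
    exact TwoClosed.abIrr_two htwo
  rcases PreUniq.known_cases hk with h | h | ⟨r, hr, h⟩ | h | h
  · exfalso
    apply hna
    have hf : Fact (Nat.card G).Prime := ⟨h⟩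
    have hc : IsCyclic G := isCyclic_of_prime_card rfl
    exact IsCyclic.isMulCommutative
  · exact abIrr_of_full (full_alt hp2 h)
  · by_cases hpr : p = r
    · subst hpr
      exact DefAb.abIrr_def hp2 hna h
    rcases h with h | h | h | h | h | h | h | h | ⟨rfl, h⟩ | ⟨rfl, h⟩ | ⟨rfl, h⟩
    · exact hC r p G hp2 hpr (Or.inl h)
    · exact hC r p G hp2 hpr (Or.inr (Or.inl h))
    · exact hC r p G hp2 hpr (Or.inr (Or.inr (Or.inl h)))
    · exact hC r p G hp2 hpr (Or.inr (Or.inr (Or.inr (Or.inl h))))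
    · exact hC r p G hp2 hpr (Or.inr (Or.inr (Or.inr (Or.inr (Or.inl h)))))
    · exact hC r p G hp2 hpr (Or.inr (Or.inr (Or.inr (Or.inr (Or.inr h)))))
    · exact (ExcRow.chev h hp2 hpr).1
    · exact (ExcRow.tw h hp2 hpr).1
    · exact H42.Tw.abIrr_suz h hp2
    · exact H42.Tw.abIrr_twF4 h hp2
    · refine H42.Tw.abIrr_ree h ?_
      have h2 := hp.out.two_le
      omega
  · exact hS p G hp2 (Or.inr h)
  · exact hS p G hp2 (Or.inl h)

end Cfsg.Agent.H794.AbIrrRows
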