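import Cfsg.Agent.H794.ImcPos
import Cfsg.Agent.H345.CusU
import Cfsg.Agent.Lib.Zsigmondy

/-!
# Cuspidal data with fixed vectors under all `p`-subgroups (helper794)

`exists_cus_imc`, `exists_cusU_imc` : `k ≥ 3` odd, `p` not a primitive prime divisor of `q^k - 1`: a cuspidal datum
`c` of `GL_k(q)`, resp. `GL_k(q²)`, with `NN p c`, trivial on all scalars, resp. on the scalars of norm one.
-/

set_option autoImplicit false

open Cfsg
open scoped ComplexConjugate ComplexOrder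

namespace Cfsg.Agent.H794.Imc

open Cfsg.Agent.H139.Cusp Cfsg.Agent.H53.HC Cfsg.Agent.H477.HC Module

universe u v w

theorem powTheta_one_of {L : Type*} [Field L] [Finite L] (θ : L →*₀ ℂ) {p : ℕ} (hp : p.Prime) {a b : ℕ} (ha : a ≠ 0)
    (hab : Nat.card Lˣ ∣ a * b) (hb : ¬ p ∣ b) (x : L) (hx : ∃ j : ℕ, x ^ (p ^ j) = 1) : powTheta θ a ha x = 1 := by
  obtain ⟨j, hj⟩ := hx
  have hx0 : x ≠ 0 := by
    rintro rfl
    rw [zero_pow (pow_ne_zero _ hp.ne_zero)] at hj
    exact zero_ne_one hj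
  apply powTheta_eq_one ha
  let y : Lˣ := Units.mk0 x hx0
  have h1 : y ^ (p ^ j) = 1 := Units.ext (by rw [Units.val_pow_eq_pow_val, Units.val_mk0, hj, Units.val_one])
  have h2 : orderOf y ∣ p ^ j := orderOf_dvd_of_pow_eq_one h1
  have h3 : orderOf y ∣ a * b := (orderOf_dvd_natCard y).trans hab
  have h4 : (orderOf y).Coprime b := by
    obtain ⟨i, -, hi⟩ := (Nat.dvd_prime_pow hp).1 h2
    rw [hi]
    exact Nat.Coprime.pow_left _ ((Nat.Prime.coprime_iff_not_dvd hp).2 hb)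
  have h5 : orderOf y ∣ a := h4.dvd_of_dvd_mul_right h3
  have h6 := orderOf_dvd_iff_pow_eq_one.1 h5
  have h7 := congrArg Units.val h6
  rwa [Units.val_pow_eq_pow_val, Units.val_mk0, Units.val_one] at h7

/-- a primitive prime divisor of `q^k - 1`, `k` odd -/
theorem exists_ell {q k : ℕ} (hq : 2 ≤ q) (hk : Odd k) (hk3 : 3 ≤ k) :
    ∃ l : ℕ, l.Prime ∧ (∀ i, l ∣ q ^ i - 1 ↔ k ∣ i) ∧ ¬ l ∣ q ∧ l ≠ 2 := by
  obtain ⟨l, hl, h1, h2, h3⟩ := Cfsg.Agent.Lib.Zsigmondy.exists_primitive (a := q) (n := k) hq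
    (by omega) (by omega) (by
      rintro ⟨-, rfl⟩
      exact absurd hk (by decide))
  refine ⟨l, hl, h1, h3, ?_⟩
  rintro rfl
  have h4 : 2 ∣ q ^ 1 - 1 := by
    rw [pow_one]
    omega
  have h5 := Nat.le_of_dvd one_pos ((h1 1).1 h4)
  omega

theorem ell_coprime_two {l : ℕ} (hl : l.Prime) (h2 : l ≠ 2) : ¬ l ∣ 2 := fun h =>
  h2 ((Nat.prime_dvd_prime_iff_eq hl Nat.prime_two).1 h)

theorem odd_dvd_two_mul {k i : ℕ} (hk : Odd k) (h : k ∣ 2 * i) : k ∣ i :=
  (Nat.Coprime.dvd_of_dvd_mul_left (hk.coprime_two_right) h)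

theorem ell_not_dvd_add {q k l : ℕ} (hk : Odd k) (hl : l.Prime) (h1 : ∀ i, l ∣ q ^ i - 1 ↔ k ∣ i) (hq : 1 ≤ q)
    (h2 : l ≠ 2) (i : ℕ) : ¬ l ∣ q ^ i + 1 := by
  intro h
  have h3 : 1 ≤ q ^ i := Nat.one_le_pow _ _ hq
  have h4 : l ∣ q ^ (2 * i) - 1 := by
    have e : q ^ (2 * i) - 1 = (q ^ i + 1) * (q ^ i - 1) := by
      rw [← Nat.sq_sub_sq, one_pow, ← pow_mul, mul_comm]
    rw [e]
    exact h.mul_right _
  have h5 : l ∣ q ^ i - 1 := (h1 i).2 (odd_dvd_two_mul hk ((h1 _).1 h4))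
  have h6 : l ∣ 2 := by
    have := (Nat.dvd_sub h h5)
    have e : q ^ i + 1 - (q ^ i - 1) = 2 := by omega
    rwa [e] at this
  exact ell_coprime_two hl h2 h6

section id

variable {K : Type u} [Field K] [Finite K]

theorem exists_cus_imc {q k p : ℕ} (hq : Nat.card K = q) (hk : Odd k) (hk3 : 3 ≤ k) (hp : p.Prime)
    (hpK : (p : K) ≠ 0) (hnp : ¬ ∀ i, p ∣ q ^ i - 1 ↔ k ∣ i) :
    ∃ c : GL (Fin k) K → ℂ, Cus K k (RingHom.id K) (fun _ => True) c ∧ NN p c := by
  classical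
  have hq2 : 2 ≤ q := by rw [← hq]; exact Finite.one_lt_card
  obtain ⟨l, hl, h1, h3, hl2⟩ := exists_ell hq2 hk hk3
  have hpl : ¬ p ∣ l := by
    intro h
    have : p = l := (Nat.prime_dvd_prime_iff_eq hp hl).1 h
    subst this
    exact hnp h1
  have hk0 : 0 < k := by omega
  have hpos : 0 < q ^ k - 1 := by
    have : 1 < q ^ k := Nat.one_lt_pow (by omega) (by omega)
    omega
  obtain ⟨a, ha'⟩ := (h1 k).2 dvd_rfl
  have ha : a ≠ 0 := by rintro rfl; omega
  have hla : q ^ k - 1 = a * l := by rw [ha', mul_comm]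
  have hreg : ∀ i, 0 < i → i < k → ¬ (Nat.card K ^ k - 1) ∣ a * (Nat.card K ^ i - 1) := by
    intro i hi hik h
    rw [hq, hla] at h
    have h4 := (h1 i).1 (Nat.dvd_of_mul_dvd_mul_left (Nat.pos_of_ne_zero ha) h)
    exact absurd (Nat.le_of_dvd hi h4) (by omega)
  have hdual : ∀ i, i < k → ¬ (Nat.card K ^ k - 1) ∣ a * Nat.card K ^ i + a := by
    intro i hik h
    rw [hq, hla, ← Nat.mul_succ] at h
    exact ell_not_dvd_add hk hl h1 (by omega) hl2 i (Nat.dvd_of_mul_dvd_mul_left (Nat.pos_of_ne_zero ha) h)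
  have hqa : q - 1 ∣ a := by
    have h4 : q - 1 ∣ a * l := by
      rw [← hla]
      simpa using Nat.sub_dvd_pow_sub_pow q 1 k
    refine Nat.Coprime.dvd_of_dvd_mul_right ?_ h4
    rw [Nat.coprime_comm, Nat.Prime.coprime_iff_not_dvd hl]
    intro h5
    have h6 := (h1 1).1 (by rwa [pow_one])
    have := Nat.le_of_dvd one_pos h6
    omega
  obtain ⟨L, _, _, _, hL⟩ := exists_L K k hk0
  obtain ⟨θ, hθ⟩ := exists_theta L
  have hcardL : Nat.card Lˣ = Nat.card K ^ k - 1 := by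
    rw [Nat.card_units, Module.natCard_eq_pow_finrank (K := K), hL]
  have hR : Regular K k (powTheta θ a ha) := (regular_powTheta_iff hθ ha hL).2 hreg
  refine ⟨psi L (powTheta θ a ha), ⟨psi_isIrr _ hL hR, psi_isCusp L _, ?_, ?_, ?_⟩,
    psi_nn _ hp hpK hk fun x hx => powTheta_one_of θ hp ha (by rw [hcardL, hq, hla]) hpl x hx⟩
  · intro h
    have h1 : ∀ g : ((Fin k → K) →ₗ[K] (Fin k → K))ˣ, cusp L (powTheta θ a ha) (g : (Fin k → K) →ₗ[K] (Fin k → K)) =
        cusp L (conjTheta (powTheta θ a ha)) (g : (Fin k → K) →ₗ[K] (Fin k → K)) := by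
      intro g
      let A : GL (Fin k) K := Matrix.GeneralLinearGroup.toLin.symm g
      have h2 := congrFun h A
      have h3 : ((Matrix.GeneralLinearGroup.map (RingHom.id K)).comp (invT k)) A = invT k A := by
        ext i j
        rfl
      rw [Function.comp_apply, h3, psi_invT _ hL] at h2
      have h4 : psi L (powTheta θ a ha) A = cusp L (powTheta θ a ha) (g : (Fin k → K) →ₗ[K] (Fin k → K)) := by
        have h5 : Matrix.GeneralLinearGroup.toLin A = g := MulEquiv.apply_symm_apply _ g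
        rw [← h5]
        rfl
      rw [h4, cusp_star] at h2
      exact h2.symm
    obtain ⟨i, hi, h2⟩ := (cusp_eq_iff (V := Fin k → K) (powTheta θ a ha) (conjTheta (powTheta θ a ha))
      (by rw [Module.finrank_fin_fun, hL]) (by rw [hL]; exact hR)).1 h1
    rw [hL] at hi
    have h3 := (conj_powTheta_eq_iff hθ ha ha (pow_ne_zero i (Nat.card_pos (α := K)).ne')).1 h2
    rw [hcardL] at h3
    exact hdual i hi h3
  · intro z _
    have h1 := psi_scalar (powTheta θ a ha) hL z 1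
    rw [mul_one] at h1
    rw [h1, powTheta_eq_one ha, one_mul]
    obtain ⟨r, rfl⟩ := hqa
    have h2 : z ^ (q - 1) = 1 := by
      rw [← hq, ← Nat.card_units]
      exact pow_card_eq_one'
    rw [← map_pow, ← Units.val_pow_eq_pow_val, pow_mul, h2, one_pow, Units.val_one, map_one]
  · rw [psi_one L _ hk0, degP_eq_Ico]

end id

section unitary

variable {K : Type u} [Field K] [Finite K]

theorem exists_cusU_imc {q k p : ℕ} (hq : Nat.card K = q ^ 2) (hk : Odd k) (hk3 : 3 ≤ k) (hp : p.Prime)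
    (hpK : (p : K) ≠ 0) (hnp : ¬ ∀ i, p ∣ q ^ i - 1 ↔ k ∣ i) :
    ∃ c : GL (Fin k) K → ℂ, Cus K k (CForm.powHom hq) (fun z => z ^ (q + 1) = 1) c ∧ NN p c := by
  classical
  have hq2 : 2 ≤ q := CForm.two_le_of_card hq
  obtain ⟨l, hl, h1, h3, hl2⟩ := exists_ell hq2 hk hk3
  have hpl : ¬ p ∣ l := by
    intro h
    have : p = l := (Nat.prime_dvd_prime_iff_eq hp hl).1 h
    subst this
    exact hnp h1
  have hk0 : 0 < k := by omega
  have hpos : 0 < (q ^ 2) ^ k - 1 := by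
    have : 1 < (q ^ 2) ^ k := Nat.one_lt_pow (by omega) (Nat.one_lt_pow two_ne_zero (by omega))
    omega
  obtain ⟨a, ha'⟩ := (h1 (2 * k)).2 (dvd_mul_left k 2)
  rw [pow_mul] at ha'
  have ha : a ≠ 0 := by rintro rfl; omega
  have hla : (q ^ 2) ^ k - 1 = a * l := by rw [ha', mul_comm]
  have hreg : ∀ i, 0 < i → i < k → ¬ (Nat.card K ^ k - 1) ∣ a * (Nat.card K ^ i - 1) := by
    intro i hi hik h
    rw [hq, hla] at h
    have h4 := Nat.dvd_of_mul_dvd_mul_left (Nat.pos_of_ne_zero ha) h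
    rw [← pow_mul] at h4
    have h5 := odd_dvd_two_mul hk ((h1 _).1 h4)
    exact absurd (Nat.le_of_dvd hi h5) (by omega)
  have hdual : ∀ i, i < k → ¬ (Nat.card K ^ k - 1) ∣ a * Nat.card K ^ i + a * q := by
    intro i hik h
    rw [hq, hla, ← Nat.mul_add] at h
    have h4 := Nat.dvd_of_mul_dvd_mul_left (Nat.pos_of_ne_zero ha) h
    rcases Nat.eq_zero_or_pos i with rfl | hi
    · rw [pow_zero, add_comm] at h4
      exact ell_not_dvd_add hk hl h1 (by omega) hl2 1 (by rwa [pow_one])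
    · have e : (q ^ 2) ^ i + q = (q ^ (2 * i - 1) + 1) * q := by
        have e1 : (q ^ 2) ^ i = q ^ (2 * i - 1) * q := by
          rw [← pow_mul, ← pow_succ]
          congr 1
          omega
        rw [e1]
        ring
      rw [e] at h4
      exact ell_not_dvd_add hk hl h1 (by omega) hl2 (2 * i - 1) ((hl.dvd_mul.1 h4).resolve_right h3)
  have hqa : q + 1 ∣ a := by
    have h4 : q + 1 ∣ a * l := by
      rw [← hla]
      have e1 : q + 1 ∣ q ^ 2 - 1 := ⟨q - 1, by rw [← one_pow 2, Nat.sq_sub_sq, one_pow]⟩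
      exact e1.trans (by simpa using Nat.sub_dvd_pow_sub_pow (q ^ 2) 1 k)
    refine Nat.Coprime.dvd_of_dvd_mul_right ?_ h4
    rw [Nat.coprime_comm, Nat.Prime.coprime_iff_not_dvd hl]
    intro h5
    exact ell_not_dvd_add hk hl h1 (by omega) hl2 1 (by rwa [pow_one])
  obtain ⟨L, _, _, _, hL⟩ := exists_L K k hk0
  obtain ⟨θ, hθ⟩ := exists_theta L
  have hcardL : Nat.card Lˣ = Nat.card K ^ k - 1 := by
    rw [Nat.card_units, Module.natCard_eq_pow_finrank (K := K), hL]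
  have hb : a * q ≠ 0 := Nat.mul_ne_zero ha (by omega)
  have hR : Regular K k (powTheta θ a ha) := (regular_powTheta_iff hθ ha hL).2 hreg
  refine ⟨psi L (powTheta θ a ha), ⟨psi_isIrr _ hL hR, psi_isCusp L _, ?_, ?_, ?_⟩,
    psi_nn _ hp hpK hk fun x hx => powTheta_one_of θ hp ha (by rw [hcardL, hq, hla]) hpl x hx⟩
  · intro h
    have h1 : ∀ g : ((Fin k → K) →ₗ[K] (Fin k → K))ˣ,
        cusp L (powTheta θ a ha) (g : (Fin k → K) →ₗ[K] (Fin k → K)) =
        cusp L (conjTheta (powTheta θ (a * q) hb)) (g : (Fin k → K) →ₗ[K] (Fin k → K)) := by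
      intro g
      let A : GL (Fin k) K := Matrix.GeneralLinearGroup.toLin.symm g
      have h2 := congrFun h A
      rw [Function.comp_apply, MonoidHom.comp_apply,
        Cfsg.Agent.H345.CusU.psi_map_pow (powTheta θ a ha) (powTheta θ (a * q) hb) hL hq
          (fun x => by rw [powTheta_apply, powTheta_apply, map_pow, ← pow_mul, mul_comm q]),
        psi_invT _ hL] at h2
      have h4 : ∀ θ₁ : L →*₀ ℂ, psi L θ₁ A = cusp L θ₁ (g : (Fin k → K) →ₗ[K] (Fin k → K)) := by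
        intro θ₁
        have h5 : Matrix.GeneralLinearGroup.toLin A = g := MulEquiv.apply_symm_apply _ g
        rw [← h5]
        rfl
      rw [h4, h4, cusp_star] at h2
      exact h2.symm
    obtain ⟨i, hi, h2⟩ := (cusp_eq_iff (V := Fin k → K) (powTheta θ a ha)
      (conjTheta (powTheta θ (a * q) hb))
      (by rw [Module.finrank_fin_fun, hL]) (by rw [hL]; exact hR)).1 h1
    rw [hL] at hi
    have h3 := (conj_powTheta_eq_iff hθ ha hb (pow_ne_zero i (Nat.card_pos (α := K)).ne')).1 h2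
    rw [hcardL] at h3
    exact hdual i hi h3
  · intro z hz
    have h1 := psi_scalar (powTheta θ a ha) hL z 1
    rw [mul_one] at h1
    rw [h1, powTheta_eq_one ha, one_mul]
    obtain ⟨r, rfl⟩ := hqa
    rw [← map_pow, ← Units.val_pow_eq_pow_val, pow_mul, hz, one_pow, Units.val_one, map_one]
  · rw [psi_one L _ hk0, degP_eq_Ico]

end unitary

end Cfsg.Agent.H794.Imc
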