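import Cfsg.Agent.H794.ImcO

/-!
# `IMC r S` for `PΩ⁺_{2m}(q)`, `PΩ⁻_{2m}(q)`, `r` not the characteristic (helper794)
-/

set_option autoImplicit false

open Cfsg
open scoped ComplexConjugate ComplexOrder

namespace Cfsg.Agent.H794.Imc

open Cfsg.Agent.H625.SylConst Cfsg.Agent.H139.Cusp Cfsg.Agent.H53.HC Cfsg.Agent.H477.HC Module
  Cfsg.Agent.Characters

universe u v w

theorem mem_prod (q : ℕ) {n t k : ℕ} (h1 : n + 1 ≤ k) (h2 : k ≤ t) :
    (q ^ (2 * k) - 1) ∣ ∏ i ∈ Finset.Ico n t, (q ^ (2 * (i + 1)) - 1) := by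
  have h6 := Finset.dvd_prod_of_mem (fun i => q ^ (2 * (i + 1)) - 1)
    (Finset.mem_Ico.2 (⟨by omega, by omega⟩ : n ≤ k - 1 ∧ k - 1 < t))
  have e1 : k - 1 + 1 = k := by omega
  simp only [e1] at h6
  exact h6

theorem mem_prod_two (q : ℕ) {n t k j : ℕ} (h1 : n + 1 ≤ k) (h2 : k ≤ t) (h3 : n + 1 ≤ j) (h4 : j ≤ t) (h5 : j ≠ k) :
    (q ^ (2 * j) - 1) * (q ^ (2 * k) - 1) ∣ ∏ i ∈ Finset.Ico n t, (q ^ (2 * (i + 1)) - 1) := by
  have e : ({j - 1, k - 1} : Finset ℕ) ⊆ Finset.Ico n t := by
    intro x hx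
    rw [Finset.mem_insert, Finset.mem_singleton] at hx
    rw [Finset.mem_Ico]
    omega
  refine dvd_trans ?_ (Finset.prod_dvd_prod_of_subset _ _ (fun i => q ^ (2 * (i + 1)) - 1) e)
  rw [Finset.prod_pair (by omega)]
  have e1 : j - 1 + 1 = j := by omega
  have e2 : k - 1 + 1 = k := by omega
  rw [e1, e2]

theorem pow_pred_pos {q k : ℕ} (hq : 2 ≤ q) (hk : 0 < k) : 0 < q ^ k - 1 := by
  have : 1 < q ^ k := Nat.one_lt_pow (by omega) (by omega)
  omega

theorem prime_dvd_of {r p e D : ℕ} (hr : r.Prime) (hp : p.Prime) (hrp : r ≠ p) (h : r ∣ p ^ e * D) : r ∣ D := by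
  have := prime_pow_dvd (t := 1) hr hp hrp (by rw [pow_one]; exact h)
  rwa [pow_one] at this

section plus

variable (K : Type u) [Field K] [Finite K]

theorem hcard_plus {m : ℕ} (hm : 4 ≤ m) {r : ℕ} [hr : Fact r.Prime] (hrq : ¬ r ∣ Nat.card K) (hr2 : r ≠ 2) {N : ℕ}
    (hN : r ^ N ∣ Nat.card (POmega K (quadFormPlus m K))) :
    r ^ N ∣ (Nat.card K ^ m - 1) * ∏ i ∈ Finset.range (m - 1), (Nat.card K ^ (2 * (i + 1)) - 1) := by
  have hd1 : r ^ N ∣ Nat.card (isometryGroup K (quadFormPlus m K)) :=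
    hN.trans ((Subgroup.card_quotient_dvd_card _).trans (Subgroup.card_subgroup_dvd_card _))
  have hd2 : r ^ N ∣ Nat.card (CForm.plusF K m).iso := by
    rwa [← Nat.card_congr (isoQuad (CForm.plusF K m) (plus_hB K m)).toEquiv]
  rw [card_plusF K (by omega), mul_assoc] at hd2
  refine (Nat.Coprime.pow_left N ?_).dvd_of_dvd_mul_left hd2
  rw [Nat.Prime.coprime_iff_not_dvd hr.out]
  intro h
  rcases hr.out.dvd_mul.1 h with h' | h'
  · exact hr2 ((Nat.prime_dvd_prime_iff_eq hr.out Nat.prime_two).1 h')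
  · exact hrq (hr.out.dvd_of_dvd_pow h')

/-- **`PΩ⁺_{2m}(q)`, `r ≠ p`** -/
theorem imc_plus_main {p : ℕ} [Fact p.Prime] [CharP K p] {m : ℕ} (hm : 4 ≤ m) {r : ℕ} [hr : Fact r.Prime]
    (hrp : r ≠ p) (hd : r ∣ Nat.card (POmega K (quadFormPlus m K))) : IMC r (POmega K (quadFormPlus m K)) := by
  classical
  have hp : p.Prime := Fact.out
  obtain ⟨s, hs⟩ := card_pow K p
  have hq2 : 2 ≤ Nat.card K := Finite.one_lt_card
  have hrq : ¬ r ∣ Nat.card K := by
    rw [hs]; intro h; exact hrp ((Nat.prime_dvd_prime_iff_eq hr.out hp).1 (hr.out.dvd_of_dvd_pow h))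
  have hcard : r ≠ 2 → ∀ N, r ^ N ∣ Nat.card (POmega K (quadFormPlus m K)) →
      r ^ N ∣ (Nat.card K ^ m - 1) * ∏ i ∈ Finset.range (m - 1), (Nat.card K ^ (2 * (i + 1)) - 1) :=
    fun h2 N hN => hcard_plus K hm hrq h2 hN
  have hidx := plus_idx K hm
  have hfact : r ^ (Nat.card (POmega K (quadFormPlus m K))).factorization r ∣
    Nat.card (POmega K (quadFormPlus m K)) := Nat.ordProj_dvd _ _
  -- the two general conclusions
  have keyN : ∀ (k n : ℕ), k + n = m → Odd k → 3 ≤ k → (¬ ∀ i, r ∣ Nat.card K ^ i - 1 ↔ k ∣ i) →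
      (r ≠ 2 → r ∣ dg (CForm.plusF K (k + n)) k) → IMC r (POmega K (quadFormPlus m K)) := by
    rintro k n rfl hk hk3 hpr hdeg
    obtain ⟨c, hc, hnn⟩ := exists_cus_imc (K := K) rfl hk hk3 hr.out (cast_ne_zero_of hr.out hp hrp) hpr
    obtain ⟨⟨W₀, hW₀⟩, -⟩ := CForm.plusF_frame (K := K) (p := p) k n
    refine imc_omega_nn (CForm.plusF K (k + n)) (plus_hB K (k + n)) hW₀ hc (fun z hz => ?_) hidx hnn ?_
    · obtain ⟨a, -, ha⟩ := scal_of (cen_plus K (by omega) z hz)
      exact ⟨a, trivial, ha⟩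
    · by_cases h2 : r = 2
      · exact Or.inr ⟨h2, sixteen_dvd_dg _ hk3 (odd_of_two_ne (K := K) (p := p) (by rw [← h2]; exact hrp.symm))⟩
      · exact Or.inl ⟨h2, hdeg h2⟩
  have keyD : ∀ (k n : ℕ), k + n = m → 3 ≤ k → r ≠ 2 →
      r ^ (Nat.card (POmega K (quadFormPlus m K))).factorization r ∣ dg (CForm.plusF K (k + n)) k →
      IMC r (POmega K (quadFormPlus m K)) := by
    rintro k n rfl hk3 h2 hdeg
    obtain ⟨c, hc⟩ := exists_cus_sq K rfl k (by omega) (fun _ => hk3) (fun _ => hk3) (fun _ => by omega)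
    obtain ⟨⟨W₀, hW₀⟩, -⟩ := CForm.plusF_frame (K := K) (p := p) k n
    exact imc_omega_dz (CForm.plusF K (k + n)) (plus_hB K (k + n)) hW₀ hc
      (fun z hz => scal_of (cen_plus K (by omega) z hz)) hidx h2 hd hdeg
  rcases Nat.even_or_odd m with hme | hmo
  · -- `k = m - 1`
    have hk : Odd (m - 1) := by
      obtain ⟨t, ht⟩ := hme
      exact ⟨t - 1, by omega⟩
    by_cases hpr : ∀ i, r ∣ Nat.card K ^ i - 1 ↔ m - 1 ∣ i
    · have hr2 := prim_ne_two hrq (by omega) hpr
      refine keyD m 0 (by omega) (by omega) hr2 ?_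
      obtain ⟨e, he⟩ := plus_dvd_top K (p := p) (m := m) (by omega)
      have h1 := hcard hr2 _ hfact
      refine prime_pow_dvd hr.out hp hrp ((?_ : _ ∣ _).trans he)
      refine (Nat.Coprime.pow_left _ ?_).dvd_of_dvd_mul_left h1
      rw [Nat.Prime.coprime_iff_not_dvd hr.out, hpr]
      intro h
      obtain ⟨t, ht⟩ := h
      rcases Nat.lt_or_ge t 2 with h4 | h4
      · interval_cases t <;> omega
      · have : (m - 1) * 2 ≤ (m - 1) * t := Nat.mul_le_mul_left _ h4
        omega
    · refine keyN (m - 1) 1 (by omega) hk (by omega) hpr fun hr2 => ?_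
      obtain ⟨e, he⟩ := plus_dvd K (p := p) (k := m - 1) (n := 1) (by omega) le_rfl
      have hk0 := pow_pred_pos (q := Nat.card K) hq2 (show 0 < m - 1 by omega)
      have h1 := hcard hr2 1 (by rwa [pow_one])
      rw [pow_one] at h1
      have e1 : m - 1 + 1 = m := by omega
      generalize dg (CForm.plusF K (m - 1 + 1)) (m - 1) = D at he ⊢
      rw [e1, pow_one] at he
      -- the divisors
      have hP := mem_prod (Nat.card K) (n := 1) (t := m - 1) (k := m - 1) (by omega) le_rfl
      have hA : ((Nat.card K ^ m - 1) * (Nat.card K + 1) * (Nat.card K ^ (m - 1) + 1)) ∣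
          p ^ e * D := by
        refine dvd_of_cancel hk0 ?_
        refine Dvd.dvd.trans ?_ he
        rw [mul_assoc (_ * _), ← sq_sub]
        exact Nat.mul_dvd_mul_left _ hP
      have hB : ∀ j, 2 ≤ j → j ≤ m - 2 → (Nat.card K ^ (2 * j) - 1) ∣ p ^ e * D := by
        intro j hj1 hj2
        have h2 := (mem_prod_two (Nat.card K) (n := 1) (t := m - 1) (k := m - 1) (j := j) (by omega) le_rfl
          (by omega) (by omega) (by omega)).trans ((dvd_mul_left _ _).trans he)
        rw [sq_sub _ (m - 1), ← mul_assoc] at h2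
        exact (dvd_mul_right _ _).trans (dvd_of_cancel hk0 h2)
      obtain ⟨d, hd0, -, hdd⟩ := exists_ord (q := Nat.card K) hr.out hrq (by omega)
      have hdk : d ≠ m - 1 := by
        rintro rfl
        exact hpr hdd
      rcases hr.out.dvd_mul.1 h1 with h2 | h2
      · exact prime_dvd_of hr.out hp hrp (((h2.mul_right _).mul_right _).trans hA)
      obtain ⟨i, hi, hi'⟩ := (Prime.dvd_finsetProd_iff hr.out.prime _).1 h2
      rw [Finset.mem_range] at hi
      rcases Nat.eq_zero_or_pos i with rfl | hi0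
      · -- `r ∣ q² - 1`
        rw [zero_add, sq_sub, pow_one] at hi'
        rcases hr.out.dvd_mul.1 hi' with h3 | h3
        · exact prime_dvd_of hr.out hp hrp (((h3.mul_left _).mul_right _).trans hA)
        · have h4 : r ∣ Nat.card K ^ m - 1 := h3.trans (by simpa using Nat.sub_dvd_pow_sub_pow (Nat.card K) 1 m)
          exact prime_dvd_of hr.out hp hrp (((h4.mul_right _).mul_right _).trans hA)
      · rcases Nat.lt_or_ge (i + 1) (m - 1) with h3 | h3
        · exact prime_dvd_of hr.out hp hrp (hi'.trans (hB (i + 1) (by omega) (by omega)))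
        · have h4 : i + 1 = m - 1 := by omega
          rw [h4, sq_sub] at hi'
          rcases hr.out.dvd_mul.1 hi' with h5 | h5
          · exact prime_dvd_of hr.out hp hrp ((h5.mul_left _).trans hA)
          · have h6 : d ∣ m - 1 := (hdd _).1 h5
            have h7 : d < m - 1 := lt_of_le_of_ne (Nat.le_of_dvd (by omega) h6) hdk
            rcases Nat.lt_or_ge d 2 with h8 | h8
            · have h9 : r ∣ Nat.card K ^ m - 1 := (hdd _).2 (by
                have : d = 1 := by omega
                rw [this]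
                exact one_dvd _)
              exact prime_dvd_of hr.out hp hrp (((h9.mul_right _).mul_right _).trans hA)
            · exact prime_dvd_of hr.out hp hrp (((hdd _).2 (dvd_mul_left d 2)).trans (hB d h8 (by omega)))
  · -- `k = m`
    have hm5 : 5 ≤ m := by
      obtain ⟨t, ht⟩ := hmo
      omega
    by_cases hpr : ∀ i, r ∣ Nat.card K ^ i - 1 ↔ m ∣ i
    · have hr2 := prim_ne_two hrq (by omega) hpr
      refine keyD (m - 1) 1 (by omega) (by omega) hr2 ?_
      obtain ⟨e, he⟩ := plus_dvd K (p := p) (k := m - 1) (n := 1) (by omega) le_rfl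
      have h1 := hcard hr2 _ hfact
      have h2 : r ^ (Nat.card (POmega K (quadFormPlus m K))).factorization r ∣ Nat.card K ^ m - 1 := by
        refine (Nat.Coprime.pow_left _ ?_).dvd_of_dvd_mul_right h1
        rw [Nat.Prime.coprime_iff_not_dvd hr.out, Prime.dvd_finsetProd_iff hr.out.prime]
        rintro ⟨i, hi, hi'⟩
        rw [Finset.mem_range] at hi
        exact not_dvd_of_prim hmo hpr (m := m) (by omega) (show 0 < i + 1 by omega) (by omega) (by omega) hi'
      have e1 : m - 1 + 1 = m := by omega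
      generalize dg (CForm.plusF K (m - 1 + 1)) (m - 1) = D at he ⊢
      rw [e1] at he
      have h3 := prime_pow_dvd hr.out hp hrp (((h2.mul_right _).mul_right _).trans he)
      refine (Nat.Coprime.pow_left _ ?_).dvd_of_dvd_mul_right h3
      rw [Nat.Prime.coprime_iff_not_dvd hr.out, hpr]
      intro h
      exact absurd (Nat.le_of_dvd (by omega) h) (by omega)
    · refine keyN m 0 (by omega) hmo (by omega) hpr fun hr2 => ?_
      obtain ⟨e, he⟩ := plus_dvd_top K (p := p) (m := m) (by omega)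
      have h1 := hcard hr2 1 (by rwa [pow_one])
      rw [pow_one] at h1
      obtain ⟨d, hd0, -, hdd⟩ := exists_ord (q := Nat.card K) hr.out hrq (by omega)
      have hdk : d ≠ m := by
        rintro rfl
        exact hpr hdd
      refine prime_dvd_of hr.out hp hrp ((?_ : r ∣ _).trans he)
      rcases hr.out.dvd_mul.1 h1 with h2 | h2
      · have h6 : d ∣ m := (hdd _).1 h2
        have h7 : d < m := lt_of_le_of_ne (Nat.le_of_dvd (by omega) h6) hdk
        have h8 : r ∣ Nat.card K ^ (2 * d) - 1 := (hdd _).2 (dvd_mul_left d 2)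
        refine h8.trans ?_
        rw [Finset.range_eq_Ico]
        exact mem_prod (Nat.card K) (by omega) (by omega)
      · exact h2

end plus

section minus

theorem arith_minus {q r k n : ℕ} (hr : r.Prime) (hq : 2 ≤ q) (hrq : ¬ r ∣ q) (hk : Odd k) (hk3 : 3 ≤ k) (hn : n ≤ 1)
    (hnp : ¬ ∀ i, r ∣ q ^ i - 1 ↔ k ∣ i)
    (h : r ∣ q ^ (k + n + 1) + 1 ∨ ∃ j, 0 < j ∧ j ≤ k + n ∧ r ∣ q ^ (2 * j) - 1) :
    r ∣ q ^ (k + n + 1) + 1 ∨ r ∣ q ^ (n + 1) - 1 ∨ r ∣ q ^ k + 1 ∨
      ∃ j, n + 2 ≤ j ∧ j ≤ k + n ∧ j ≠ k ∧ r ∣ q ^ (2 * j) - 1 := by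
  obtain ⟨d, hd0, -, hd⟩ := exists_ord hr hrq (by omega)
  have hdk : d ≠ k := by
    rintro rfl
    exact hnp hd
  rcases h with h | ⟨j, hj0, hj, hrj⟩
  · exact Or.inl h
  right
  by_cases hjk : j = k
  · subst hjk
    rw [sq_sub] at hrj
    rcases hr.dvd_mul.1 hrj with h1 | h1
    · exact Or.inr (Or.inl h1)
    · have h2 : d ∣ j := (hd j).1 h1
      have h3 : d < j := lt_of_le_of_ne (Nat.le_of_dvd hj0 h2) hdk
      have h4 : Odd d := by
        obtain ⟨t, ht⟩ := h2
        rw [ht] at hk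
        exact (Nat.odd_mul.1 hk).1
      rcases Nat.lt_or_ge d (n + 2) with h5 | h5
      · left
        have h6 : d = 1 := by
          obtain ⟨t, ht⟩ := h4
          omega
        rw [hd, h6]
        exact one_dvd _
      · exact Or.inr (Or.inr ⟨d, h5, by omega, by omega, (hd _).2 (dvd_mul_left d 2)⟩)
  · rcases Nat.lt_or_ge j (n + 2) with h1 | h1
    · rcases Nat.eq_zero_or_pos n with rfl | hn0
      · have h2 : j = 1 := by omega
        subst h2
        rw [sq_sub, pow_one] at hrj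
        rcases hr.dvd_mul.1 hrj with h3 | h3
        · right; left
          refine h3.trans ?_
          have := Odd.nat_add_dvd_pow_add_pow q 1 hk
          rwa [one_pow] at this
        · left
          rw [zero_add, pow_one]
          exact h3
      · have hn1 : n = 1 := by omega
        subst hn1
        have h2 : j = 1 ∨ j = 2 := by omega
        rcases h2 with rfl | rfl
        · left
          exact hrj
        · right; right
          have hk2 : 2 ∣ k + 1 := hk.add_one.two_dvd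
          refine ⟨k + 1, by omega, le_rfl, by omega, ?_⟩
          rw [hd] at hrj ⊢
          exact hrj.trans (Nat.mul_dvd_mul_left 2 hk2)
    · exact Or.inr (Or.inr ⟨j, h1, hj, hjk, hrj⟩)

variable (K : Type u) [Field K] [Finite K]

/-- **`PΩ⁻_{2l+2}(q)`, `r ≠ p`**, apart from `(Ω⁻_8(2), 7)`, `(Ω⁻_8(3), 13)` -/
theorem imc_minus_main {p : ℕ} [Fact p.Prime] [CharP K p] (a b : K)
    (hab : ∀ z₁ z₂ : K, z₁ ^ 2 + a * z₁ * z₂ + b * z₂ ^ 2 = 0 → z₁ = 0 ∧ z₂ = 0) {l : ℕ}
    (hl : 3 ≤ l) {r : ℕ} [hr : Fact r.Prime] (hrp : r ≠ p) (hd : r ∣ Nat.card (POmega K (quadFormMinus l K a b)))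
    (hx2 : l = 3 → Nat.card K = 2 → r ≠ 7) (hx3 : l = 3 → Nat.card K = 3 → r ≠ 13) :
    IMC r (POmega K (quadFormMinus l K a b)) := by
  classical
  have hp : p.Prime := Fact.out
  obtain ⟨s, hs⟩ := card_pow K p
  have hq2 : 2 ≤ Nat.card K := Finite.one_lt_card
  have hrq : ¬ r ∣ Nat.card K := by
    rw [hs]; intro h; exact hrp ((Nat.prime_dvd_prime_iff_eq hr.out hp).1 (hr.out.dvd_of_dvd_pow h))
  have hcard : r ≠ 2 → ∀ N, r ^ N ∣ Nat.card (POmega K (quadFormMinus l K a b)) →
      r ^ N ∣ (Nat.card K ^ (l + 1) + 1) * ∏ i ∈ Finset.range l, (Nat.card K ^ (2 * (i + 1)) - 1) := by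
    intro hr2 N hN
    have hd1 : r ^ N ∣ Nat.card (isometryGroup K (quadFormMinus l K a b)) :=
      hN.trans ((Subgroup.card_quotient_dvd_card _).trans (Subgroup.card_subgroup_dvd_card _))
    have hd2 : r ^ N ∣ Nat.card (CForm.minusF K l a b hab).iso := by
      rwa [← Nat.card_congr (isoQuad (CForm.minusF K l a b hab) (minus_hB K l a b hab)).toEquiv]
    rw [card_minusF, mul_assoc] at hd2
    refine (Nat.Coprime.pow_left N ?_).dvd_of_dvd_mul_left hd2
    rw [Nat.Prime.coprime_iff_not_dvd hr.out]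
    intro h
    rcases hr.out.dvd_mul.1 h with h' | h'
    · exact hr2 ((Nat.prime_dvd_prime_iff_eq hr.out Nat.prime_two).1 h')
    · exact hrq (hr.out.dvd_of_dvd_pow h')
  have hidx := minus_idx K a b hab hl
  obtain ⟨k, n, k', n', hkn, hkn', hk, hk3, hn, hn', hnk, hne, hk'2⟩ := odd_choice hl
  by_cases hpr : ∀ i, r ∣ Nat.card K ^ i - 1 ↔ k ∣ i
  · have hr2 := prim_ne_two hrq hk3 hpr
    have hnd : ∀ j, 0 < j → j ≤ l → j ≠ k → ¬ r ∣ Nat.card K ^ (2 * j) - 1 := fun j hj hjm hjk =>
      not_dvd_of_prim hk hpr (by omega) hj hjm hjk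
    have hk'nd : ¬ r ∣ Nat.card K ^ k' - 1 := fun h =>
      hnd k' (by omega) (by omega) hne (h.trans (pow_sub_dvd _ _))
    have hrB : r ∣ Nat.card K ^ k - 1 := (hpr k).2 dvd_rfl
    have hl1 : ¬ r ∣ Nat.card K ^ (l + 1) + 1 := by
      intro h
      have h1 : r ∣ Nat.card K ^ (2 * (l + 1)) - 1 := by
        rw [sq_sub]
        exact h.mul_right _
      have h2 := (primitive_iff hk hpr _).1 h1
      obtain ⟨t, ht⟩ := h2
      rcases Nat.lt_or_ge t 2 with h4 | h4
      · interval_cases t <;> omega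
      · have : k * 2 ≤ k * t := Nat.mul_le_mul_left _ h4
        omega
    obtain ⟨c, hc⟩ := exists_cus_sq K rfl k' (by omega) (fun h => by
        by_contra h'
        have hm3 : l = 3 := by omega
        have hk3' : k = 3 := by omega
        apply hx2 hm3 h
        rw [hk3', h] at hrB
        exact ((Nat.prime_dvd_prime_iff_eq hr.out (by norm_num)).1 (by norm_num at hrB; exact hrB)))
      (fun h => by
        by_contra h'
        have hm3 : l = 3 := by omega
        have hk3' : k = 3 := by omega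
        apply hx3 hm3 h
        rw [hk3', h] at hrB
        have h5 : r ∣ 2 * 13 := by norm_num at hrB; exact hrB
        rcases hr.out.dvd_mul.1 h5 with h6 | h6
        · exact absurd ((Nat.prime_dvd_prime_iff_eq hr.out Nat.prime_two).1 h6) hr2
        · exact (Nat.prime_dvd_prime_iff_eq hr.out (by norm_num)).1 h6) (fun h => by omega)
    have hN : r ^ (Nat.card (POmega K (quadFormMinus l K a b))).factorization r ∣ Nat.card K ^ (2 * k) - 1 := by
      have h4 := hcard hr2 _ (Nat.ordProj_dvd (Nat.card (POmega K (quadFormMinus l K a b))) r)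
      have h4' := (Nat.Coprime.pow_left _ ((Nat.Prime.coprime_iff_not_dvd hr.out).2 hl1)).dvd_of_dvd_mul_left h4
      have h5 := pow_dvd_factor hr.out (Finset.range l) (fun i => Nat.card K ^ (2 * (i + 1)) - 1) (a := k - 1)
        (Finset.mem_range.2 (by omega)) (fun i hi hik => hnd (i + 1) (by omega) (by
          rw [Finset.mem_range] at hi; omega) (by omega)) h4'
      have e1 : k - 1 + 1 = k := by omega
      simp only [e1] at h5
      exact h5
    obtain ⟨e, he⟩ := minus_dvd K (p := p) a b hab (k := k') (n := n') (by omega)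
    have h6 : r ^ (Nat.card (POmega K (quadFormMinus l K a b))).factorization r ∣
        dg (CForm.minusF K (k' + n') a b hab) k' := by
      have h5 := mem_prod (Nat.card K) (n := n' + 1) (t := k' + n') (k := k) (by omega) (by omega)
      have h7 := prime_pow_dvd hr.out hp hrp (hN.trans ((h5.trans (dvd_mul_left _ _)).trans he))
      exact (Nat.Coprime.pow_left _ ((Nat.Prime.coprime_iff_not_dvd hr.out).2 hk'nd)).dvd_of_dvd_mul_right h7
    subst hkn'
    obtain ⟨⟨W₀, hW₀⟩, -⟩ := CForm.minusF_frame (K := K) (p := p) hab k' n'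
    exact imc_omega_dz (CForm.minusF K (k' + n') a b hab) (minus_hB K (k' + n') a b hab) hW₀ hc
      (fun z hz => scal_of (cen_minus K (by omega) a b hab z hz)) hidx hr2 hd h6
  · obtain ⟨c, hc, hnn⟩ := exists_cus_imc (K := K) rfl hk hk3 hr.out (cast_ne_zero_of hr.out hp hrp) hpr
    have hdeg : (r ≠ 2 ∧ r ∣ dg (CForm.minusF K (k + n) a b hab) k) ∨
        (r = 2 ∧ 16 ∣ dg (CForm.minusF K (k + n) a b hab) k) := by
      by_cases hr2 : r = 2
      · exact Or.inr ⟨hr2, sixteen_dvd_dg _ hk3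
          (odd_of_two_ne (K := K) (p := p) (by rw [← hr2]; exact hrp.symm))⟩
      · left
        refine ⟨hr2, ?_⟩
        have hd2 := hcard hr2 1 (by rwa [pow_one])
        rw [pow_one] at hd2
        have h3 : r ∣ Nat.card K ^ (k + n + 1) + 1 ∨ ∃ j, 0 < j ∧ j ≤ k + n ∧ r ∣ Nat.card K ^ (2 * j) - 1 := by
          rcases hr.out.dvd_mul.1 hd2 with h | h
          · left
            rwa [hkn]
          · obtain ⟨i₀, hi₀, hi₀'⟩ := (Prime.dvd_finsetProd_iff hr.out.prime _).1 h
            rw [Finset.mem_range] at hi₀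
            exact Or.inr ⟨i₀ + 1, by omega, by omega, hi₀'⟩
        have h4 := arith_minus hr.out hq2 hrq hk hk3 hn hpr h3
        obtain ⟨e, he⟩ := minus_dvd K (p := p) a b hab (k := k) (n := n) (by omega)
        have hk0 := pow_pred_pos (q := Nat.card K) hq2 (show 0 < k by omega)
        have hP := mem_prod (Nat.card K) (n := n + 1) (t := k + n) (k := k) (by omega) (by omega)
        have hA : ((Nat.card K ^ (k + n + 1) + 1) * (Nat.card K ^ (n + 1) - 1) * (Nat.card K ^ k + 1)) ∣
            p ^ e * dg (CForm.minusF K (k + n) a b hab) k := by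
          refine dvd_of_cancel hk0 ?_
          refine Dvd.dvd.trans ?_ he
          rw [mul_assoc (_ * _), ← sq_sub]
          exact Nat.mul_dvd_mul_left _ hP
        rcases h4 with h4 | h4 | h4 | ⟨j, hj1, hj2, hj3, hj4⟩
        · exact prime_dvd_of hr.out hp hrp (((h4.mul_right _).mul_right _).trans hA)
        · exact prime_dvd_of hr.out hp hrp (((h4.mul_left _).mul_right _).trans hA)
        · exact prime_dvd_of hr.out hp hrp ((h4.mul_left _).trans hA)
        · refine prime_dvd_of (e := e) hr.out hp hrp (hj4.trans ?_)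
          have h2 := (mem_prod_two (Nat.card K) (n := n + 1) (t := k + n) (k := k) (j := j) (by omega) (by omega)
            (by omega) (by omega) (by omega)).trans ((dvd_mul_left _ _).trans he)
          rw [sq_sub _ k, ← mul_assoc] at h2
          exact (dvd_mul_right _ _).trans (dvd_of_cancel hk0 h2)
    subst hkn
    obtain ⟨⟨W₀, hW₀⟩, -⟩ := CForm.minusF_frame (K := K) (p := p) hab k n
    refine imc_omega_nn (CForm.minusF K (k + n) a b hab) (minus_hB K (k + n) a b hab) hW₀ hc (fun z hz => ?_)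
      hidx hnn hdeg
    obtain ⟨a', -, ha'⟩ := scal_of (cen_minus K (by omega) a b hab z hz)
    exact ⟨a', trivial, ha'⟩

end minus

end Cfsg.Agent.H794.Imc
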