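import Cfsg.Agent.H794.ImcOpm
import Cfsg.Agent.H113.PSL.Main

/-!
# `IMC r (PSL_n(q))`, `n ≥ 3`, `r` not the characteristic (helper794)
-/

set_option autoImplicit false

open Cfsg
open scoped ComplexConjugate ComplexOrder

namespace Cfsg.Agent.H794.Imc

open Cfsg.Agent.H625.SylConst Cfsg.Agent.H139.Cusp Cfsg.Agent.H53.HC Cfsg.Agent.H477.HC Module
  Cfsg.Agent.Characters Matrix Cfsg.Agent.H113.PSL.Para

universe u v w

/-- an `r`-element of the image is the image of an `r`-element -/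
theorem exists_lift_relement {G : Type u} {H : Type v} [Group G] [Finite G] [Group H] {r : ℕ} (hr : r.Prime)
    (f : G →* H) (hf : Function.Surjective f) {h : H} (hh : ∃ j : ℕ, orderOf h = r ^ j) :
    ∃ x : G, f x = h ∧ ∃ j : ℕ, orderOf x = r ^ j := by
  obtain ⟨x₀, rfl⟩ := hf h
  obtain ⟨j, hj⟩ := hh
  obtain ⟨a, m, hm, ham⟩ := Nat.exists_eq_pow_mul_and_not_dvd (orderOf_pos x₀).ne' r hr.ne_one
  have hco : Nat.Coprime (r ^ j) m := Nat.Coprime.pow_left _ ((Nat.Prime.coprime_iff_not_dvd hr).2 hm)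
  obtain ⟨s, hs1, hs2⟩ := Nat.chineseRemainder hco 1 0
  refine ⟨x₀ ^ s, ?_, ?_⟩
  · rw [map_pow]
    have h1 : s ≡ 1 [MOD orderOf (f x₀)] := by rw [hj]; exact hs1
    have h2 := (pow_eq_pow_iff_modEq (x := f x₀)).2 h1
    rw [h2, pow_one]
  · have h3 : m ∣ s := (Nat.modEq_zero_iff_dvd).1 hs2
    have h4 : orderOf (x₀ ^ s) ∣ r ^ a := by
      rw [orderOf_dvd_iff_pow_eq_one, ← pow_mul, ← orderOf_dvd_iff_pow_eq_one, ham, mul_comm]
      exact Nat.mul_dvd_mul_right h3 _
    obtain ⟨i, -, hi⟩ := (Nat.dvd_prime_pow hr).1 h4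
    exact ⟨i, hi⟩

theorem NN.of_comp {G : Type u} {H : Type v} [Group G] [Finite G] [Group H] {r : ℕ} (hr : r.Prime)
    (f : G →* H) (hf : Function.Surjective f) {χ : H → ℂ} (h : NN r (χ ∘ f)) : NN r χ := by
  constructor
  · intro g hg
    obtain ⟨x, rfl, hx⟩ := exists_lift_relement hr f hf hg
    exact h.1 x hx
  · have := h.2
    rwa [Function.comp_apply, map_one] at this

/-- `paraChar` with the trivial character on the quotient -/
theorem nn_paraChar {G : Type u} [Group G] {K : Type v} [Field K] {V : Type w} [AddCommGroup V] [Module K V]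
    [FiniteDimensional K V] {a b r : ℕ} (hr : r.Prime) (ρ : G →* (V ≃ₗ[K] V)) [Fintype (dimSet K V a)]
    (hn : finrank K V = a + b) {Ψ : GL (Fin a) K → ℂ} (hΨ : IsClassFunction _ Ψ) (hnn : NN r Ψ) :
    NN r (paraChar ρ Ψ (1 : GL (Fin b) K → ℂ)) := by
  classical
  have h1 : IsClassFunction (GL (Fin b) K) (1 : GL (Fin b) K → ℂ) := fun _ _ => rfl
  constructor
  · intro g hg
    unfold paraChar
    refine Finset.sum_nonneg fun W _ => ?_
    have hW : finrank K W.1 = a := W.2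
    have hW' : finrank K (V ⧸ W.1) = b := by
      have := Submodule.finrank_quotient_add_finrank W.1
      omega
    by_cases h : W.1.map (ρ g : V →ₗ[K] V) = W.1
    · have h2 := flagTerm_nonneg hr ρ hΨ hnn hg W.1 (finBasisOfFinrankEq K W.1 hW)
      rw [flagTerm_of ρ Ψ h] at h2
      rw [paraTerm_of ρ Ψ _ h, cl_eq h1 (finBasisOfFinrankEq K _ hW'), Pi.one_apply, mul_one]
      exact h2
    · unfold paraTerm
      rw [dif_neg h]
  · rw [paraChar_one ρ hΨ h1 hn, Pi.one_apply, mul_one]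
    refine mul_pos ?_ hnn.2
    have h3 : 0 < Nat.card (dimSet K V a) := by
      obtain ⟨W, hW⟩ := Cfsg.Agent.H113.PSL.Para.exists_dim (K := K) (V := V) (a := a) (by omega)
      have : Nonempty (dimSet K V a) := ⟨⟨W, hW⟩⟩
      exact Nat.card_pos
    exact_mod_cast h3

section psl

variable {F : Type u} [Field F] [Fintype F] {n : ℕ}

/-- from `GL_n(q)` to `PSL_n(q)`, fixed vectors -/
theorem imc_psl_nn (hn : 2 ≤ n) {r : ℕ} [hr : Fact r.Prime] {χ : GL (Fin n) F → ℂ} (hχ : IsIrrCharacter _ χ)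
    (hz : ∀ c : Fˣ, χ (GeneralLinearGroup.scalar (Fin n) c) = χ 1) (hnn : NN r χ) {d a : ℕ} (hd : χ 1 = d)
    (h1 : r ^ a ∣ d) (h2 : ¬ r ^ a ∣ Nat.gcd n (Fintype.card F - 1)) :
    IMC r (ProjectiveSpecialLinearGroup (Fin n) F) := by
  classical
  obtain ⟨χ', hχ', rfl⟩ := Cfsg.Agent.H113.PSL.Pass.exists_pgl hχ hz
  have : Finite (ProjGenLinGroup (Fin n) F) := Finite.of_surjective _ ProjGenLinGroup.mk_surjective
  have : Finite (ProjectiveSpecialLinearGroup (Fin n) F) := inferInstance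
  have hnn' : NN r χ' := NN.of_comp hr.out ProjGenLinGroup.mk ProjGenLinGroup.mk_surjective hnn
  rw [← Cfsg.Agent.H113.PSL.Pass.index_range_toPGL hn] at h2
  have hN := Cfsg.Agent.H113.PSL.Pass.range_toPGL_normal (F := F) (n := n)
  obtain ⟨Q⟩ : Nonempty (Sylow r (ProjectiveSpecialLinearGroup.toPGL (n := Fin n) (R := F)).range) := inferInstance
  have hd' : χ' 1 = d := by rw [← hd, Function.comp_apply, map_one]
  have h3 : IMC r (ProjectiveSpecialLinearGroup.toPGL (n := Fin n) (R := F)).range :=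
    imc_normal _ hχ' hd' h1 h2 Q (hnn'.fix _ (Q.isPGroup'.map _))
  exact IMC.of_equiv (MonoidHom.ofInjective ProjectiveSpecialLinearGroup.toPGL_injective) h3

theorem card_psl_dvd {r N : ℕ} (hr : r.Prime) (hrq : ¬ r ∣ Fintype.card F) (hn : 0 < n)
    (h : r ^ N ∣ Nat.card (ProjectiveSpecialLinearGroup (Fin n) F)) :
    r ^ N ∣ ∏ i ∈ Finset.Ico 1 (n + 1), (Fintype.card F ^ i - 1) := by
  have h1 : r ^ N ∣ Nat.card (GL (Fin n) F) := by
    refine h.trans ?_
    have h2 : Nat.card (ProjectiveSpecialLinearGroup (Fin n) F) ∣ Nat.card (SpecialLinearGroup (Fin n) F) :=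
      Subgroup.card_quotient_dvd_card _
    exact h2.trans (Subgroup.card_dvd_of_injective (SpecialLinearGroup.toGL (n := Fin n) (R := F))
      SpecialLinearGroup.toGL_injective)
  obtain ⟨s, hs⟩ := card_GL_eq F n hn
  rw [hs, Nat.card_eq_fintype_card] at h1
  rw [Finset.prod_Ico_succ_top (by omega)]
  refine (Nat.Coprime.pow_left N ?_).dvd_of_dvd_mul_left h1
  rw [Nat.Prime.coprime_iff_not_dvd hr]
  exact fun h => hrq (hr.dvd_of_dvd_pow h)

/-- two factors -/
theorem mem_prod_pow (q : ℕ) {a b i : ℕ} (h1 : a ≤ i) (h2 : i < b) : (q ^ i - 1) ∣ ∏ i ∈ Finset.Ico a b, (q ^ i - 1) :=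
  Finset.dvd_prod_of_mem (fun i => q ^ i - 1) (Finset.mem_Ico.2 ⟨h1, h2⟩)

/-- `r ∣ q - 1` : `r^(v+1)` divides `(q-1)(q²-1)` but not `gcd(n, q-1)` -/
theorem exists_exponent {q n k r : ℕ} (hr : r.Prime) (hq : 2 ≤ q) (hk : 3 ≤ k) (hrq : r ∣ q - 1) :
    ∃ a, r ^ a ∣ ∏ i ∈ Finset.Ico 1 k, (q ^ i - 1) ∧ ¬ r ^ a ∣ Nat.gcd n (q - 1) := by
  obtain ⟨v, m, hm, hvm⟩ := Nat.exists_eq_pow_mul_and_not_dvd (show q - 1 ≠ 0 by omega) r hr.ne_one
  refine ⟨v + 1, ?_, ?_⟩
  · have e : ({1, 2} : Finset ℕ) ⊆ Finset.Ico 1 k := by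
      intro x hx
      rw [Finset.mem_insert, Finset.mem_singleton] at hx
      rw [Finset.mem_Ico]
      omega
    refine dvd_trans ?_ (Finset.prod_dvd_prod_of_subset _ _ (fun i => q ^ i - 1) e)
    rw [Finset.prod_pair (by omega), pow_one, pow_succ]
    refine Nat.mul_dvd_mul ?_ ?_
    · rw [hvm]; exact dvd_mul_right _ _
    · exact hrq.trans (by simpa using Nat.sub_dvd_pow_sub_pow q 1 2)
  · intro h
    have h1 : r ^ (v + 1) ∣ q - 1 := h.trans (Nat.gcd_dvd_right _ _)
    rw [hvm, pow_succ] at h1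
    exact hm (Nat.dvd_of_mul_dvd_mul_left (pow_pos hr.pos v) h1)

/-- **`PSL_n(q)`, `n ≥ 3`, `r ≠ p`** -/
theorem imc_psl_main (hn : 3 ≤ n) {r : ℕ} [hr : Fact r.Prime] (hrF : (r : F) ≠ 0)
    (hd : r ∣ Nat.card (ProjectiveSpecialLinearGroup (Fin n) F)) : IMC r (ProjectiveSpecialLinearGroup (Fin n) F) := by
  classical
  obtain ⟨p, hp⟩ := CharP.exists F
  have hpp : Fact p.Prime := ⟨CharP.char_is_prime F p⟩
  set q := Fintype.card F with hqdef
  have hq2 : 2 ≤ q := Fintype.one_lt_card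
  have hqn : Nat.card F = q := Nat.card_eq_fintype_card
  have hrq : ¬ r ∣ q := by
    intro h
    obtain ⟨s, hs⟩ := card_pow F p
    rw [hqn] at hs
    rw [hs] at h
    have h1 := (Nat.prime_dvd_prime_iff_eq hr.out hpp.out).1 (hr.out.dvd_of_dvd_pow h)
    subst h1
    exact hrF (CharP.cast_eq_zero F r)
  have hfin : Finite (ProjectiveSpecialLinearGroup (Fin n) F) := inferInstance
  have hN0 := card_psl_dvd (F := F) (n := n) hr.out hrq (by omega)
    (Nat.ordProj_dvd (Nat.card (ProjectiveSpecialLinearGroup (Fin n) F)) r)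
  have h10 := card_psl_dvd (F := F) (n := n) (N := 1) hr.out hrq (by omega) (by rwa [pow_one])
  rw [pow_one] at h10
  rw [← hqdef] at hN0 h10
  obtain ⟨i₀, hi₀, hi₀'⟩ := (Prime.dvd_finsetProd_iff hr.out.prime _).1 h10
  rw [Finset.mem_Ico] at hi₀
  obtain ⟨d, hd0, -, hdd⟩ := exists_ord (q := q) hr.out hrq (by omega)
  have hdn : d ≤ n := (Nat.le_of_dvd (by omega) ((hdd _).1 hi₀')).trans (by omega)
  -- factors not divisible by a primitive prime
  have hnd : ∀ k, 3 ≤ k → n < 2 * k → (∀ i, r ∣ q ^ i - 1 ↔ k ∣ i) → ∀ i ∈ Finset.Ico 1 (n + 1), i ≠ k →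
      ¬ r ∣ q ^ i - 1 := by
    intro k hk hkn hpr i hi hik h
    rw [Finset.mem_Ico] at hi
    obtain ⟨t, rfl⟩ := (hpr i).1 h
    rcases Nat.lt_or_ge t 2 with h4 | h4
    · interval_cases t <;> omega
    · have : k * 2 ≤ k * t := Nat.mul_le_mul_left _ h4
      omega
  have hgcd : ∀ k, 3 ≤ k → (∀ i, r ∣ q ^ i - 1 ↔ k ∣ i) → ¬ r ∣ Nat.gcd n (q - 1) := by
    intro k hk hpr h
    have h1 : r ∣ q ^ 1 - 1 := by rw [pow_one]; exact h.trans (Nat.gcd_dvd_right _ _)
    have := Nat.le_of_dvd one_pos ((hpr 1).1 h1)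
    omega
  rcases Nat.even_or_odd n with hne | hno
  · -- `k = n - 1`
    have hk : Odd (n - 1) := by
      obtain ⟨t, ht⟩ := hne
      exact ⟨t - 1, by omega⟩
    have hn4 : 4 ≤ n := by
      obtain ⟨t, ht⟩ := hne
      omega
    by_cases hpr : ∀ i, r ∣ q ^ i - 1 ↔ n - 1 ∣ i
    · -- defect zero from `c_n`
      obtain ⟨φ, t, ht, hφ⟩ := Cfsg.Agent.H113.PSL.Degrees.exists_cusp (F := F) (n := n) (by omega)
        (Cfsg.Agent.H113.PSL.Main.hasCusp F n (by omega))
      refine IMC.of_defect_zero hd φ ?_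
      have h1 := pow_dvd_factor hr.out (Finset.Ico 1 (n + 1)) (fun i => q ^ i - 1) (a := n - 1)
        (by rw [Finset.mem_Ico]; omega) (hnd (n - 1) (by omega) (by omega) hpr) hN0
      have h2 : (q ^ (n - 1) - 1) ∣ charDegree (φ : ProjectiveSpecialLinearGroup (Fin n) F → ℂ) * t := by
        rw [hφ]
        have h3 := Finset.dvd_prod_of_mem (fun i => q ^ (i + 1) - 1)
          (Finset.mem_range.2 (show n - 2 < n - 1 by omega))
        have e1 : n - 2 + 1 = n - 1 := by omega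
        simp only [e1] at h3
        exact h3
      refine (Nat.Coprime.pow_left _ ?_).dvd_of_dvd_mul_right (h1.trans h2)
      rw [Nat.Prime.coprime_iff_not_dvd hr.out]
      exact fun h => hgcd (n - 1) (by omega) hpr (h.trans ht)
    · obtain ⟨c, hc, hnn⟩ := exists_cus_imc (K := F) hqn hk (by omega) hr.out hrF hpr
      have hcl := Core.isIrr_isClassFunction hc.irr
      let ρ : GL (Fin n) F →* ((Fin n → F) ≃ₗ[F] (Fin n → F)) := (glE (Pi.basisFun F (Fin n))).symm.toMonoidHom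
      have hρ : Function.Surjective ρ := (glE (Pi.basisFun F (Fin n))).symm.surjective
      have hfr : finrank F (Fin n → F) = (n - 1) + 1 := by rw [finrank_fin_fun]; omega
      let _ : Fintype (dimSet F (Fin n → F) (n - 1)) := Fintype.ofFinite _
      let _ : Fintype (GL (Fin n) F) := Fintype.ofFinite _
      have hirr := isIrr_paraChar ρ hρ (by omega) hfr hc.irr hc.cusp (Core.isIrr_one (G := GL (Fin 1) F))
      have c2 : IsClassFunction (GL (Fin 1) F) (1 : GL (Fin 1) F → ℂ) := fun _ _ => rfl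
      have hchar : NN r (paraChar ρ c (1 : GL (Fin 1) F → ℂ)) := nn_paraChar hr.out ρ hfr hcl hnn
      have hdeg : paraChar ρ c (1 : GL (Fin 1) F → ℂ) 1 =
          ((Nat.card (dimSet F (Fin n → F) (n - 1)) * ∏ i ∈ Finset.Ico 1 (n - 1), (q ^ i - 1) : ℕ) : ℂ) := by
        rw [paraChar_one ρ hcl c2 hfr, hc.deg, Pi.one_apply, mul_one, hqn]
        push_cast
        rfl
      have hcard : Nat.card (dimSet F (Fin n → F) (n - 1)) * (q - 1) = q ^ n - 1 := by
        have h3 := Cfsg.Agent.H113.PSL.Degrees.card_hyper (F := F) (V := Fin n → F) (m := n - 1) hfr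
        have e1 : n - 1 + 1 = n := by omega
        rw [e1] at h3
        exact h3
      have hsc : ∀ e : Fˣ, paraChar ρ c (1 : GL (Fin 1) F → ℂ) (GeneralLinearGroup.scalar (Fin n) e) =
          paraChar ρ c (1 : GL (Fin 1) F → ℂ) 1 := by
        intro e
        refine paraChar_scalar ρ hcl c2 hfr (c := e) (fun v => ?_) (by rw [hc.scal e trivial]; rfl)
        have e1 : ρ (GeneralLinearGroup.scalar (Fin n) e) = LinearEquiv.smulOfUnit e := by
          change (glE (Pi.basisFun F (Fin n))).symm _ = _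
          rw [MulEquiv.symm_apply_eq]
          exact (glE_smul _ e _ (fun w => rfl)).symm
        rw [e1]
        rfl
      by_cases hrq1 : r ∣ q - 1
      · obtain ⟨a, ha1, ha2⟩ := exists_exponent (n := n) (k := n - 1) hr.out hq2 (by omega) hrq1
        exact imc_psl_nn (by omega) hirr hsc hchar hdeg (ha1.mul_left _) ha2
      · refine imc_psl_nn (by omega) hirr hsc hchar hdeg (a := 1) ?_ ?_
        · rw [pow_one]
          have hdk : d ≠ n - 1 := by
            rintro rfl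
            exact hpr hdd
          rcases Nat.lt_or_ge d (n - 1) with h3 | h3
          · refine Dvd.dvd.mul_left ?_ _
            exact ((hdd d).2 dvd_rfl).trans (mem_prod_pow q (by omega) h3)
          · have h4 : d = n := by omega
            refine Dvd.dvd.mul_right ?_ _
            have h5 : r ∣ q ^ n - 1 := (hdd n).2 (by rw [h4])
            rw [← hcard] at h5
            exact (hr.out.dvd_mul.1 h5).resolve_right hrq1
        · rw [pow_one]
          exact fun h => hrq1 (h.trans (Nat.gcd_dvd_right _ _))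
  · -- `k = n`
    by_cases hpr : ∀ i, r ∣ q ^ i - 1 ↔ n ∣ i
    · obtain ⟨m, rfl⟩ : ∃ m, n = m + 1 := ⟨n - 1, by omega⟩
      obtain ⟨φ, t, ht, hφ⟩ := Cfsg.Agent.H113.PSL.Degrees.exists_hyper (F := F) (m := m) (by omega)
        (Cfsg.Agent.H113.PSL.Main.hasCusp F m (by omega))
      refine IMC.of_defect_zero hd φ ?_
      have h1 := pow_dvd_factor hr.out (Finset.Ico 1 (m + 1 + 1)) (fun i => q ^ i - 1) (a := m + 1)
        (by rw [Finset.mem_Ico]; omega) (hnd (m + 1) (by omega) (by omega) hpr) hN0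
      have h2 : r ^ (Nat.card (ProjectiveSpecialLinearGroup (Fin (m + 1)) F)).factorization r ∣
          charDegree (φ : ProjectiveSpecialLinearGroup (Fin (m + 1)) F → ℂ) * t * (q - 1) := by
        rw [hφ]
        exact h1.trans (dvd_mul_right _ _)
      have hrq1 : ¬ r ∣ q - 1 := by
        intro h
        have h3 : r ∣ q ^ 1 - 1 := by rwa [pow_one]
        have := Nat.le_of_dvd one_pos ((hpr 1).1 h3)
        omega
      have h3 := (Nat.Coprime.pow_left _ ((Nat.Prime.coprime_iff_not_dvd hr.out).2 hrq1)).dvd_of_dvd_mul_right h2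
      refine (Nat.Coprime.pow_left _ ?_).dvd_of_dvd_mul_right h3
      rw [Nat.Prime.coprime_iff_not_dvd hr.out]
      exact fun h => hgcd (m + 1) (by omega) hpr (h.trans ht)
    · obtain ⟨c, hc, hnn⟩ := exists_cus_imc (K := F) hqn hno (by omega) hr.out hrF hpr
      have hdeg : c 1 = ((∏ i ∈ Finset.Ico 1 n, (q ^ i - 1) : ℕ) : ℂ) := by rw [hc.deg, hqn]
      have hsc : ∀ e : Fˣ, c (GeneralLinearGroup.scalar (Fin n) e) = c 1 := fun e => hc.scal e trivial
      by_cases hrq1 : r ∣ q - 1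
      · obtain ⟨a, ha1, ha2⟩ := exists_exponent (n := n) (k := n) hr.out hq2 hn hrq1
        exact imc_psl_nn (by omega) hc.irr hsc hnn hdeg ha1 ha2
      · refine imc_psl_nn (by omega) hc.irr hsc hnn hdeg (a := 1) ?_ ?_
        · rw [pow_one]
          have hdk : d ≠ n := by
            rintro rfl
            exact hpr hdd
          exact ((hdd d).2 dvd_rfl).trans (mem_prod_pow q (by omega) (by omega))
        · rw [pow_one]
          exact fun h => hrq1 (h.trans (Nat.gcd_dvd_right _ _))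

end psl

end Cfsg.Agent.H794.Imc
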