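import Cfsg.Agent.H794.ImcTools
import Cfsg.Agent.H794.ImcOpm
import Cfsg.Agent.H794.ImcSL
import Cfsg.Agent.H794.ImcSU
import Cfsg.Agent.H661.SC.NonPrin
import Cfsg.Agent.H661.SC.PSUFive
import Cfsg.Agent.H33.IMLie

/-!
# `IMC p S` for the classical groups: the rows of `IsKnownSimple'` (helper794)
-/

set_option autoImplicit false

open Cfsg

namespace Cfsg.Agent.H794.Imc

open Cfsg.Agent.H625.SylConst Cfsg.Agent.H53.HC Cfsg.Agent.H477.HC

universe u

/-- the characteristic of a finite field -/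
theorem exists_charP (F : Type) [Field F] [Finite F] : ∃ p : ℕ, p.Prime ∧ CharP F p := by
  obtain ⟨p, hp⟩ := CharP.exists F
  exact ⟨p, (CharP.char_is_prime_or_zero F p).resolve_right (CharP.char_ne_zero_of_finite F p), hp⟩

theorem not_dvd_card_field {K : Type} [Field K] [Finite K] {p r : ℕ} [Fact p.Prime] [CharP K p] (hr : r.Prime)
    (hrp : r ≠ p) : ¬ r ∣ Nat.card K := by
  obtain ⟨s, hs⟩ := card_pow K p
  rw [hs]
  intro h
  exact hrp ((Nat.prime_dvd_prime_iff_eq hr Fact.out).1 (hr.dvd_of_dvd_pow h))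

/-- symplectic groups of rank at least three -/
theorem imc_psp_big {S : Type u} [Group S] [Finite S] {F : Type} [Field F] [Fintype F] {m : ℕ} (hm3 : 3 ≤ m)
    (e : S ≃* PSp m F) (hs : IsSimpleGroup S) {p : ℕ} [hp : Fact p.Prime] (hd : p ∣ Nat.card S) : IMC p S := by
  have h : IsPSp S := ⟨F, inferInstance, inferInstance, m, by omega, by omega, ⟨e⟩⟩
  obtain ⟨p₀, hp₀, hc⟩ := exists_charP F
  have := Fact.mk hp₀
  by_cases hpp : p = p₀
  · subst hpp
    exact Cfsg.Agent.H661.SC.imc_char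
      (Or.inr (Or.inl ⟨F, inferInstance, inferInstance, hc, m, by omega, by omega, ⟨e⟩⟩)) hd
  have hd' : p ∣ Nat.card (PSp m F) := by rwa [← Nat.card_congr e.toEquiv]
  have hrq := not_dvd_card_field (K := F) hp.out hpp
  have hcard : ∀ N, p ^ N ∣ Nat.card (PSp m F) → p ^ N ∣ ∏ i ∈ Finset.range m, (Nat.card F ^ (2 * (i + 1)) - 1) := by
    intro N hN
    have hd1 : p ^ N ∣ Nat.card (Matrix.symplecticGroup (Fin m) F) := hN.trans (Subgroup.card_quotient_dvd_card _)
    rw [Nat.card_congr (isoSp m F).toEquiv, card_spF] at hd1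
    refine (Nat.Coprime.pow_left N ?_).dvd_of_dvd_mul_left hd1
    rw [Nat.Prime.coprime_iff_not_dvd hp.out]
    exact fun h => hrq (hp.out.dvd_of_dvd_pow h)
  have him : H33.IM p S := im_psp S h hs hd H579.RkThree.leftSp43 H579.RkThree.leftSp62 H579.RkThree.leftSp63
  have hex : ¬ p ^ 2 ∣ Nat.card S → IMC p S := fun h' => imc_of_exact hd h' him
  by_cases h2 : m = 3 ∧ Nat.card F = 2 ∧ p = 7
  · obtain ⟨rfl, h2, rfl⟩ := h2
    refine hex fun h' => ?_
    rw [Nat.card_congr e.toEquiv] at h'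
    have := hcard 2 h'
    rw [h2] at this
    simp only [Finset.prod_range_succ, Finset.prod_range_zero] at this
    norm_num at this
  by_cases h3 : m = 3 ∧ Nat.card F = 3 ∧ p = 13
  · obtain ⟨rfl, h3, rfl⟩ := h3
    refine hex fun h' => ?_
    rw [Nat.card_congr e.toEquiv] at h'
    have := hcard 2 h'
    rw [h3] at this
    simp only [Finset.prod_range_succ, Finset.prod_range_zero] at this
    norm_num at this
  exact IMC.of_equiv e (imc_psp_main F hm3 hpp hd' (fun a b c => h2 ⟨a, b, c⟩) (fun a b c => h3 ⟨a, b, c⟩))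

/-- orthogonal groups of odd dimension -/
theorem imc_omega_odd {S : Type u} [Group S] [Finite S] (h : IsPOmegaOdd S) (hs : IsSimpleGroup S) {p : ℕ}
    [hp : Fact p.Prime] (hd : p ∣ Nat.card S) : IMC p S := by
  obtain ⟨F, _, _, m, hm, ho, ⟨e⟩⟩ := id h
  obtain ⟨p₀, hp₀, hc⟩ := exists_charP F
  have := Fact.mk hp₀
  by_cases hpp : p = p₀
  · subst hpp
    exact Cfsg.Agent.H661.SC.imc_char
      (Or.inr (Or.inr (Or.inr (Or.inl ⟨F, _, _, hc, m, hm, ho, ⟨e⟩⟩)))) hd
  have hd' : p ∣ Nat.card (POmega F (quadFormOdd m F)) := by rwa [← Nat.card_congr e.toEquiv]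
  exact IMC.of_equiv e (imc_odd_main F (p := p₀) (by rwa [Nat.card_eq_fintype_card]) hm hpp hd')

/-- orthogonal groups of plus type -/
theorem imc_omega_plus {S : Type u} [Group S] [Finite S] (h : IsPOmegaPlus S) (hs : IsSimpleGroup S) {p : ℕ}
    [hp : Fact p.Prime] (hd : p ∣ Nat.card S) : IMC p S := by
  obtain ⟨F, _, _, m, hm, ⟨e⟩⟩ := id h
  obtain ⟨p₀, hp₀, hc⟩ := exists_charP F
  have := Fact.mk hp₀
  by_cases hpp : p = p₀
  · subst hpp
    exact Cfsg.Agent.H661.SC.imc_char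
      (Or.inr (Or.inr (Or.inr (Or.inr (Or.inl ⟨F, _, inferInstance, hc, m, hm, ⟨e⟩⟩))))) hd
  have hd' : p ∣ Nat.card (POmega F (quadFormPlus m F)) := by rwa [← Nat.card_congr e.toEquiv]
  exact IMC.of_equiv e (imc_plus_main F (p := p₀) hm hpp hd')

/-- orthogonal groups of minus type -/
theorem imc_omega_minus {S : Type u} [Group S] [Finite S] (h : IsPOmegaMinus S) (hs : IsSimpleGroup S) {p : ℕ}
    [hp : Fact p.Prime] (hd : p ∣ Nat.card S) : IMC p S := by
  obtain ⟨F, _, _, m, a, b, hm, hab, ⟨e⟩⟩ := id h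
  obtain ⟨p₀, hp₀, hc⟩ := exists_charP F
  have := Fact.mk hp₀
  by_cases hpp : p = p₀
  · subst hpp
    exact Cfsg.Agent.H661.SC.imc_char
      (Or.inr (Or.inr (Or.inr (Or.inr (Or.inr (Or.inl ⟨F, _, inferInstance, hc, m, a, b, hm, hab, ⟨e⟩⟩)))))) hd
  have hd' : p ∣ Nat.card (POmega F (quadFormMinus (m - 1) F a b)) := by rwa [← Nat.card_congr e.toEquiv]
  have hrq := not_dvd_card_field (K := F) hp.out hpp
  have him : H33.IM p S := im_omega_minus S h hs hd H579.RkThree.leftO8m2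
  have hcard : p ≠ 2 → ∀ N, p ^ N ∣ Nat.card (POmega F (quadFormMinus (m - 1) F a b)) →
      p ^ N ∣ (Nat.card F ^ (m - 1 + 1) + 1) * ∏ i ∈ Finset.range (m - 1), (Nat.card F ^ (2 * (i + 1)) - 1) := by
    intro hr2 N hN
    have hd1 : p ^ N ∣ Nat.card (isometryGroup F (quadFormMinus (m - 1) F a b)) :=
      hN.trans ((Subgroup.card_quotient_dvd_card _).trans (Subgroup.card_subgroup_dvd_card _))
    have hd2 : p ^ N ∣ Nat.card (CForm.minusF F (m - 1) a b hab).iso := by
      rwa [← Nat.card_congr (isoQuad (CForm.minusF F (m - 1) a b hab) (minus_hB F (m - 1) a b hab)).toEquiv]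
    rw [card_minusF, mul_assoc] at hd2
    refine (Nat.Coprime.pow_left N ?_).dvd_of_dvd_mul_left hd2
    rw [Nat.Prime.coprime_iff_not_dvd hp.out]
    intro h
    rcases hp.out.dvd_mul.1 h with h' | h'
    · exact hr2 ((Nat.prime_dvd_prime_iff_eq hp.out Nat.prime_two).1 h')
    · exact hrq (hp.out.dvd_of_dvd_pow h')
  have hex : ¬ p ^ 2 ∣ Nat.card S → IMC p S := fun h' => imc_of_exact hd h' him
  by_cases h2 : m - 1 = 3 ∧ Nat.card F = 2 ∧ p = 7
  · obtain ⟨ha, hb, rfl⟩ := h2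
    refine hex fun h' => ?_
    rw [Nat.card_congr e.toEquiv] at h'
    have := hcard (by norm_num) 2 h'
    rw [ha, hb] at this
    simp only [Finset.prod_range_succ, Finset.prod_range_zero] at this
    norm_num at this
  by_cases h3 : m - 1 = 3 ∧ Nat.card F = 3 ∧ p = 13
  · obtain ⟨ha, hb, rfl⟩ := h3
    refine hex fun h' => ?_
    rw [Nat.card_congr e.toEquiv] at h'
    have := hcard (by norm_num) 2 h'
    rw [ha, hb] at this
    simp only [Finset.prod_range_succ, Finset.prod_range_zero] at this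
    norm_num at this
  exact IMC.of_equiv e (imc_minus_main F (p := p₀) a b hab (by omega) hpp hd' (fun a b c => h2 ⟨a, b, c⟩)
    (fun a b c => h3 ⟨a, b, c⟩))

/-- linear groups of degree at least three -/
theorem imc_psl_big {S : Type u} [Group S] [Finite S] {F : Type} [Field F] [Fintype F] {m : ℕ} (hm : 3 ≤ m)
    (e : S ≃* Matrix.ProjectiveSpecialLinearGroup (Fin m) F) (hs : IsSimpleGroup S) {p : ℕ}
    [hp : Fact p.Prime] (hd : p ∣ Nat.card S) : IMC p S := by
  classical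
  obtain ⟨p₀, hp₀, hc⟩ := exists_charP F
  have := Fact.mk hp₀
  by_cases hpp : p = p₀
  · subst hpp
    exact Cfsg.Agent.H661.SC.imc_char
      (Or.inl ⟨F, inferInstance, inferInstance, hc, m, by omega, by omega, ⟨e⟩⟩) hd
  have hd' : p ∣ Nat.card (Matrix.ProjectiveSpecialLinearGroup (Fin m) F) := by rwa [← Nat.card_congr e.toEquiv]
  exact IMC.of_equiv e (imc_psl_main hm (cast_ne_zero_of hp.out hp₀ hpp) hd')

/-- unitary groups of degree at least four -/
theorem imc_psu_big {S : Type u} [Group S] [Finite S] {F : Type} [Field F] [Fintype F] {n q : ℕ}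
    (hF : Fintype.card F = q ^ 2) (hn : 4 ≤ n) (e : S ≃* PSU n F q) (hs : IsSimpleGroup S) {p : ℕ}
    [hp : Fact p.Prime] (hd : p ∣ Nat.card S) : IMC p S := by
  classical
  obtain ⟨p₀, hp₀, hc⟩ := exists_charP F
  have := Fact.mk hp₀
  by_cases hpp : p = p₀
  · subst hpp
    exact Cfsg.Agent.H661.SC.imc_char
      (Or.inr (Or.inr (Or.inl ⟨F, inferInstance, inferInstance, hc, n, q, hF, by omega, by omega, ⟨e⟩⟩))) hd
  have hpq : ¬ p ∣ q := fun h' => not_dvd_card_field (K := F) hp.out hpp (by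
    rw [Nat.card_eq_fintype_card, hF]
    exact h'.trans (dvd_pow_self q two_ne_zero))
  have hd' : p ∣ Nat.card (PSU n F q) := by rwa [← Nat.card_congr e.toEquiv]
  rcases Nat.lt_or_ge 5 n with hn6 | hn6
  · exact IMC.of_equiv e (imc_psu_main hF hn6 hpq hd')
  · exact IMC.of_equiv e (Cfsg.Agent.H661.SC.imc_psu_five hF hn hn6 hpq hd')

end Cfsg.Agent.H794.Imc
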