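import Cfsg.Agent.H973.IMC.Asm
import Cfsg.Agent.H794.ImcRows

/-!
# The classical fields of `H973.IMC.Rows` (helper794)
-/

set_option autoImplicit false

open Cfsg

namespace Cfsg.Agent.H794.Imc

open Cfsg.Agent.H625.SylConst Cfsg.Agent.H973.IMC

universe u

theorem row_psp : RowL.{u} (fun S => IsPSpBig S) := by
  intro S _ _ h hs p hp h3 _
  obtain ⟨F, _, _, m, hm, ⟨e⟩⟩ := h
  exact imc_psp_big hm e hs ((dvd_pow_self _ (by norm_num)).trans h3)

theorem row_psu : RowL.{u} (fun S => IsPSUBig S) := by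
  intro S _ _ h hs p hp h3 _
  obtain ⟨F, _, _, n, q, hF, hn, ⟨e⟩⟩ := h
  exact imc_psu_big hF hn e hs ((dvd_pow_self _ (by norm_num)).trans h3)

theorem row_oodd : RowL.{u} (fun S => IsPOmegaOdd S) :=
  fun _ _ _ h hs _ _ h3 _ => imc_omega_odd h hs ((dvd_pow_self _ (by norm_num)).trans h3)

theorem row_oplus : RowL.{u} (fun S => IsPOmegaPlus S) :=
  fun _ _ _ h hs _ _ h3 _ => imc_omega_plus h hs ((dvd_pow_self _ (by norm_num)).trans h3)

theorem row_ominus : RowL.{u} (fun S => IsPOmegaMinus S) :=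
  fun _ _ _ h hs _ _ h3 _ => imc_omega_minus h hs ((dvd_pow_self _ (by norm_num)).trans h3)

/-- the linear groups, from `PSL_2` -/
theorem row_psl (h2 : ∀ (S : Type u) [Group S] [Finite S] (F : Type) [Field F] [Fintype F], 4 ≤ Fintype.card F →
      Nonempty (S ≃* Matrix.ProjectiveSpecialLinearGroup (Fin 2) F) → IsSimpleGroup S → ∀ {p : ℕ} [Fact p.Prime],
      p ^ 3 ∣ Nat.card S → ¬ IsLieTypeChar p S → IMC p S) : RowL.{u} (fun S => IsPSL S) := by
  intro S _ _ h hs p hp h3 h4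
  obtain ⟨F, _, _, m, hm, hm2, ⟨e⟩⟩ := h
  rcases Nat.eq_or_lt_of_le hm with rfl | hm3
  · exact h2 S F (hm2 rfl) ⟨e⟩ hs h3 h4
  · exact imc_psl_big hm3 e hs ((dvd_pow_self _ (by norm_num)).trans h3)

end Cfsg.Agent.H794.Imc
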