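import Cfsg.Agent.H794.ImcFields
import Cfsg.Agent.H608.ImcPslTwo
import Cfsg.Agent.H303.ImcSpFourMain
import Cfsg.Agent.H532.Imc.U3Three
import Cfsg.Agent.H982.ImcSzRee
import Cfsg.Agent.H982.ImcTw
import Cfsg.Agent.H24.SC.Tits
import Cfsg.Agent.H486.SC.AltRow
import Cfsg.Agent.H174.SC.Mathieu
import Cfsg.Agent.H567.MN.Janko
import Cfsg.Agent.H950.IMC.Co1
import Cfsg.Agent.H769.IMC.RowCoTwo
import Cfsg.Agent.H769.IMC.RowCoThree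
import Cfsg.Agent.H705.Imc.McL
import Cfsg.Agent.H705.Imc.HS
import Cfsg.Agent.H65.IMC.Suz
import Cfsg.Agent.H65.IMC.Ru
import Cfsg.Agent.H442.Imc.He
import Cfsg.Agent.H442.Imc.ON
import Cfsg.Agent.H300.IMCLy
import Cfsg.Agent.H837.IMCFi22
import Cfsg.Agent.H837.IMCFi23
import Cfsg.Agent.H837.IMCFi24
import Cfsg.Agent.H426.Imc.HN
import Cfsg.Agent.H806.ImcB
import Cfsg.Agent.H796.Imc.RowM

/-!
# All rows of `H973.IMC.Rows` but a few (helper794)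
-/

set_option autoImplicit false

open Cfsg

namespace Cfsg.Agent.H794.Imc

open Cfsg.Agent.H625.SylConst Cfsg.Agent.H973.IMC

universe u

/-- the rows still missing -/
structure Missing : Prop where
  g2 : RowL.{u} (fun S => Lie.IsoChevG2 S)
  f4 : RowL.{u} (fun S => Lie.IsoF4 S)
  e6 : RowL.{u} (fun S => Lie.IsoChevE6 S)
  e7 : RowL.{u} (fun S => Lie.IsoE7 S)
  e8 : RowL.{u} (fun S => Lie.IsoE8 S)
  te6 : RowL.{u} (fun S => Lie.Iso2E6 S)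
  td4 : RowL.{u} (fun S => Lie.Iso3D4 S)
  th : Row.{u} (fun S => Spor.IsoTh S)

theorem rows (M : Missing.{u}) : Rows.{u} where
  alt := Row.rowC fun _ _ _ h _ _ _ hd => Cfsg.Agent.H486.SCAlt.imc_alt h hd
  psl := row_psl fun S _ _ F _ _ h4 he hs p _ h3 _ =>
    Cfsg.Agent.H608.ImcPslTwo.imc_isL2 ⟨F, inferInstance, inferInstance, h4, he⟩ ((dvd_pow_self _ (by norm_num)).trans h3)
  psp4 := Row.rowL fun _ _ _ h _ _ _ hd => by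
    obtain ⟨F, _, _, hF, ⟨e⟩⟩ := h
    exact Cfsg.Agent.H303.ImcSp.imc_sp4 hF e hd
  psp := row_psp
  psu3 := Row.rowL fun _ _ _ h hs _ _ hd => Cfsg.Agent.H532.Imc.imc_u3 h hs hd
  psu := row_psu
  oodd := row_oodd
  oplus := row_oplus
  ominus := row_ominus
  g2 := M.g2
  f4 := M.f4
  e6 := M.e6
  e7 := M.e7
  e8 := M.e8
  te6 := M.te6
  td4 := M.td4
  sz := Row.rowL fun _ _ _ h hs _ _ hd => Cfsg.Agent.H982.ImcTw.imc_sz h hs hd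
  ree := Row.rowL fun _ _ _ h hs _ _ hd => Cfsg.Agent.H982.ImcTw.imc_ree h hs hd
  tf4 := Row.rowL fun _ _ _ h hs _ _ hd => Cfsg.Agent.H982.ImcTw.imc_2f4 h hs hd
  tits := Row.rowC fun _ _ _ h hs _ _ hd => Cfsg.Agent.H24.SC.Tits.imc_tits h hs hd
  m11 := Row.rowC fun _ _ _ h _ _ _ hd => Cfsg.Agent.H174.SC.imc_m11 h hd
  m12 := Row.rowC fun _ _ _ h _ _ _ hd => Cfsg.Agent.H174.SC.imc_m12 h hd
  m22 := Row.rowC fun _ _ _ h _ _ _ hd => Cfsg.Agent.H174.SC.imc_m22 h hd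
  m23 := Row.rowC fun _ _ _ h _ _ _ hd => Cfsg.Agent.H174.SC.imc_m23 h hd
  m24 := Row.rowC fun _ _ _ h _ _ _ hd => Cfsg.Agent.H174.SC.imc_m24 h hd
  j1 := Row.rowC fun _ _ _ h hs _ _ hd => Cfsg.Agent.H567.MN.imc_j1 h hs hd
  j2 := Row.rowC fun _ _ _ h hs _ _ hd => Cfsg.Agent.H567.MN.imc_j2 h hs hd
  j3 := Row.rowC fun _ _ _ h hs _ _ hd => Cfsg.Agent.H567.MN.imc_j3 h hs hd
  j4 := fun _ _ _ h hs _ _ hd => Cfsg.Agent.H567.MN.imc_j4 h hs hd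
  co1 := fun _ _ _ h _ _ _ hd => Cfsg.Agent.H950.IMC.Co1.imc_co1 h hd
  co2 := fun _ _ _ h _ _ _ hd => Cfsg.Agent.H769.IMC.RowCoTwo.imc_co2 h hd
  co3 := fun _ _ _ h _ _ _ hd => Cfsg.Agent.H769.IMC.RowCoThree.imc_co3 h hd
  mcl := Row.rowC fun _ _ _ h _ _ _ hd => Cfsg.Agent.H705.Imc.McL.imc_mcl h hd
  hs := Row.rowC fun _ _ _ h _ _ _ hd => Cfsg.Agent.H705.Imc.HS.imc_hs h hd
  suz := Row.rowC fun _ _ _ h _ _ _ hd => Cfsg.Agent.H65.IMCSuz.imc_suz h hd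
  he := Row.rowC fun _ _ _ h _ _ _ hd => Cfsg.Agent.H442.Imc.He.imc_he h hd
  ru := Row.rowC fun _ _ _ h _ _ _ hd => Cfsg.Agent.H65.IMCRu.imc_ru h hd
  on := fun _ _ _ h _ _ _ hd => Cfsg.Agent.H442.Imc.ON.imc_on h hd
  ly := fun _ _ _ h _ _ _ hd => Cfsg.Agent.H300.IMCLy.imc_ly h hd
  fi22 := Row.rowC fun _ _ _ h _ _ _ hd => Cfsg.Agent.H837.IMCFi22.imc_fi22 h hd
  fi23 := Row.rowC fun _ _ _ h _ _ _ hd => Cfsg.Agent.H837.IMCFi23.imc_fi23 h hd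
  fi24 := Row.rowC fun _ _ _ h hs _ _ hd => Cfsg.Agent.H837.IMCFi24.imc_fi24 h hs hd
  hn := fun _ _ _ h _ _ _ hd => Cfsg.Agent.H426.Imc.HN.imc_hn h hd
  th := M.th
  b := fun _ _ _ h _ _ _ hd => Cfsg.Agent.H806.ImcB.imc_b h hd
  m := fun _ _ _ h _ _ _ hd => Cfsg.Agent.H796.Imc.RowM.imc_m h hd

end Cfsg.Agent.H794.Imc
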