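import Cfsg.Agent.H794.ImcDown
import Cfsg.Agent.H477.HC.Rows

/-!
# Fixed vectors of Harish-Chandra induced characters (helper794)

`NN p χ` : `χ` is real and nonnegative at the `p`-elements, and positive at `1`.

* `NN.fix` : then `Fix P χ` for every `p`-subgroup `P`;
* `nn_flagChar`, `nn_hc` : `NN p c` implies `NN p (flagChar ρ Ω c)`, `NN p (F.hc c 1)`.
-/

set_option autoImplicit false

open Cfsg
open scoped ComplexConjugate ComplexOrder

namespace Cfsg.Agent.H794.Imc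

open Cfsg.Agent.H625.SylConst Cfsg.Agent.H53.HC Module Cfsg.Agent.Characters

universe u v w

/-- `χ` is real and nonnegative at the `p`-elements, and positive at `1` -/
def NN (p : ℕ) {G : Type u} [Group G] (χ : G → ℂ) : Prop :=
  (∀ g : G, (∃ j : ℕ, orderOf g = p ^ j) → 0 ≤ χ g) ∧ 0 < χ 1

section

variable {G : Type u} [Group G] {p : ℕ}

theorem NN.fix [Fact p.Prime] {χ : G → ℂ} (h : NN p χ) (P : Subgroup G) [Finite P] (hP : IsPGroup p P) : Fix P χ := by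
  classical
  have := Fintype.ofFinite P
  rw [fix_iff]
  have h1 : ∀ z : P, 0 ≤ χ (z : G) := fun z => h.1 z (by
    obtain ⟨k, hk⟩ := (IsPGroup.iff_orderOf.1 hP) z
    exact ⟨k, by rw [← hk, Subgroup.orderOf_coe]⟩)
  have h2 : 0 < ∑ z : P, χ (z : G) :=
    Finset.sum_pos' (fun z _ => h1 z) ⟨1, Finset.mem_univ _, by rw [Subgroup.coe_one]; exact h.2⟩
  exact h2.ne'

theorem NN.comp {H : Type v} [Group H] {χ : H → ℂ} (hp : p.Prime) (h : NN p χ) (f : G →* H) : NN p (χ ∘ f) := by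
  refine ⟨fun g hg => h.1 _ ?_, by rw [Function.comp_apply, map_one]; exact h.2⟩
  obtain ⟨j, hj⟩ := hg
  have h1 : orderOf (f g) ∣ p ^ j := hj ▸ orderOf_map_dvd f g
  obtain ⟨k, -, hk⟩ := (Nat.dvd_prime_pow hp).1 h1
  exact ⟨k, hk⟩

variable {K : Type v} [Field K] {n : ℕ} {V : Type w} [AddCommGroup V] [Module K V]

theorem flagTerm_nonneg (hp : p.Prime) (ρ : G →* (V ≃ₗ[K] V)) {c : GL (Fin n) K → ℂ} (hcl : IsClassFunction _ c)
    (hc : NN p c) {g : G} (hg : ∃ j : ℕ, orderOf g = p ^ j) (W : Submodule K V) (b : Basis (Fin n) K W) :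
    0 ≤ flagTerm ρ c g W := by
  classical
  by_cases h : W.map (ρ g : V →ₗ[K] V) = W
  · rw [flagTerm_of ρ c h, cl_eq hcl b]
    refine hc.1 _ ?_
    let f : stabW ρ W →* GL (Fin n) K := (glE b).toMonoidHom.comp (resHom ρ W)
    have e : glE b (res (ρ g) W h) = f ⟨g, h⟩ := rfl
    rw [e]
    obtain ⟨j, hj⟩ := hg
    have h0 : orderOf (⟨g, h⟩ : stabW ρ W) = orderOf g := Subgroup.orderOf_mk g h
    have h1 : orderOf (f ⟨g, h⟩) ∣ p ^ j := by
      rw [← hj, ← h0]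
      exact orderOf_map_dvd f _
    obtain ⟨k, -, hk⟩ := (Nat.dvd_prime_pow hp).1 h1
    exact ⟨k, hk⟩
  · unfold flagTerm
    rw [dif_neg h]

theorem flagTerm_one (ρ : G →* (V ≃ₗ[K] V)) {c : GL (Fin n) K → ℂ} (hcl : IsClassFunction _ c)
    (W : Submodule K V) (b : Basis (Fin n) K W) : flagTerm ρ c 1 W = c 1 := by
  have h : W.map (ρ 1 : V →ₗ[K] V) = W := by rw [map_one]; exact Submodule.map_id _
  rw [flagTerm_of ρ c h]
  have e2 : res (ρ 1) W h = 1 := by
    ext w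
    rw [coe_res, map_one]
    rfl
  rw [e2, cl_one hcl b]

theorem nn_flagChar (hp : p.Prime) (ρ : G →* (V ≃ₗ[K] V)) (Ω : Set (Submodule K V)) [Fintype Ω] (hne : Ω.Nonempty)
    (hdim : ∀ W ∈ Ω, Nonempty (Basis (Fin n) K W)) {c : GL (Fin n) K → ℂ} (hcl : IsClassFunction _ c)
    (hc : NN p c) : NN p (flagChar ρ Ω c) := by
  classical
  unfold flagChar
  constructor
  · intro g hg
    refine Finset.sum_nonneg fun W _ => ?_
    obtain ⟨b⟩ := hdim W.1 W.2
    exact flagTerm_nonneg hp ρ hcl hc hg W.1 b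
  · obtain ⟨W₀, hW₀⟩ := hne
    refine Finset.sum_pos (fun W _ => ?_) ⟨⟨W₀, hW₀⟩, Finset.mem_univ _⟩
    obtain ⟨b⟩ := hdim W.1 W.2
    rw [flagTerm_one ρ hcl W.1 b]
    exact hc.2

theorem nn_hc [Finite K] [Finite V] (hp : p.Prime) (F : Cfsg.Agent.H477.HC.CForm K V) {k : ℕ} [Fintype (F.Om k)]
    (hne : (F.Om k).Nonempty) {c : GL (Fin k) K → ℂ} (hcl : IsClassFunction _ c) (hc : NN p c) :
    NN p (F.hc c (fun _ _ => 1)) := by
  classical
  have : FiniteDimensional K V := Module.Finite.of_finite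
  unfold Cfsg.Agent.H477.HC.CForm.hc
  constructor
  · intro g hg
    refine Finset.sum_nonneg fun W _ => ?_
    rw [mul_one]
    exact flagTerm_nonneg hp F.iso.subtype hcl hc hg W.1 (finBasisOfFinrankEq K W.1 W.2.2)
  · obtain ⟨W₀, hW₀⟩ := hne
    refine Finset.sum_pos (fun W _ => ?_) ⟨⟨W₀, hW₀⟩, Finset.mem_univ _⟩
    rw [mul_one, flagTerm_one F.iso.subtype hcl W.1 (finBasisOfFinrankEq K W.1 W.2.2)]
    exact hc.2

end

end Cfsg.Agent.H794.Imc
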