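import Cfsg.Agent.H794.ImcSp

/-!
# `IMC r S` for the simple orthogonal groups, `r` not the characteristic (helper794)
-/

set_option autoImplicit false

open Cfsg
open scoped ComplexConjugate ComplexOrder

namespace Cfsg.Agent.H794.Imc

open Cfsg.Agent.H625.SylConst Cfsg.Agent.H139.Cusp Cfsg.Agent.H53.HC Cfsg.Agent.H477.HC Module
  Cfsg.Agent.Characters

universe u v w

/-- **descent of defect zero to `N / Z(N)`** -/
theorem imc_down_dz {I : Type u} [Group I] [Finite I] (N : Subgroup I) [N.Normal] {χ : I → ℂ}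
    (hχ : IsIrrCharacter I χ) {d : ℕ} (hd : χ 1 = d) (hz : ∀ z : N, z ∈ Subgroup.center N → χ z = χ 1) {r : ℕ}
    [hr : Fact r.Prime] (hrS : r ∣ Nat.card (N ⧸ Subgroup.center N))
    (h1 : r ^ (Nat.card (N ⧸ Subgroup.center N)).factorization r ∣ d) (h2 : ¬ r ∣ N.index) :
    IMC r (N ⧸ Subgroup.center N) := by
  classical
  obtain ⟨θ, e, hθ, he, h3, h4, h5, h6⟩ := down_constituent N hχ hd
  obtain ⟨η, hη, hη'⟩ := exists_quot (Subgroup.center N) hθ fun z hzc => h6 z hzc (hz z hzc)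
  have h7 : η 1 = e := by
    rw [← he, ← hη' 1]
    rfl
  refine IMC.of_defect_zero hrS ⟨η, hη⟩ ?_
  change _ ∣ charDegree η
  rw [Cfsg.Agent.H670.PSing.charDegree_eq_of h7]
  obtain ⟨f, rfl⟩ := h3
  rw [Nat.mul_div_cancel_left _ h5] at h4
  have h8 : ¬ r ∣ f := fun h => h2 (h.trans h4)
  exact (Nat.Coprime.pow_left _ ((Nat.Prime.coprime_iff_not_dvd hr.out).2 h8)).dvd_of_dvd_mul_right h1

/-- `16` divides the degree of a cuspidal character of `GL_k(q)`, `q` odd, `k ≥ 3` -/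
theorem sixteen_dvd_dg {K : Type u} [Field K] [Finite K] {V : Type v} [AddCommGroup V] [Module K V] (F : CForm K V)
    {k : ℕ} (hk : 3 ≤ k) (ho : Odd (Nat.card K)) : 16 ∣ dg F k := by
  unfold dg
  refine Dvd.dvd.mul_left ?_ _
  have e : ({1, 2} : Finset ℕ) ⊆ Finset.Ico 1 k := by
    intro x hx
    rw [Finset.mem_insert, Finset.mem_singleton] at hx
    rw [Finset.mem_Ico]
    omega
  refine dvd_trans ?_ (Finset.prod_dvd_prod_of_subset _ _ (fun i => Nat.card K ^ i - 1) e)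
  rw [Finset.prod_pair (by omega), pow_one]
  have h8 : 8 ∣ Nat.card K ^ 2 - 1 := Nat.eight_dvd_sq_sub_one_of_odd ho
  have h2 : 2 ∣ Nat.card K - 1 := by
    obtain ⟨j, hj⟩ := ho
    omega
  exact (show 16 = 2 * 8 by norm_num) ▸ Nat.mul_dvd_mul h2 h8

section

variable {ι : Type} [Fintype ι] [DecidableEq ι] {K : Type u} [Field K] [Finite K]

theorem imc_omega_nn (F : CForm K (ι → K))
    (hB : ∀ u v, F.B u v = F.Q (u + v) - F.Q u - F.Q v) {k : ℕ} {W₀ : Submodule K (ι → K)} (hW₀ : W₀ ∈ F.Om k)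
    {Z : Kˣ → Prop} {c : GL (Fin k) K → ℂ} (hc : Cus K k F.σ Z c)
    (hcen : ∀ z : Omega K F.Q, z ∈ Subgroup.center (Omega K F.Q) → ∃ a : Kˣ, Z a ∧ ∀ v, (omMat z).mulVec v = (a : K) • v)
    (hidx : (Omega K F.Q).index ∣ 8) {r : ℕ} [hr : Fact r.Prime] (hnn : NN r c)
    (hd : (r ≠ 2 ∧ r ∣ dg F k) ∨ (r = 2 ∧ 16 ∣ dg F k)) : IMC r (POmega K F.Q) := by
  obtain ⟨χ, hχ, hχ1, hχn, hχz⟩ := exists_char_nn F hW₀ hc hr.out hnn
  have hχ' : IsIrrCharacter _ (χ ∘ (isoQuad F hB).toMonoidHom) :=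
    Core.isIrr_comp _ (isoQuad F hB).surjective hχ
  have hn' : NN r (χ ∘ (isoQuad F hB).toMonoidHom) := hχn.comp hr.out _
  have h1 : (χ ∘ (isoQuad F hB).toMonoidHom) 1 = (dg F k : ℂ) := by
    rw [Function.comp_apply, map_one, hχ1]
  have hz : ∀ z : Omega K F.Q, z ∈ Subgroup.center (Omega K F.Q) →
      (χ ∘ (isoQuad F hB).toMonoidHom) z = (χ ∘ (isoQuad F hB).toMonoidHom) 1 := by
    intro z hz
    obtain ⟨a, ha, h⟩ := hcen z hz
    rw [Function.comp_apply, Function.comp_apply, map_one]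
    exact hχz _ a ha h
  obtain ⟨Q⟩ : Nonempty (Sylow r (Omega K F.Q)) := inferInstance
  have hf : Fix ((Q : Subgroup (Omega K F.Q)).map (Omega K F.Q).subtype) (χ ∘ (isoQuad F hB).toMonoidHom) :=
    hn'.fix _ (Q.isPGroup'.map _)
  rcases hd with ⟨h2, hd⟩ | ⟨h2, hd⟩
  · refine imc_down (Omega K F.Q) hχ' h1 hz (a := 1) (by rwa [pow_one]) (fun h => ?_) Q hf
    rw [pow_one] at h
    have h3 : r ∣ 2 ^ 3 := h.trans hidx
    exact h2 ((Nat.prime_dvd_prime_iff_eq hr.out Nat.prime_two).1 (hr.out.dvd_of_dvd_pow h3))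
  · subst h2
    refine imc_down (Omega K F.Q) hχ' h1 hz (a := 4) hd (fun h => ?_) Q hf
    have h3 := Nat.le_of_dvd (by norm_num) (h.trans hidx)
    norm_num at h3

theorem imc_omega_dz (F : CForm K (ι → K))
    (hB : ∀ u v, F.B u v = F.Q (u + v) - F.Q u - F.Q v) {k : ℕ} {W₀ : Submodule K (ι → K)} (hW₀ : W₀ ∈ F.Om k)
    {Z : Kˣ → Prop} {c : GL (Fin k) K → ℂ} (hc : Cus K k F.σ Z c)
    (hcen : ∀ z : Omega K F.Q, z ∈ Subgroup.center (Omega K F.Q) → ∃ a : Kˣ, Z a ∧ ∀ v, (omMat z).mulVec v = (a : K) • v)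
    (hidx : (Omega K F.Q).index ∣ 8) {r : ℕ} [hr : Fact r.Prime] (h2 : r ≠ 2) (hrS : r ∣ Nat.card (POmega K F.Q))
    (hd : r ^ (Nat.card (POmega K F.Q)).factorization r ∣ dg F k) : IMC r (POmega K F.Q) := by
  obtain ⟨χ, hχ, hχ1, hχz⟩ := om_char F hB hW₀ hc
  refine imc_down_dz (Omega K F.Q) hχ hχ1 (fun z hz => ?_) hrS hd fun h => ?_
  · obtain ⟨a, ha, h⟩ := hcen z hz
    exact hχz z a ha h
  · have h3 : r ∣ 2 ^ 3 := h.trans hidx
    exact h2 ((Nat.prime_dvd_prime_iff_eq hr.out Nat.prime_two).1 (hr.out.dvd_of_dvd_pow h3))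

end

/-- the odd one of `m`, `m - 1` -/
theorem odd_choice {m : ℕ} (hm : 3 ≤ m) : ∃ k n k' n', k + n = m ∧ k' + n' = m ∧ Odd k ∧
    3 ≤ k ∧ n ≤ 1 ∧ n' ≤ 1 ∧ n' + 1 ≤ k ∧ k' ≠ k ∧ 2 ≤ k' := by
  rcases Nat.even_or_odd m with h | h
  · obtain ⟨t, ht⟩ := h
    exact ⟨m - 1, 1, m, 0, by omega, by omega, ⟨t - 1, by omega⟩, by omega, by omega, by omega, by omega, by omega,
      by omega⟩
  · exact ⟨m, 0, m - 1, 1, by omega, by omega, h, by omega, by omega, by omega, by omega, by omega, by omega⟩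

/-- factors not divisible by a primitive prime -/
theorem not_dvd_of_prim {q r k m : ℕ} (hk : Odd k) (hpr : ∀ i, r ∣ q ^ i - 1 ↔ k ∣ i) (hkm : m < 2 * k)
    {j : ℕ} (hj : 0 < j) (hjm : j ≤ m) (hjk : j ≠ k) : ¬ r ∣ q ^ (2 * j) - 1 := by
  intro h
  obtain ⟨t, rfl⟩ := (primitive_iff hk hpr j).1 h
  rcases Nat.lt_or_ge t 2 with h4 | h4
  · have : t = 1 := by
      rcases Nat.eq_zero_or_pos t with rfl | h5
      · omega
      · omega
    subst this
    omega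
  · have : k * 2 ≤ k * t := Nat.mul_le_mul_left _ h4
    omega

theorem prim_ne_two {q r k : ℕ} (hrq : ¬ r ∣ q) (hk3 : 3 ≤ k) (hpr : ∀ i, r ∣ q ^ i - 1 ↔ k ∣ i) :
    r ≠ 2 := by
  rintro rfl
  have h4 : 2 ∣ q ^ 1 - 1 := by rw [pow_one]; omega
  have := Nat.le_of_dvd one_pos ((hpr 1).1 h4)
  omega

/-- **`Ω_{2m+1}(q)`, `r ≠ p`** -/
theorem imc_odd_main (K : Type u) [Field K] [Finite K] {p : ℕ} [Fact p.Prime] [CharP K p] (ho : Odd (Nat.card K))
    {m : ℕ} (hm : 3 ≤ m) {r : ℕ} [hr : Fact r.Prime] (hrp : r ≠ p) (hd : r ∣ Nat.card (POmega K (quadFormOdd m K))) :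
    IMC r (POmega K (quadFormOdd m K)) := by
  classical
  have hp : p.Prime := Fact.out
  have h2 := two_ne_zero_of_odd (K := K) (p := p) ho
  obtain ⟨s, hs⟩ := card_pow K p
  have hq2 : 2 ≤ Nat.card K := Finite.one_lt_card
  have hq3 : 3 ≤ Nat.card K := by rcases ho with ⟨j, hj⟩; omega
  have hrq : ¬ r ∣ Nat.card K := by
    rw [hs]; intro h; exact hrp ((Nat.prime_dvd_prime_iff_eq hr.out hp).1 (hr.out.dvd_of_dvd_pow h))
  obtain ⟨hidx, hcen⟩ := odd_idx K (p := p) ho hm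
  have hfin : Finite (POmega K (quadFormOdd m K)) := inferInstance
  have hcard : r ≠ 2 → ∀ N, r ^ N ∣ Nat.card (POmega K (quadFormOdd m K)) →
      r ^ N ∣ ∏ i ∈ Finset.range m, (Nat.card K ^ (2 * (i + 1)) - 1) := by
    intro hr2 N hN
    have hd1 : r ^ N ∣ Nat.card (isometryGroup K (quadFormOdd m K)) :=
      hN.trans ((Subgroup.card_quotient_dvd_card _).trans (Subgroup.card_subgroup_dvd_card _))
    have hd2 : r ^ N ∣ Nat.card (CForm.oddF K m h2).iso := by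
      rwa [← Nat.card_congr (isoQuad (CForm.oddF K m h2) (odd_hB K m h2)).toEquiv]
    rw [card_oddF K h2 ho] at hd2
    refine (Nat.Coprime.pow_left N ?_).dvd_of_dvd_mul_left hd2
    rw [Nat.Prime.coprime_iff_not_dvd hr.out]
    intro h
    rcases hr.out.dvd_mul.1 h with h' | h'
    · exact hr2 ((Nat.prime_dvd_prime_iff_eq hr.out Nat.prime_two).1 h')
    · exact hrq (hr.out.dvd_of_dvd_pow h')
  obtain ⟨k, n, k', n', hkn, hkn', hk, hk3, hn, hn', hnk, hne, hk'2⟩ := odd_choice hm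
  have hcen' : ∀ (Z : Kˣ → Prop), Z 1 → ∀ z : Omega K (quadFormOdd m K),
      z ∈ Subgroup.center (Omega K (quadFormOdd m K)) → ∃ a : Kˣ, Z a ∧ ∀ v, (omMat z).mulVec v = (a : K) • v := by
    intro Z hZ z hz
    refine ⟨1, hZ, fun v => ?_⟩
    rw [hcen z hz]
    change (1 : Matrix _ _ K).mulVec v = _
    rw [Matrix.one_mulVec, Units.val_one, one_smul]
  by_cases hpr : ∀ i, r ∣ Nat.card K ^ i - 1 ↔ k ∣ i
  · have hr2 := prim_ne_two hrq hk3 hpr
    have hnd : ∀ j, 0 < j → j ≤ m → j ≠ k → ¬ r ∣ Nat.card K ^ (2 * j) - 1 := fun j hj hjm hjk =>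
      not_dvd_of_prim hk hpr (by omega) hj hjm hjk
    have hk'nd : ¬ r ∣ Nat.card K ^ k' - 1 := fun h =>
      hnd k' (by omega) (by omega) hne (h.trans (pow_sub_dvd _ _))
    obtain ⟨c, hc⟩ := exists_cus_one (K := K) rfl k' (by omega) (by
      have : Nat.card K ^ 2 ≤ Nat.card K ^ k' := Nat.pow_le_pow_right (by omega) hk'2
      nlinarith) (by rintro ⟨h3, -⟩; omega)
    have hN : r ^ (Nat.card (POmega K (quadFormOdd m K))).factorization r ∣ Nat.card K ^ (2 * k) - 1 := by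
      have h4 := hcard hr2 _ (Nat.ordProj_dvd (Nat.card (POmega K (quadFormOdd m K))) r)
      have h5 := pow_dvd_factor hr.out (Finset.range m) (fun i => Nat.card K ^ (2 * (i + 1)) - 1) (a := k - 1)
        (Finset.mem_range.2 (by omega)) (fun i hi hik => hnd (i + 1) (by omega) (by
          rw [Finset.mem_range] at hi; omega) (by omega)) h4
      have e1 : k - 1 + 1 = k := by omega
      simp only [e1] at h5
      exact h5
    have hD := odd_dvd K h2 ho (p := p) (k := k') (n := n') (by omega)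
    have h6 := dvd_dg_sp' (q := Nat.card K) (k' := k') (n' := n') hr.out hp hrp hnk (by omega) hk'nd hN hD
    subst hkn'
    obtain ⟨⟨W₀, hW₀⟩, -⟩ := CForm.oddF_frame (K := K) (p := p) h2 k' n'
    exact imc_omega_dz (CForm.oddF K (k' + n') h2) (odd_hB K (k' + n') h2) hW₀ hc (hcen' _ (one_pow 1)) (by
        change (Omega K (quadFormOdd (k' + n') K)).index ∣ 8
        rw [hidx]; norm_num) hr2 hd h6
  · obtain ⟨c, hc, hnn⟩ := exists_cus_imc (K := K) rfl hk hk3 hr.out (cast_ne_zero_of hr.out hp hrp) hpr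
    have hdeg : (r ≠ 2 ∧ r ∣ dg (CForm.oddF K (k + n) h2) k) ∨ (r = 2 ∧ 16 ∣ dg (CForm.oddF K (k + n) h2) k) := by
      by_cases hr2 : r = 2
      · exact Or.inr ⟨hr2, sixteen_dvd_dg _ hk3 ho⟩
      · left
        refine ⟨hr2, ?_⟩
        have hd2 := hcard hr2 1 (by rwa [pow_one])
        rw [pow_one] at hd2
        obtain ⟨i₀, hi₀, hi₀'⟩ := (Prime.dvd_finsetProd_iff hr.out.prime _).1 hd2
        rw [Finset.mem_range] at hi₀
        have h4 := arith_sp hr.out hq2 hrq hk hk3 hn hpr ⟨i₀ + 1, by omega, by omega, hi₀'⟩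
        exact dvd_dg_sp hr.out hp hrp hq2 hk3 hn h4 (odd_dvd K h2 ho (p := p) (k := k) (n := n) (by omega))
    subst hkn
    obtain ⟨⟨W₀, hW₀⟩, -⟩ := CForm.oddF_frame (K := K) (p := p) h2 k n
    exact imc_omega_nn (CForm.oddF K (k + n) h2) (odd_hB K (k + n) h2) hW₀ hc (hcen' _ trivial) (by
        change (Omega K (quadFormOdd (k + n) K)).index ∣ 8
        rw [hidx]; norm_num) hnn hdeg

end Cfsg.Agent.H794.Imc
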