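import Cfsg.Agent.H794.ImcHc

/-!
# Cuspidal characters of `GL_k(q)`, `k` odd, are nonnegative at `p`-elements (helper794)

`cusp_nonneg` : `θ` trivial on the `p`-elements of `Lˣ`, `k = [L : F]` odd, `g` a `p`-element, `p ≠ char F`:
`0 ≤ cusp L θ g`.

`exists_cus_pos` : `H477.HC.exists_cus` together with `NN p c`.
-/

set_option autoImplicit false

open Polynomial Cfsg
open scoped ComplexConjugate ComplexOrder

namespace Cfsg.Agent.H794.Imc

open Cfsg.Agent.H139.Cusp Cfsg.Agent.H53.HC Cfsg.Agent.H477.HC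

universe u v w

attribute [local instance] fintypeHom fintypeSub finite_quot

theorem prod_nonneg_even {x : ℕ → ℂ} (hx : ∀ i, 1 ≤ x i) (k : ℕ) : 0 ≤ ∏ i ∈ Finset.range (2 * k), (1 - x i) := by
  induction k with
  | zero => simp
  | succ k ih =>
    rw [show 2 * (k + 1) = 2 * k + 1 + 1 by ring, Finset.prod_range_succ, Finset.prod_range_succ, mul_assoc]
    refine mul_nonneg ih ?_
    have e : (1 - x (2 * k)) * (1 - x (2 * k + 1)) = (x (2 * k) - 1) * (x (2 * k + 1) - 1) := by ring
    rw [e]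
    exact mul_nonneg (sub_nonneg.2 (hx _)) (sub_nonneg.2 (hx _))

theorem cusp_nonneg {F : Type u} [Field F] [Finite F] {L : Type w} [Field L] [Finite L] [Algebra F L]
    (θ : L →*₀ ℂ) {p : ℕ} (hp : p.Prime) (hpF : (p : F) ≠ 0) {n : ℕ} (hn : Odd n)
    (hθ : ∀ x : L, (∃ j : ℕ, x ^ (p ^ j) = 1) → θ x = 1)
    {V : Type v} [AddCommGroup V] [Module F V] [Finite V] (hV : Module.finrank F V = n) {g : V →ₗ[F] V} {j : ℕ}
    (hg : g ^ (p ^ j) = 1) : 0 ≤ cusp L θ g := by
  classical
  have hn0 : 0 < n := hn.pos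
  have hnt : Nontrivial V := Module.nontrivial_of_finrank_pos (R := F) (by rw [hV]; exact hn0)
  have hfd : FiniteDimensional F V := Module.Finite.of_finite
  unfold cusp
  rw [hV, Even.neg_one_pow (by obtain ⟨i, rfl⟩ := hn; simp), one_mul]
  rcases kap_eq_zero_or (lb L θ) (lb_mul L θ) g with ⟨f, m, hf, hirr, hm, hfm⟩ | h0
  · obtain ⟨k, hk⟩ := exists_finrank_ker hirr (g := g) (by rw [hfm]; exact dvd_pow_self f hm.ne')
    rw [kap_formula (lb L θ) (lb_mul L θ) hf hirr (aeval_pow_of_charpoly hfm) hk]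
    -- semisimplicity
    have hint : IsIntegral F g := Algebra.IsIntegral.isIntegral g
    have h1 : minpoly F g ∣ X ^ (p ^ j) - 1 := by
      refine minpoly.dvd F g ?_
      rw [map_sub, map_pow, aeval_X, map_one, hg, sub_self]
    have hsep : (X ^ (p ^ j) - 1 : F[X]).Separable := by
      have h2 : ((p ^ j : ℕ) : F) ≠ 0 := by
        rw [Nat.cast_pow]
        exact pow_ne_zero _ hpF
      have h3 := Polynomial.separable_X_pow_sub_C (F := F) (n := p ^ j) (1 : F) h2 one_ne_zero
      rwa [map_one] at h3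
    have hsq : Squarefree (minpoly F g) := hsep.squarefree.squarefree_of_dvd h1
    have h4 : minpoly F g ∣ f := by
      have h5 : minpoly F g ∣ f ^ m := by
        rw [← hfm]
        exact LinearMap.minpoly_dvd_charpoly g
      exact (hsq.dvd_pow_iff_dvd hm.ne').1 h5
    have h6 : aeval g f = 0 := by
      obtain ⟨r, hr⟩ := h4
      rw [hr, map_mul, minpoly.aeval, zero_mul]
    have h7 : f ∣ X ^ (p ^ j) - 1 := by
      refine dvd_trans ?_ h1
      obtain ⟨r, hr⟩ := h4
      have h8 : IsUnit r := (hirr.isUnit_or_isUnit hr).resolve_left (minpoly.not_isUnit F g)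
      rw [hr]
      exact (IsUnit.mul_right_dvd h8).2 dvd_rfl
    have h9 : f.natDegree * (k + 1) = n := by
      rw [← hk, h6, LinearMap.ker_zero, finrank_top, hV]
    have h10 : Even k := by
      by_contra hodd
      rw [Nat.not_even_iff_odd] at hodd
      have h11 : Even (k + 1) := hodd.add_one
      have h12 : Even n := by rw [← h9]; exact h11.mul_left _
      exact (Nat.not_even_iff_odd.2 hn) h12
    obtain ⟨k', rfl⟩ := h10
    refine mul_nonneg ?_ ?_
    · unfold lb
      refine Multiset.sum_nonneg fun y hy => ?_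
      obtain ⟨x, hx, rfl⟩ := Multiset.mem_map.1 hy
      have h13 : aeval x f = 0 := by
        have h14 := (mem_roots'.1 hx).2
        rwa [IsRoot.def, eval_map, ← aeval_def] at h14
      have h15 : x ^ (p ^ j) = 1 := by
        obtain ⟨r, hr⟩ := h7
        have h16 := congrArg (aeval x) hr
        rw [map_mul, h13, zero_mul, map_sub, map_pow, aeval_X, map_one] at h16
        exact sub_eq_zero.1 h16
      rw [hθ x ⟨j, h15⟩]
      exact zero_le_one
    · rw [← two_mul]
      refine prod_nonneg_even (x := fun i => (Nat.card F : ℂ) ^ (f.natDegree * (i + 1))) (fun i => ?_) k'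
      refine one_le_pow₀ ?_
      have h17 : 1 ≤ Nat.card F := Nat.card_pos
      exact_mod_cast h17
  · rw [h0]

theorem psi_nn {F : Type u} [Field F] [Finite F] {L : Type w} [Field L] [Finite L] [Algebra F L]
    (θ : L →*₀ ℂ) {p : ℕ} (hp : p.Prime) (hpF : (p : F) ≠ 0) {n : ℕ} (hn : Odd n)
    (hθ : ∀ x : L, (∃ j : ℕ, x ^ (p ^ j) = 1) → θ x = 1) : NN p (psi (n := n) (F := F) L θ) := by
  constructor
  · rintro A ⟨j, hj⟩
    unfold psi cuspMat
    refine cusp_nonneg θ hp hpF hn hθ (V := Fin n → F) (by rw [Module.finrank_fin_fun]) (j := j) ?_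
    have h1 : A ^ (p ^ j) = 1 := by rw [← hj]; exact pow_orderOf_eq_one A
    have h2 := congrArg (fun B : GL (Fin n) F => Matrix.toLin' (B : Matrix (Fin n) (Fin n) F)) h1
    simp only [Units.val_pow_eq_pow_val, Units.val_one, Matrix.toLin'_one] at h2
    have h3 : (Matrix.toLin' (A : Matrix (Fin n) (Fin n) F)) ^ (p ^ j) =
        Matrix.toLin' ((A : Matrix (Fin n) (Fin n) F) ^ (p ^ j)) :=
      (map_pow (Matrix.toLinAlgEquiv' (R := F) (n := Fin n)) _ _).symm
    rw [h3, h2]
    rfl
  · rw [psi_one L θ hn.pos, degP_eq_Ico]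
    have h3 : 0 < ∏ i ∈ Finset.Ico 1 n, (Nat.card F ^ i - 1) := by
      refine Finset.prod_pos fun i hi => ?_
      have h4 := (Finset.mem_Ico.1 hi).1
      have h5 : 1 < Nat.card F ^ i := Nat.one_lt_pow (by omega) Finite.one_lt_card
      omega
    exact_mod_cast h3

end Cfsg.Agent.H794.Imc
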