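import Cfsg.Agent.H794.ImcCus

/-!
# `IMC r (PSp_{2m}(q))`, `m ≥ 3`, `r` not the characteristic (helper794)
-/

set_option autoImplicit false

open Cfsg
open scoped ComplexConjugate ComplexOrder

namespace Cfsg.Agent.H794.Imc

open Cfsg.Agent.H625.SylConst Cfsg.Agent.H139.Cusp Cfsg.Agent.H53.HC Cfsg.Agent.H477.HC Module
  Cfsg.Agent.Characters

universe u v w

/-! ### arithmetic -/

theorem exists_ord {q r : ℕ} (hr : r.Prime) (hrq : ¬ r ∣ q) (hq : 1 ≤ q) :
    ∃ d : ℕ, 0 < d ∧ d ≤ r - 1 ∧ ∀ i, r ∣ q ^ i - 1 ↔ d ∣ i := by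
  have := Fact.mk hr
  have h0 : (q : ZMod r) ≠ 0 := fun h => hrq ((ZMod.natCast_eq_zero_iff q r).1 h)
  have hfo : IsOfFinOrder (q : ZMod r) := by
    rw [isOfFinOrder_iff_pow_eq_one]
    exact ⟨r - 1, by have := hr.two_le; omega, ZMod.pow_card_sub_one_eq_one h0⟩
  refine ⟨orderOf (q : ZMod r), hfo.orderOf_pos, ?_, fun i => ?_⟩
  · exact Nat.le_of_dvd (by have := hr.two_le; omega) (orderOf_dvd_of_pow_eq_one (ZMod.pow_card_sub_one_eq_one h0))
  · rw [orderOf_dvd_iff_pow_eq_one, ← ZMod.natCast_eq_zero_iff, Nat.cast_sub (Nat.one_le_pow _ _ hq), sub_eq_zero,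
      Nat.cast_pow, Nat.cast_one]

/-- `r` divides `(q^k+1)`, or `q^(2j)-1` for some `j ≠ k` in `[n+1, k+n]`, unless `r` is primitive for `k` -/
theorem arith_sp {q r k n : ℕ} (hr : r.Prime) (hq : 2 ≤ q) (hrq : ¬ r ∣ q) (hk : Odd k) (hk3 : 3 ≤ k) (hn : n ≤ 1)
    (hnp : ¬ ∀ i, r ∣ q ^ i - 1 ↔ k ∣ i) (h : ∃ j, 0 < j ∧ j ≤ k + n ∧ r ∣ q ^ (2 * j) - 1) :
    r ∣ q ^ k + 1 ∨ ∃ j, n + 1 ≤ j ∧ j ≤ k + n ∧ j ≠ k ∧ r ∣ q ^ (2 * j) - 1 := by
  obtain ⟨d, hd0, -, hd⟩ := exists_ord hr hrq (by omega)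
  have hdk : d ≠ k := by
    rintro rfl
    exact hnp hd
  -- small exponents
  have hone : r ∣ q ^ (2 * 1) - 1 → ∃ j, n + 1 ≤ j ∧ j ≤ k + n ∧ j ≠ k ∧ r ∣ q ^ (2 * j) - 1 := by
    intro h1
    rcases Nat.eq_zero_or_pos n with rfl | hn0
    · exact ⟨1, by omega, by omega, by omega, h1⟩
    · refine ⟨k + n, by omega, le_rfl, by omega, ?_⟩
      rw [hd] at h1 ⊢
      exact h1.trans (Nat.mul_dvd_mul_left 2 (one_dvd _))
  obtain ⟨j, hj0, hj, hrj⟩ := h
  by_cases hjk : j = k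
  · subst hjk
    rw [sq_sub] at hrj
    rcases hr.dvd_mul.1 hrj with h1 | h1
    · exact Or.inl h1
    · right
      have h2 : d ∣ j := (hd j).1 h1
      have h3 : d < j := lt_of_le_of_ne (Nat.le_of_dvd hj0 h2) hdk
      rcases Nat.lt_or_ge d 2 with h4 | h4
      · refine hone ((hd _).2 ?_)
        have : d = 1 := by omega
        rw [this]
        exact one_dvd _
      · exact ⟨d, by omega, by omega, by omega, (hd _).2 (dvd_mul_left d 2)⟩
  · rcases Nat.lt_or_ge j (n + 1) with h1 | h1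
    · have h2 : j = 1 := by omega
      subst h2
      exact Or.inr (hone hrj)
    · exact Or.inr ⟨j, h1, hj, hjk, hrj⟩

theorem primitive_iff {q r k : ℕ} (hk : Odd k) (hp : ∀ i, r ∣ q ^ i - 1 ↔ k ∣ i) (j : ℕ) :
    r ∣ q ^ (2 * j) - 1 ↔ k ∣ j := by
  rw [hp]
  exact ⟨odd_dvd_two_mul hk, fun h => h.trans (dvd_mul_left j 2)⟩

/-! ### characters with fixed vectors -/

/-- the irreducible character of the isometry group -/
theorem exists_char_nn {K : Type u} [Field K] [Finite K] {V : Type v} [AddCommGroup V] [Module K V] [Finite V]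
    [FiniteDimensional K V] (F : CForm K V) {k : ℕ} {W₀ : Submodule K V} (hW₀ : W₀ ∈ F.Om k) {Z : Kˣ → Prop}
    {c : GL (Fin k) K → ℂ} (hc : Cus K k F.σ Z c) {r : ℕ} (hr : r.Prime) (hnn : NN r c) :
    ∃ χ : F.iso → ℂ, IsIrrCharacter F.iso χ ∧ χ 1 = (dg F k : ℂ) ∧ NN r χ ∧
      ∀ (z : F.iso) (a : Kˣ), Z a → (∀ v, (z : V ≃ₗ[K] V) v = (a : K) • v) → χ z = χ 1 := by
  have := finite_Om F k
  have := finite_iso F
  let _ := Fintype.ofFinite (F.Om k)
  let _ := Fintype.ofFinite F.iso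
  have hcl := Core.isIrr_isClassFunction hc.irr
  refine ⟨F.hc c (fun _ _ => 1), F.isIrr_hc_one hc.irr hc.cusp hc.dual hW₀, ?_, nn_hc hr F ⟨W₀, hW₀⟩ hcl hnn,
    fun z a ha hz => ?_⟩
  · rw [F.hc_one hcl (fun _ _ => 1) (d := 1) (fun _ _ => rfl), hc.deg, mul_one]
    unfold dg
    rw [Nat.cast_mul]
  · exact F.hc_scalar hcl (fun _ _ => 1) hz (hc.scal a ha) (fun _ _ => rfl)

theorem NN.of_equiv_comp {G : Type u} {H : Type v} [Group G] [Group H] {r : ℕ} (hr : r.Prime) {χ : H → ℂ}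
    (h : NN r χ) (e : G ≃* H) : NN r (χ ∘ e.toMonoidHom) := h.comp hr e.toMonoidHom

/-- `PSp` -/
theorem imc_psp_of {K : Type u} [Field K] [Finite K] {k n : ℕ} {c : GL (Fin k) K → ℂ}
    (hc : Cus K k (RingHom.id K) (fun _ => True) c) {r : ℕ} [hr : Fact r.Prime] (hnn : NN r c)
    (hd : r ∣ dg (CForm.spF K (k + n)) k) : IMC r (PSp (k + n) K) := by
  classical
  obtain ⟨p, hp⟩ := CharP.exists K
  have hpr : p.Prime := (CharP.char_is_prime_or_zero K p).resolve_right (CharP.char_ne_zero_of_finite K p)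
  have : Fact p.Prime := ⟨hpr⟩
  obtain ⟨⟨W₀, hW₀⟩, -⟩ := CForm.spF_frame (K := K) (p := p) k n
  obtain ⟨χ, hχ, hχ1, hχn, hχz⟩ := exists_char_nn (CForm.spF K (k + n)) hW₀ hc hr.out hnn
  have hfin : Finite (Matrix.symplecticGroup (Fin (k + n)) K) := inferInstance
  have hχ' : IsIrrCharacter _ (χ ∘ (isoSp (k + n) K).toMonoidHom) :=
    Core.isIrr_comp (isoSp (k + n) K).toMonoidHom (isoSp (k + n) K).surjective hχ
  have hnn' : NN r (χ ∘ (isoSp (k + n) K).toMonoidHom) := hχn.comp hr.out _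
  obtain ⟨Q⟩ : Nonempty (Sylow r (Matrix.symplecticGroup (Fin (k + n)) K)) := inferInstance
  refine imc_quot (Subgroup.center (Matrix.symplecticGroup (Fin (k + n)) K)) Q hχ' (fun z hz => ?_) ?_
    (hnn'.fix Q.1 Q.isPGroup')
  · change χ (isoSp (k + n) K z) = χ (isoSp (k + n) K 1)
    rw [map_one]
    rcases Cfsg.Agent.ClassicalGeometry.SympInvolutions.center_eq hz with h | h
    · refine hχz _ 1 trivial fun v => ?_
      rw [isoSp_apply, h, Matrix.one_mulVec, Units.val_one, one_smul]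
    · refine hχz _ (-1) trivial fun v => ?_
      rw [isoSp_apply, h, Matrix.neg_mulVec, Matrix.one_mulVec, Units.val_neg, Units.val_one, neg_one_smul]
  · have h1 : charDegree (χ ∘ (isoSp (k + n) K).toMonoidHom) = dg (CForm.spF K (k + n)) k :=
      Cfsg.Agent.H670.PSing.charDegree_eq_of (by
        rw [Function.comp_apply, map_one, hχ1])
    rwa [h1]

/-- cancel a common factor in `key_dvd` -/
theorem dvd_of_cancel {p e D A B : ℕ} (hB : 0 < B) (h : A * B ∣ p ^ e * (D * B)) : A ∣ p ^ e * D := by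
  rw [← mul_assoc] at h
  exact Nat.dvd_of_mul_dvd_mul_right hB h

/-- one more factor than `q^{2k}-1` -/
theorem prod_two {q n k j : ℕ} (hk : n + 1 ≤ k) (hj1 : n + 1 ≤ j) (hj2 : j ≤ k + n) (hjk : j ≠ k) :
    (q ^ (2 * j) - 1) * (q ^ (2 * k) - 1) ∣ ∏ i ∈ Finset.Ico n (k + n), (q ^ (2 * (i + 1)) - 1) := by
  have e : ({j - 1, k - 1} : Finset ℕ) ⊆ Finset.Ico n (k + n) := by
    intro x hx
    rw [Finset.mem_insert, Finset.mem_singleton] at hx
    rw [Finset.mem_Ico]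
    omega
  refine dvd_trans ?_ (Finset.prod_dvd_prod_of_subset _ _ (fun i => q ^ (2 * (i + 1)) - 1) e)
  rw [Finset.prod_pair (by omega)]
  have e1 : j - 1 + 1 = j := by omega
  have e2 : k - 1 + 1 = k := by omega
  rw [e1, e2]

/-- `r ∣ dg F k` from `key_dvd` -/
theorem dvd_dg_sp {q p r k n D : ℕ} (hr : r.Prime) (hp : p.Prime) (hrp : r ≠ p) (hq : 2 ≤ q) (hk3 : 3 ≤ k)
    (hn : n ≤ 1) (h : r ∣ q ^ k + 1 ∨ ∃ j, n + 1 ≤ j ∧ j ≤ k + n ∧ j ≠ k ∧ r ∣ q ^ (2 * j) - 1)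
    (hD : ∃ e, ∏ i ∈ Finset.Ico n (k + n), (q ^ (2 * (i + 1)) - 1) ∣ p ^ e * (D * (q ^ k - 1))) : r ∣ D := by
  obtain ⟨e, he⟩ := hD
  have hk0 : 0 < q ^ k - 1 := by
    have : 1 < q ^ k := Nat.one_lt_pow (by omega) (by omega)
    omega
  have key : r ∣ p ^ e * D := by
    rcases h with h | ⟨j, h1, h2, h3, h4⟩
    · refine h.trans ?_
      have h5 : (q ^ (2 * k) - 1) ∣ ∏ i ∈ Finset.Ico n (k + n), (q ^ (2 * (i + 1)) - 1) := by
        have h6 := Finset.dvd_prod_of_mem (fun i => q ^ (2 * (i + 1)) - 1)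
          (Finset.mem_Ico.2 (⟨by omega, by omega⟩ : n ≤ k - 1 ∧ k - 1 < k + n))
        have e1 : k - 1 + 1 = k := by omega
        simp only [e1] at h6
        exact h6
      have h7 := h5.trans he
      rw [sq_sub] at h7
      exact dvd_of_cancel hk0 h7
    · refine h4.trans ?_
      have h5 := (prod_two (q := q) (n := n) (k := k) (j := j) (by omega) h1 h2 h3).trans he
      rw [sq_sub q k, ← mul_assoc] at h5
      exact (dvd_mul_right _ _).trans (dvd_of_cancel hk0 h5)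
  have := prime_pow_dvd (t := 1) hr hp hrp (by rw [pow_one]; exact key)
  rwa [pow_one] at this

/-- the primitive case: `r^N ∣ D` -/
theorem dvd_dg_sp' {q p r k k' n' D N : ℕ} (hr : r.Prime) (hp : p.Prime) (hrp : r ≠ p) (hk : n' + 1 ≤ k)
    (hkk : k ≤ k' + n') (hnd : ¬ r ∣ q ^ k' - 1) (hN : r ^ N ∣ q ^ (2 * k) - 1)
    (hD : ∃ e, ∏ i ∈ Finset.Ico n' (k' + n'), (q ^ (2 * (i + 1)) - 1) ∣ p ^ e * (D * (q ^ k' - 1))) : r ^ N ∣ D := by
  obtain ⟨e, he⟩ := hD
  have h5 : (q ^ (2 * k) - 1) ∣ ∏ i ∈ Finset.Ico n' (k' + n'), (q ^ (2 * (i + 1)) - 1) := by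
    have h6 := Finset.dvd_prod_of_mem (fun i => q ^ (2 * (i + 1)) - 1)
      (Finset.mem_Ico.2 (⟨by omega, by omega⟩ : n' ≤ k - 1 ∧ k - 1 < k' + n'))
    have e1 : k - 1 + 1 = k := by omega
    simp only [e1] at h6
    exact h6
  have h7 := prime_pow_dvd hr hp hrp (hN.trans (h5.trans he))
  exact (Nat.Coprime.pow_left N ((Nat.Prime.coprime_iff_not_dvd hr).2 hnd)).dvd_of_dvd_mul_right h7

/-- a product with only one factor divisible by `r` -/
theorem pow_dvd_factor {r N : ℕ} (hr : r.Prime) (s : Finset ℕ) (f : ℕ → ℕ) {a : ℕ} (ha : a ∈ s)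
    (hf : ∀ i ∈ s, i ≠ a → ¬ r ∣ f i) (h : r ^ N ∣ ∏ i ∈ s, f i) : r ^ N ∣ f a := by
  classical
  rw [← Finset.mul_prod_erase s f ha] at h
  refine Nat.Coprime.dvd_of_dvd_mul_right (Nat.Coprime.pow_left N ?_) h
  rw [Nat.Prime.coprime_iff_not_dvd hr, Prime.dvd_finsetProd_iff hr.prime]
  rintro ⟨i, hi, hi'⟩
  rw [Finset.mem_erase] at hi
  exact hf i hi.2 hi.1 hi'

theorem cast_ne_zero_of {K : Type u} [Field K] {p r : ℕ} [CharP K p] (hr : r.Prime) (hp : p.Prime) (hrp : r ≠ p) :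
    (r : K) ≠ 0 := by
  intro h
  rw [CharP.cast_eq_zero_iff K p] at h
  exact hrp ((Nat.prime_dvd_prime_iff_eq hp hr).1 h).symm

/-- **`PSp_{2m}(q)`, `m ≥ 3`, `r ≠ p`**, apart from `(PSp_6(2), 7)`, `(PSp_6(3), 13)` -/
theorem imc_psp_main (K : Type u) [Field K] [Finite K] {p : ℕ} [Fact p.Prime] [CharP K p] {m : ℕ} (hm : 3 ≤ m)
    {r : ℕ} [hr : Fact r.Prime] (hrp : r ≠ p) (hd : r ∣ Nat.card (PSp m K))
    (h2 : m = 3 → Nat.card K = 2 → r ≠ 7) (h3 : m = 3 → Nat.card K = 3 → r ≠ 13) : IMC r (PSp m K) := by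
  classical
  have hp : p.Prime := Fact.out
  obtain ⟨s, hs⟩ := card_pow K p
  have hq2 : 2 ≤ Nat.card K := Finite.one_lt_card
  have hrq : ¬ r ∣ Nat.card K := by
    rw [hs]; intro h; exact hrp ((Nat.prime_dvd_prime_iff_eq hr.out hp).1 (hr.out.dvd_of_dvd_pow h))
  have hcard : ∀ N, r ^ N ∣ Nat.card (PSp m K) → r ^ N ∣ ∏ i ∈ Finset.range m, (Nat.card K ^ (2 * (i + 1)) - 1) := by
    intro N hN
    have hd1 : r ^ N ∣ Nat.card (Matrix.symplecticGroup (Fin m) K) := hN.trans (Subgroup.card_quotient_dvd_card _)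
    rw [Nat.card_congr (isoSp m K).toEquiv, card_spF] at hd1
    refine (Nat.Coprime.pow_left N ?_).dvd_of_dvd_mul_left hd1
    rw [Nat.Prime.coprime_iff_not_dvd hr.out]
    exact fun h => hrq (hr.out.dvd_of_dvd_pow h)
  have hd2 := hcard 1 (by rwa [pow_one])
  rw [pow_one] at hd2
  obtain ⟨i₀, hi₀, hi₀'⟩ := (Prime.dvd_finsetProd_iff hr.out.prime _).1 hd2
  rw [Finset.mem_range] at hi₀
  -- the odd one of `m`, `m - 1`
  obtain ⟨k, n, k', n', hkn, hkn', hk, hk3, hn, hn', hnk, hne⟩ : ∃ k n k' n', k + n = m ∧ k' + n' = m ∧ Odd k ∧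
      3 ≤ k ∧ n ≤ 1 ∧ n' ≤ 1 ∧ n' + 1 ≤ k ∧ k' ≠ k := by
    rcases Nat.even_or_odd m with h | h
    · obtain ⟨t, ht⟩ := h
      exact ⟨m - 1, 1, m, 0, by omega, by omega, ⟨t - 1, by omega⟩, by omega, by omega, by omega, by omega, by omega⟩
    · exact ⟨m, 0, m - 1, 1, by omega, by omega, h, by omega, by omega, by omega, by omega, by omega⟩
  by_cases hpr : ∀ i, r ∣ Nat.card K ^ i - 1 ↔ k ∣ i
  · -- defect zero
    have hiff := primitive_iff hk hpr
    have hk'2 : ∀ j, 0 < j → j ≤ m → j ≠ k → ¬ r ∣ Nat.card K ^ (2 * j) - 1 := by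
      intro j hj hjm hjk h
      obtain ⟨t, rfl⟩ := (hiff j).1 h
      rcases Nat.lt_or_ge t 2 with h4 | h4
      · have : t = 1 := by
          rcases Nat.eq_zero_or_pos t with rfl | h5 <;> omega
        subst this
        omega
      · have : k * 2 ≤ k * t := Nat.mul_le_mul_left _ h4
        omega
    have hk'0 : 0 < k' := by omega
    have hk'nd : ¬ r ∣ Nat.card K ^ k' - 1 := fun h =>
      hk'2 k' hk'0 (by omega) hne (h.trans (pow_sub_dvd _ _))
    have hrB : r ∣ Nat.card K ^ k - 1 := (hpr k).2 dvd_rfl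
    obtain ⟨c, hc⟩ := exists_cus_sq K rfl k' hk'0 (fun h => by
        by_contra h'
        have hm3 : m = 3 := by omega
        have hk3' : k = 3 := by omega
        apply h2 hm3 h
        rw [hk3', h] at hrB
        exact ((Nat.prime_dvd_prime_iff_eq hr.out (by norm_num)).1 (by norm_num at hrB; exact hrB)))
      (fun h => by
        by_contra h'
        have hm3 : m = 3 := by omega
        have hk3' : k = 3 := by omega
        apply h3 hm3 h
        rw [hk3', h] at hrB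
        have h5 : r ∣ 2 * 13 := by norm_num at hrB; exact hrB
        rcases hr.out.dvd_mul.1 h5 with h6 | h6
        · exfalso
          have h7 : r = 2 := (Nat.prime_dvd_prime_iff_eq hr.out Nat.prime_two).1 h6
          apply hk'2 1 (by omega) (by omega) (by omega)
          rw [h7, h]
          norm_num
        · exact (Nat.prime_dvd_prime_iff_eq hr.out (by norm_num)).1 h6) (fun h => by omega)
    obtain ⟨χ, hχ, hχ1⟩ := psp_char (k := k') (n := n') hc (one_pow 2) (neg_one_sq)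
    have hD := psp_dvd K (p := p) (k := k') (n := n') hk'0
    rw [hkn'] at hD
    have hfin : Finite (PSp m K) := inferInstance
    have hN : r ^ (Nat.card (PSp m K)).factorization r ∣ Nat.card K ^ (2 * k) - 1 := by
      have h4 := hcard _ (Nat.ordProj_dvd (Nat.card (PSp m K)) r)
      have h5 := pow_dvd_factor hr.out (Finset.range m) (fun i => Nat.card K ^ (2 * (i + 1)) - 1) (a := k - 1)
        (Finset.mem_range.2 (by omega)) (fun i hi hik => hk'2 (i + 1) (by omega) (by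
          rw [Finset.mem_range] at hi; omega) (by omega)) h4
      have e1 : k - 1 + 1 = k := by omega
      simp only [e1] at h5
      exact h5
    have h6 : r ^ (Nat.card (PSp m K)).factorization r ∣ dg (CForm.spF K m) k' := by
      refine dvd_dg_sp' (q := Nat.card K) (k' := k') (n' := n') hr.out hp hrp hnk (by omega) hk'nd hN ?_
      obtain ⟨e, he⟩ := hD
      exact ⟨e, by rw [hkn']; exact he⟩
    have key : ∀ (m' : ℕ) (_ : m' = m) (χ : PSp m' K → ℂ), IsIrrCharacter _ χ → χ 1 = (dg (CForm.spF K m') k' : ℂ) →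
        IMC r (PSp m K) := by
      rintro m' rfl χ hχ hχ1
      refine IMC.of_defect_zero hd ⟨χ, hχ⟩ ?_
      change r ^ _ ∣ charDegree χ
      rw [Cfsg.Agent.H670.PSing.charDegree_eq_of hχ1]
      exact h6
    exact key (k' + n') hkn' χ hχ hχ1
  · -- fixed vectors
    obtain ⟨c, hc, hnn⟩ := exists_cus_imc (K := K) rfl hk hk3 hr.out (cast_ne_zero_of hr.out hp hrp) hpr
    have h4 := arith_sp hr.out hq2 hrq hk hk3 hn hpr ⟨i₀ + 1, by omega, by omega, hi₀'⟩
    have hD := psp_dvd K (p := p) (k := k) (n := n) (by omega)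
    subst hkn
    exact imc_psp_of hc hnn (dvd_dg_sp hr.out hp hrp hq2 hk3 hn h4 hD)

end Cfsg.Agent.H794.Imc
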