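import Cfsg.Agent.H681.DegBasic

/-!
# The complement of a fixed vector is irreducible

`G` finite simple, `ρ` a representation on `V` of dimension `n + 1` fixing `w ≠ 0`, such that for every decomposition
`V = S ⊕ T` into subrepresentations one of `S`, `T` lies in the plane spanned by `w` and a vector `e`, which is not
fixed by `G` but by some nontrivial element. Then `n` is a character degree of `G`.
-/

set_option autoImplicit false

namespace Cfsg.Agent.H794.IrrCompl

open Cfsg Cfsg.Agent.H681.DegBasic Cfsg.Agent.Characters.Core Module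

variable {G : Type*} [Group G] [Finite G] [IsSimpleGroup G] {V : Type*} [AddCommGroup V] [Module ℂ V]
  [FiniteDimensional ℂ V] (ρ : Representation ℂ G V)

/-- The kernel of the action on a subrepresentation. -/
def ker (S : Subrepresentation ρ) : Subgroup G where
  carrier := {g | ∀ y ∈ S.toSubmodule, ρ g y = y}
  one_mem' := fun y _ => by rw [map_one]; rfl
  mul_mem' := by
    intro a b ha hb y hy
    rw [map_mul]
    change ρ a (ρ b y) = y
    rw [hb y hy, ha y hy]
  inv_mem' := by
    intro a ha y hy
    have h1 : ρ a⁻¹ (ρ a y) = y := by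
      change (ρ a⁻¹ * ρ a) y = y
      rw [← map_mul, inv_mul_cancel, map_one]; rfl
    rwa [ha y hy] at h1

omit [Finite G] [IsSimpleGroup G] [FiniteDimensional ℂ V] in
theorem ker_normal (S : Subrepresentation ρ) : (ker ρ S).Normal := by
  refine ⟨fun n hn g y hy => ?_⟩
  have h1 : ρ g⁻¹ y ∈ S.toSubmodule := S.apply_mem_toSubmodule g⁻¹ hy
  have h2 : ρ (g * n * g⁻¹) y = ρ g (ρ n (ρ g⁻¹ y)) := by
    rw [map_mul, map_mul]; rfl
  rw [h2, hn _ h1]
  change (ρ g * ρ g⁻¹) y = y
  rw [← map_mul, mul_inv_cancel, map_one]; rfl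

theorem mem_charDegrees_of {w e : V} {F : Submodule ℂ V} (hF : ∀ y ∈ F, ∃ a b : ℂ, y = a • w + b • e)
    (hw : ∀ g, ρ g w = w) (hw0 : w ≠ 0) {g0 : G} (hg0 : g0 ≠ 1) (hg0e : ρ g0 e = e) (hne : ∃ g, ρ g e ≠ e)
    (hdich : ∀ S T : Subrepresentation ρ, IsCompl S.toSubmodule T.toSubmodule →
      S.toSubmodule ≤ F ∨ T.toSubmodule ≤ F) {n : ℕ} (hn : finrank ℂ V = n + 1) (hn1 : 1 ≤ n) :
    n ∈ charDegrees G := by
  have step : ∀ S : Subrepresentation ρ, S.toSubmodule ≤ F → S.toSubmodule ≤ Submodule.span ℂ {w} := by
    intro S hS x hx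
    obtain ⟨a, b, rfl⟩ := hF x (hS hx)
    by_cases hb : b = 0
    · subst hb
      rw [zero_smul, add_zero]
      exact Submodule.smul_mem _ _ (Submodule.mem_span_singleton_self w)
    · exfalso
      obtain ⟨g, hg⟩ := hne
      have hk : g0 ∈ ker ρ S := by
        intro y hy
        obtain ⟨c, d, rfl⟩ := hF y (hS hy)
        rw [map_add, map_smul, map_smul, hw, hg0e]
      have hn := ker_normal ρ S
      rcases hn.eq_bot_or_eq_top with h | h
      · rw [h] at hk
        exact hg0 (Subgroup.mem_bot.1 hk)
      · have h1 : g ∈ ker ρ S := by rw [h]; trivial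
        have h2 := h1 _ hx
        rw [map_add, map_smul, map_smul, hw] at h2
        have h3 := add_left_cancel h2
        exact hg (smul_right_injective V hb h3)
  -- the fixed line
  let U : Subrepresentation ρ :=
    { toSubmodule := Submodule.span ℂ {w}
      apply_mem_toSubmodule := by
        intro g v hv
        obtain ⟨c, rfl⟩ := Submodule.mem_span_singleton.1 hv
        rw [map_smul, hw]
        exact hv }
  obtain ⟨W, hW⟩ := exists_isCompl_sub U
  have hWn : finrank ℂ W.toSubmodule = n := by
    have h1 := Submodule.finrank_add_eq_of_isCompl hW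
    have h2 : finrank ℂ U.toSubmodule = 1 := finrank_span_singleton hw0
    omega
  have hirr : W.toRepresentation.IsIrreducible := by
    have hnt : Nontrivial W.toSubmodule := Module.nontrivial_of_finrank_pos (R := ℂ) (by omega)
    have hnt2 : Nontrivial (Subrepresentation W.toRepresentation) := by
      refine ⟨⊥, ⊤, fun h => ?_⟩
      have : (⊥ : Submodule ℂ W.toSubmodule) = ⊤ := congrArg Subrepresentation.toSubmodule h
      exact bot_ne_top this
    refine ⟨fun σ => ?_⟩
    obtain ⟨τ, hτ⟩ := exists_isCompl_sub σ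
    have hS : (mapSub W σ).toSubmodule = σ.toSubmodule.map W.toSubmodule.subtype := rfl
    have hT : (mapSub W τ).toSubmodule = τ.toSubmodule.map W.toSubmodule.subtype := rfl
    have h1 : Disjoint (mapSub W σ).toSubmodule (mapSub W τ).toSubmodule := by
      rw [hS, hT, disjoint_iff, ← Submodule.map_inf _ W.toSubmodule.subtype_injective, hτ.inf_eq_bot,
        Submodule.map_bot]
    have h2 : (mapSub W σ).toSubmodule ⊔ (mapSub W τ).toSubmodule = W.toSubmodule := by
      rw [hS, hT, ← Submodule.map_sup, hτ.sup_eq_top, Submodule.map_top, Submodule.range_subtype]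
    have h3 : IsCompl (mapSub W σ).toSubmodule (mapSub W τ ⊔ U).toSubmodule := by
      refine ⟨?_, ?_⟩
      · exact h1.disjoint_sup_right_of_disjoint_sup_left (h2 ▸ hW.disjoint.symm)
      · rw [codisjoint_iff]
        change _ ⊔ ((mapSub W τ).toSubmodule ⊔ U.toSubmodule) = ⊤
        rw [← sup_assoc, h2, sup_comm]
        exact hW.sup_eq_top
    have hle : ∀ σ' : Subrepresentation W.toRepresentation, (mapSub W σ').toSubmodule ≤ W.toSubmodule := by
      intro σ'
      exact Submodule.map_subtype_le _ _
    have hfin : ∀ σ' : Subrepresentation W.toRepresentation, (mapSub W σ').toSubmodule ≤ F → σ' = ⊥ := by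
      intro σ' h
      have h4 := hW.disjoint (step _ h) (hle σ')
      apply Subrepresentation.toSubmodule_injective
      change σ'.toSubmodule = ⊥
      apply Submodule.map_injective_of_injective W.toSubmodule.subtype_injective
      rw [Submodule.map_bot]
      exact le_bot_iff.1 h4
    rcases hdich _ _ h3 with h | h
    · exact Or.inl (hfin σ h)
    · right
      have h5 : τ = ⊥ := hfin τ (le_trans le_sup_left h)
      apply Subrepresentation.toSubmodule_injective
      change σ.toSubmodule = ⊤
      have h6 := hτ.sup_eq_top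
      rw [h5] at h6
      rw [← h6]
      exact (sup_bot_eq _).symm
  refine mem_charDegrees.2 ⟨_, isIrrCharacter_of_rep _ hirr, ?_⟩
  rw [Representation.char_one, hWn]

end Cfsg.Agent.H794.IrrCompl
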