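import Mathlib

/-!
# Centralizers of 2-elements of `PSL₃(4)`
-/

set_option autoImplicit false

namespace Cfsg.Agent.H794.LThreeFour

open Matrix

variable {F : Type*} [Field F]

/-- The underlying matrix. -/
def val (A : Matrix.SpecialLinearGroup (Fin 3) F) : Matrix (Fin 3) (Fin 3) F := A.1

theorem val_mul (A B : Matrix.SpecialLinearGroup (Fin 3) F) : val (A * B) = val A * val B :=
  Matrix.SpecialLinearGroup.coe_mul A B

theorem val_one : val (1 : Matrix.SpecialLinearGroup (Fin 3) F) = 1 := rfl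

theorem val_inj {A B : Matrix.SpecialLinearGroup (Fin 3) F} (h : val A = val B) : A = B := Subtype.ext h

theorem det_val (A : Matrix.SpecialLinearGroup (Fin 3) F) : (val A).det = 1 := A.2

theorem mem_center {A : Matrix.SpecialLinearGroup (Fin 3) F} :
    A ∈ Subgroup.center (Matrix.SpecialLinearGroup (Fin 3) F) ↔ ∃ r : F, r ^ 3 = 1 ∧ scalar (Fin 3) r = val A := by
  rw [Matrix.SpecialLinearGroup.mem_center_iff, Fintype.card_fin]
  rfl

/-- The transvection with `1` in the corner. -/
def tv : Matrix.SpecialLinearGroup (Fin 3) F :=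
  Matrix.SpecialLinearGroup.transvection (i := (0 : Fin 3)) (j := 2) (by decide) 1

theorem val_tv : val (tv : Matrix.SpecialLinearGroup (Fin 3) F) = !![1, 0, 1; 0, 1, 0; 0, 0, 1] := by
  have h : val (tv : Matrix.SpecialLinearGroup (Fin 3) F) = Matrix.transvection 0 2 (1 : F) := rfl
  rw [h, Matrix.transvection]
  ext i j
  fin_cases i <;> fin_cases j <;> simp [Matrix.single]

theorem comm_of_mk (h2 : (2 : F) = 0) (A : Matrix.SpecialLinearGroup (Fin 3) F)
    (h : (QuotientGroup.mk A : ProjectiveSpecialLinearGroup (Fin 3) F) * QuotientGroup.mk tv =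
      QuotientGroup.mk tv * QuotientGroup.mk A) : A * tv = tv * A := by
  rw [← QuotientGroup.mk_mul, ← QuotientGroup.mk_mul, QuotientGroup.eq, mem_center] at h
  obtain ⟨r, -, hr⟩ := h
  have h1 : (A * tv) * ((A * tv)⁻¹ * (tv * A)) = tv * A := by group
  have h3 : val (A * tv) * scalar (Fin 3) r = val (tv * A) := by
    rw [hr, ← val_mul, h1]
  -- traces: `r tr t = tr t`
  have h4 : val (A * tv) * scalar (Fin 3) r * val A⁻¹ = val tv := by
    rw [h3, ← val_mul]
    congr 1
    group
  have h5 : val (A * tv) * scalar (Fin 3) r * val A⁻¹ = r • (val A * val tv * val A⁻¹) := by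
    rw [show scalar (Fin 3) r = r • (1 : Matrix (Fin 3) (Fin 3) F) by
      rw [smul_one_eq_diagonal]; rfl, val_mul]
    simp
  have h6 : trace (val (tv : Matrix.SpecialLinearGroup (Fin 3) F)) = 1 := by
    rw [val_tv, trace_fin_three]
    simp
    linear_combination h2
  have h7 : trace (val A * val tv * val A⁻¹) = 1 := by
    rw [← h6, trace_mul_comm, ← mul_assoc, ← val_mul A⁻¹ A, inv_mul_cancel, val_one, one_mul]
  have h8 := congrArg trace (h5.symm.trans h4)
  rw [trace_smul, h7, h6, smul_eq_mul, mul_one] at h8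
  rw [h8, map_one, mul_one] at h3
  exact val_inj h3

theorem pow_four_mem (h2 : (2 : F) = 0) (h4 : ∀ x : F, x ≠ 0 → x ^ 3 = 1)
    (A : Matrix.SpecialLinearGroup (Fin 3) F) (h : A * tv = tv * A) :
    A * A * (A * A) ∈ Subgroup.center (Matrix.SpecialLinearGroup (Fin 3) F) := by
  obtain ⟨M, hMA⟩ : ∃ M : Matrix (Fin 3) (Fin 3) F, M = val A := ⟨_, rfl⟩
  have hM : M.det = 1 := by rw [hMA]; exact A.2
  have h1 : M * !![1, 0, 1; 0, 1, 0; 0, 0, 1] = !![1, 0, 1; 0, 1, 0; 0, 0, 1] * M := by
    have := congrArg val h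
    rwa [val_mul, val_mul, val_tv, ← hMA] at this
  have e02 := congrFun (congrFun h1 0) 2
  have e12 := congrFun (congrFun h1 1) 2
  have e22 := congrFun (congrFun h1 2) 2
  have e01 := congrFun (congrFun h1 0) 1
  simp [mul_apply, Fin.sum_univ_three] at e02 e12 e22 e01
  have e3 : M 0 0 = M 2 2 := by linear_combination e02
  rw [det_fin_three] at hM
  rw [e12, e22, e01] at hM
  simp only [mul_zero, zero_mul, sub_zero, add_zero] at hM
  have hne : M 2 2 ≠ 0 := by
    intro h0
    rw [h0] at hM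
    simp at hM
  have e4 : M 1 1 = M 2 2 := by
    have h5 := h4 _ hne
    rw [e3] at hM
    have h6 : M 2 2 ^ 2 * M 1 1 = M 2 2 ^ 2 * M 2 2 := by
      linear_combination hM - h5
    exact mul_left_cancel₀ (pow_ne_zero 2 hne) h6
  rw [mem_center]
  refine ⟨M 2 2 ^ 4, ?_, ?_⟩
  · rw [← pow_mul, mul_comm 4 3, pow_mul, h4 _ hne, one_pow]
  · have hMM : M * M = !![M 2 2 ^ 2, 0, M 0 1 * M 1 2; 0, M 2 2 ^ 2, 0; 0, 0, M 2 2 ^ 2] := by
      ext i j
      fin_cases i <;> fin_cases j <;> simp [mul_apply, Fin.sum_univ_three, e12, e22, e01, e3, e4] <;>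
        first | linear_combination (0 : F) * h2 | linear_combination (M 2 2 * M 0 1) * h2 | linear_combination (M 2 2 * M 1 2) * h2 | linear_combination (M 2 2 * M 0 2) * h2
    have h44 : M * M * (M * M) = scalar (Fin 3) (M 2 2 ^ 4) := by
      rw [hMM]
      ext i j
      fin_cases i <;> fin_cases j <;> simp [mul_apply, Fin.sum_univ_three] <;>
        first | linear_combination (0 : F) * h2 | linear_combination (M 2 2 ^ 2 * (M 0 1 * M 1 2)) * h2
    rw [← h44, hMA, val_mul, val_mul]

end Cfsg.Agent.H794.LThreeFour
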