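import Cfsg.Agent.H794.MonData
import Cfsg.Agent.H794.MonCube
import Cfsg.Agent.BpMon.Thirteen

/-!
# Lifting subgroups of `C(pi x)` to `C(x) ∩ C(z)` (helper794)

For a chart `pi : C(z) → Co1` and `x` of odd order and fixed rank 0: the subgroup `lft pi x V` of `C(x) ∩ C(z)` over a
subgroup `V` of `Co1`; `pow_mem` : exponents; `exists_mem` : surjectivity onto `V` when `V ≤ C(pi x)`.
-/

set_option autoImplicit false

namespace Cfsg.Agent.H794.MonLift

open Subgroup Cfsg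
open Cfsg.Agent.LThreeMB (fr)
open Cfsg.Agent.MonsterU Cfsg.Agent.MonsterU.Ch
open Cfsg.Agent.MonsterU.Lam2 (L2)
open Cfsg.Spor (Co1)

universe u

variable {G : Type u} [Group G] {Q : Subgroup G} {z : G} {eta : G → L2}
  {pi : centralizer ({z} : Set G) →* Co1}

/-- the subgroup of `C(x) ∩ C(z)` over `V` -/
def lft (pi : centralizer ({z} : Set G) →* Co1) (x : G) (V : Subgroup Co1) : Subgroup G :=
  (V.comap pi).map (centralizer ({z} : Set G)).subtype ⊓ centralizer ({x} : Set G)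

theorem mem_lft {x : G} {V : Subgroup Co1} {w : G} : w ∈ lft pi x V ↔
    (∃ c : centralizer ({z} : Set G), pi c ∈ V ∧ (c : G) = w) ∧ w * x = x * w := by
  unfold lft
  rw [mem_inf, mem_centralizer_singleton_iff]
  constructor
  · rintro ⟨⟨c, hc, rfl⟩, h⟩
    exact ⟨⟨c, hc, rfl⟩, h⟩
  · rintro ⟨⟨c, hc, rfl⟩, h⟩
    exact ⟨⟨c, hc, rfl⟩, h⟩

theorem lft_z {x : G} {V : Subgroup Co1} {w : G} (hw : w ∈ lft pi x V) : w * z = z * w := by
  obtain ⟨⟨c, -, rfl⟩, -⟩ := mem_lft.1 hw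
  exact mem_centralizer_singleton_iff.1 c.2

theorem lft_x {x : G} {V : Subgroup Co1} {w : G} (hw : w ∈ lft pi x V) : w * x = x * w := (mem_lft.1 hw).2

theorem mono {x : G} {V W : Subgroup Co1} (h : V ≤ W) : lft pi x V ≤ lft pi x W := by
  intro w hw
  obtain ⟨⟨c, hc, rfl⟩, h2⟩ := mem_lft.1 hw
  exact mem_lft.2 ⟨⟨c, h hc, rfl⟩, h2⟩

/-- elements over `1` -/
theorem eq_of_pi_one (h : Chart Q z eta pi) {p : ℕ} (ho : Odd p) {x : centralizer ({z} : Set G)} (hx : x ^ p = 1)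
    (hfr : fr (pi x) = 1) {c : centralizer ({z} : Set G)} (hc : pi c = 1) (hcx : (c : G) * x = x * c) :
    (c : G) = 1 ∨ (c : G) = z :=
  PreUniq.MonGen.free_of_fr h ho hx hfr ((h.pi_eq_one c).1 hc) hcx.symm

theorem pow_mem (h : Chart Q z eta pi) {p : ℕ} (ho : Odd p) {x : centralizer ({z} : Set G)} (hx : x ^ p = 1)
    (hfr : fr (pi x) = 1) {V : Subgroup Co1} {n : ℕ} (hV : ∀ v ∈ V, v ^ n = 1) {w : G} (hw : w ∈ lft pi x V) :
    w ^ n = 1 ∨ w ^ n = z := by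
  obtain ⟨⟨c, hc, rfl⟩, h2⟩ := mem_lft.1 hw
  have h3 : pi (c ^ n) = 1 := by rw [map_pow, hV _ hc]
  have h4 := eq_of_pi_one h ho hx hfr h3 (by
    rw [SubmonoidClass.coe_pow]
    exact ((show Commute (c : G) x from h2).pow_left n).eq)
  rwa [SubmonoidClass.coe_pow] at h4

/-- `lft` of a `2`-group is a `2`-group. -/
theorem isPGroup_lft (h : Chart Q z eta pi) {p : ℕ} (ho : Odd p) {x : centralizer ({z} : Set G)} (hx : x ^ p = 1)
    (hfr : fr (pi x) = 1) {V : Subgroup Co1} {n : ℕ} (hV : ∀ v ∈ V, v ^ 2 ^ n = 1) :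
    IsPGroup 2 ↥(lft pi (x : G) V) := by
  rintro ⟨w, hw⟩
  refine ⟨n + 1, Subtype.ext ?_⟩
  show w ^ 2 ^ (n + 1) = 1
  rw [pow_succ, pow_mul]
  rcases pow_mem h ho hx hfr hV hw with h1 | h1
  · rw [h1, one_pow]
  · rw [h1, pow_two, h.large.z_sq]

theorem z_mem (h : Chart Q z eta pi) {x : centralizer ({z} : Set G)} {V : Subgroup Co1} : z ∈ lft pi (x : G) V := by
  refine mem_lft.2 ⟨⟨⟨z, mem_centralizer_singleton_iff.2 rfl⟩, ?_, rfl⟩, ?_⟩
  · rw [(h.pi_eq_one _).2 h.large.z_mem]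
    exact one_mem _
  · exact (mem_centralizer_singleton_iff.1 x.2).symm

/-- Elements commuting with `pi x` lift. -/
theorem exists_mem (h : Chart Q z eta pi) {p : ℕ} (hp : p.Prime) (ho : Odd p) {x : centralizer ({z} : Set G)}
    (hx : x ^ p = 1) {V : Subgroup Co1} {s : Co1} (hs : s ∈ V) (hsx : s * pi x = pi x * s) :
    ∃ c : centralizer ({z} : Set G), pi c = s ∧ (c : G) ∈ lft pi (x : G) V := by
  obtain ⟨c, hc, rfl⟩ := MFive.exists_lift h hp ho hx hsx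
  exact ⟨c, rfl, mem_lft.2 ⟨⟨c, hs, rfl⟩, congrArg Subtype.val hc⟩⟩

end Cfsg.Agent.H794.MonLift
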