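import Cfsg.Agent.H794.MonSevenLoc

/-!
# Sylow 7-subgroups of order `7 ^ 6`: the subgroups `R`, `E` (helper794)

* `nrm`, `triv` : `Γ ∩ N(R)` and its subgroup of the elements trivial on `R / ⟨x⟩`;
* `Dat.odd`, `Dat.nor` : `O = (N ∩ Γ) triv` is normal of odd order in `Γ`; `Dat.exists_lift`;
* `Loc.exists_big`.
-/

set_option autoImplicit false
set_option linter.unusedSectionVars false

namespace Cfsg.Agent.H794.MonSevenBig

open Subgroup Cfsg Cfsg.Agent.H794.MonCore Cfsg.Agent.H794.MonSec Cfsg.Agent.H794.MonSevenLoc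

universe u

variable {G : Type u} [Group G] [Finite G]

/-- the elements of `Γ` normalising `R` -/
def nrm (x z : G) (R : Subgroup G) : Subgroup G := Ga x z ⊓ normalizer (R : Set G)

theorem mem_nrm {x z : G} {R : Subgroup G} {c : G} : c ∈ nrm x z R ↔ c ∈ Ga x z ∧ ∀ r ∈ R, c * r * c⁻¹ ∈ R := by
  rw [nrm, mem_inf]
  refine and_congr_right fun _ => ⟨fun h r hr => (mem_normalizer_iff.1 h r).1 hr, fun h =>
    Transfer.FusionBasic.mem_normalizer_of_conj_mem h⟩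

/-- the elements of `nrm x z R` trivial on `R / ⟨x⟩` -/
def triv (x z : G) (R : Subgroup G) : Subgroup G where
  carrier := {c | c ∈ nrm x z R ∧ ∀ r ∈ R, c * r * c⁻¹ * r⁻¹ ∈ zpowers x}
  one_mem' := ⟨one_mem _, fun r _ => by simp⟩
  mul_mem' := by
    rintro a b ⟨ha, ha'⟩ ⟨hb, hb'⟩
    refine ⟨mul_mem ha hb, fun r hr => ?_⟩
    have h1 := ha' _ ((mem_nrm.1 hb).2 r hr)
    have h2 := mul_mem h1 (hb' r hr)
    rwa [show a * (b * r * b⁻¹) * a⁻¹ * (b * r * b⁻¹)⁻¹ * (b * r * b⁻¹ * r⁻¹) = a * b * r * (a * b)⁻¹ * r⁻¹ by group]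
      at h2
  inv_mem' := by
    rintro a ⟨ha, ha'⟩
    refine ⟨inv_mem ha, fun r hr => ?_⟩
    have h1 := inv_mem (ha' _ ((mem_nrm.1 (inv_mem ha)).2 r hr))
    rwa [show (a * (a⁻¹ * r * a⁻¹⁻¹) * a⁻¹ * (a⁻¹ * r * a⁻¹⁻¹)⁻¹)⁻¹ = a⁻¹ * r * a⁻¹⁻¹ * r⁻¹ by group] at h1

theorem mem_triv {x z : G} {R : Subgroup G} {c : G} :
    c ∈ triv x z R ↔ c ∈ nrm x z R ∧ ∀ r ∈ R, c * r * c⁻¹ * r⁻¹ ∈ zpowers x := Iff.rfl

/-- The setting with `R ≠ ⟨x⟩`. -/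
structure Dat (x z : G) (N R : Subgroup G) : Prop where
  loc : Loc x z
  cfg : Cfg x z N
  syl : Syl 7 z N R
  ne : ∃ r ∈ R, r ∉ zpowers x

variable {x z : G} {N R : Subgroup G}

/-- `N ∩ Γ` -/
theorem Dat.odd_B (h : Dat x z N R) : Odd (Nat.card ↥(N ⊓ Ga x z)) :=
  h.cfg.odd.of_dvd_nat (Subgroup.card_dvd_of_le inf_le_left)

theorem Dat.nor_B (h : Dat x z N R) : ∀ c ∈ Ga x z, ∀ o ∈ N ⊓ Ga x z, c * o * c⁻¹ ∈ N ⊓ Ga x z := fun c hc o ho =>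
  mem_inf.2 ⟨h.cfg.nor c (mem_Ga.1 hc).1 o (mem_inf.1 ho).1, mul_mem (mul_mem hc (mem_inf.1 ho).2) (inv_mem hc)⟩

theorem Dat.x_mem_B (h : Dat x z N R) : x ∈ N ⊓ Ga x z := mem_inf.2 ⟨h.cfg.mem, h.loc.xGa⟩

theorem Dat.xR (h : Dat x z N R) : x ∈ R := h.cfg.mem_syl h.syl h.loc.xP

theorem Dat.Rx (h : Dat x z N R) {r : G} (hr : r ∈ R) : r * x = x * r := h.cfg.cx r (h.syl.le hr)

/-- `C_R(z) = ⟨x⟩` -/
theorem Dat.fixR (h : Dat x z N R) {r : G} (hr : r ∈ R) (hrz : r * z = z * r) : r ∈ zpowers x := by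
  obtain ⟨k, hk⟩ := h.syl.isP ⟨r, hr⟩
  exact h.loc.seven_mem h.odd_B inf_le_right h.nor_B h.x_mem_B
    (mem_inf.2 ⟨h.syl.le hr, mem_Ga.2 ⟨h.Rx hr, hrz⟩⟩) (congrArg Subtype.val hk)

theorem Dat.setup (h : Dat x z N R) : BpMon.Setup x z R where
  tt := by rw [← pow_two, ← h.loc.hz, pow_orderOf_eq_one]
  xc := fun a ha => h.Rx ha
  odd := h.cfg.odd.of_dvd_nat (Subgroup.card_dvd_of_le h.syl.le)
  tO := fun a ha => by
    have h1 := h.syl.inv a ha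
    rwa [inv_eq_of_mul_eq_one_left (show z * z = 1 by rw [← pow_two, ← h.loc.hz, pow_orderOf_eq_one])] at h1
  fix := fun a ha haz => h.fixR ha haz

theorem Dat.comm (h : Dat x z N R) {r s : G} (hr : r ∈ R) (hs : s ∈ R) : r * s * r⁻¹ * s⁻¹ ∈ zpowers x :=
  h.setup.comm_mod h.loc.zx hr hs

theorem Dat.z_notMem (h : Dat x z N R) : z ∉ triv x z R := by
  intro hz
  obtain ⟨r, hr, hrx⟩ := h.ne
  apply hrx
  have hzz : z * z = 1 := by rw [← pow_two, ← h.loc.hz, pow_orderOf_eq_one]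
  have h1 := (mem_triv.1 hz).2 r hr
  have h2 := h.setup.inv_mod h.loc.zx hr
  rw [BpMon.sig_eq_conj hzz] at h2
  have h3 : r * r ∈ zpowers x := by
    have h4 := mul_mem (inv_mem h1) h2
    rwa [show (z * r * z⁻¹ * r⁻¹)⁻¹ * (z * r * z⁻¹ * r) = r * r by
      rw [mul_inv_rev, inv_inv, mul_assoc, inv_mul_cancel_left]] at h4
  have ho := h.setup.odd_order hr
  obtain ⟨m, hm⟩ := ho
  have h5 : (r * r) ^ (m + 1) = r := by
    rw [← pow_two, ← pow_mul, show 2 * (m + 1) = 2 * m + 1 + 1 by ring, ← hm, pow_succ, pow_orderOf_eq_one, one_mul]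
  rw [← h5]
  exact pow_mem h3 _

theorem Dat.odd_triv (h : Dat x z N R) : Odd (Nat.card ↥(triv x z R)) := by
  rw [← Nat.not_even_iff_odd]
  intro he
  have h2 : Fact (Nat.Prime 2) := ⟨Nat.prime_two⟩
  obtain ⟨u, hu⟩ := exists_prime_orderOf_dvd_card' 2 he.two_dvd
  rw [← Subgroup.orderOf_coe] at hu
  have huG := (mem_nrm.1 (mem_triv.1 u.2).1).1
  have huu : (u : G) * u = 1 := by rw [← pow_two, ← hu, pow_orderOf_eq_one]
  rcases h.loc.only u (mem_Ga.1 huG).1 (mem_Ga.1 huG).2 huu with h3 | h3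
  · rw [h3, orderOf_one] at hu
    norm_num at hu
  · have h4 : (u : G) ∈ triv x z R := u.2
    rw [h3] at h4
    exact h.z_notMem h4

theorem nor_triv {k a : G} (hk : k ∈ nrm x z R) (ha : a ∈ triv x z R) : k * a * k⁻¹ ∈ triv x z R := by
  obtain ⟨ha1, ha2⟩ := mem_triv.1 ha
  refine mem_triv.2 ⟨mul_mem (mul_mem hk ha1) (inv_mem hk), fun r hr => ?_⟩
  have h1 := ha2 _ ((mem_nrm.1 (inv_mem hk)).2 r hr)
  have h2 := conj_zpowers_of_comm (mem_Ga.1 (mem_nrm.1 hk).1).1 h1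
  rw [← h2] at h1
  rwa [show k * (a * (k⁻¹ * r * k⁻¹⁻¹) * a⁻¹ * (k⁻¹ * r * k⁻¹⁻¹)⁻¹) * k⁻¹ = k * a * k⁻¹ * r * (k * a * k⁻¹)⁻¹ * r⁻¹ by
    group] at h1

/-- `O = (N ∩ Γ) triv` -/
def OO (x z : G) (N R : Subgroup G) : Subgroup G := (N ⊓ Ga x z) ⊔ triv x z R

theorem Dat.odd (h : Dat x z N R) : Odd (Nat.card ↥(OO x z N R)) := by
  have h1 := H278.ThompsonSurj.card_sup_mul (K := N ⊓ Ga x z) (H := triv x z R) (fun a ha =>
    Transfer.FusionBasic.mem_normalizer_of_conj_mem (h.nor_B a (mem_nrm.1 (mem_triv.1 ha).1).1))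
  have h2 : Odd (Nat.card ↥(N ⊓ Ga x z) * Nat.card ↥(triv x z R)) := h.odd_B.mul h.odd_triv
  rw [← h1] at h2
  exact (Nat.odd_mul.1 h2).1

theorem Dat.OG (_h : Dat x z N R) : OO x z N R ≤ Ga x z :=
  sup_le inf_le_right fun _ ha => (mem_nrm.1 (mem_triv.1 ha).1).1

theorem Dat.nor (h : Dat x z N R) : ∀ c ∈ Ga x z, ∀ o ∈ OO x z N R, c * o * c⁻¹ ∈ OO x z N R := by
  intro c hc o ho
  obtain ⟨b, hb, hbz, k, hkx, hkz, hkR, rfl⟩ := h.cfg.exists_fac h.loc.hz h.loc.zx h.syl (mem_Ga.1 hc).1 (mem_Ga.1 hc).2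
  have hk : k ∈ nrm x z R := mem_nrm.2 ⟨mem_Ga.2 ⟨hkx, hkz⟩, hkR⟩
  have hbO : b ∈ OO x z N R := mem_sup_left (mem_inf.2 ⟨hb, mem_Ga.2 ⟨h.cfg.cx b hb, hbz⟩⟩)
  have h1 : (OO x z N R).map (MulAut.conj k).toMonoidHom ≤ OO x z N R := by
    rw [OO, Subgroup.map_sup]
    refine sup_le ?_ ?_
    · rintro _ ⟨a, ha, rfl⟩
      exact mem_sup_left (h.nor_B k (mem_nrm.1 hk).1 a ha)
    · rintro _ ⟨a, ha, rfl⟩
      exact mem_sup_right (nor_triv hk ha)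
  have h2 : k * o * k⁻¹ ∈ OO x z N R := h1 ⟨o, ho, rfl⟩
  have h3 := mul_mem (mul_mem hbO h2) (inv_mem hbO)
  rwa [show b * (k * o * k⁻¹) * b⁻¹ = b * k * o * (b * k)⁻¹ by group] at h3

/-- elements of prime order of `Γ` outside `O` lift to `q`-elements of `nrm` outside `O` -/
theorem Dat.exists_lift (h : Dat x z N R) {q : ℕ} (hq : q.Prime) {w : G} (hw : w ∈ Ga x z) (hwO : w ∉ OO x z N R)
    (hwq : w ^ q = 1) : ∃ k ∈ nrm x z R, k ∉ OO x z N R ∧ ∃ f : ℕ, k ^ q ^ f = 1 := by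
  obtain ⟨b, hb, hbz, k, hkx, hkz, hkR, hwe⟩ :=
    h.cfg.exists_fac h.loc.hz h.loc.zx h.syl (mem_Ga.1 hw).1 (mem_Ga.1 hw).2
  have hk : k ∈ nrm x z R := mem_nrm.2 ⟨mem_Ga.2 ⟨hkx, hkz⟩, hkR⟩
  have hbB : b ∈ N ⊓ Ga x z := mem_inf.2 ⟨hb, mem_Ga.2 ⟨h.cfg.cx b hb, hbz⟩⟩
  have hkO : k ∉ OO x z N R := fun h1 => hwO (by rw [hwe]; exact mul_mem (mem_sup_left hbB) h1)
  have key : ∀ n : ℕ, ∃ b' ∈ N ⊓ Ga x z, w ^ n = b' * k ^ n := by
    intro n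
    induction n with
    | zero => exact ⟨1, one_mem _, by simp⟩
    | succ n ih =>
      obtain ⟨b', hb', e⟩ := ih
      refine ⟨b' * (k ^ n * b * (k ^ n)⁻¹), mul_mem hb' (h.nor_B _ (pow_mem (mem_nrm.1 hk).1 n) b hbB), ?_⟩
      rw [pow_succ, e, hwe, pow_succ]
      group
  obtain ⟨b', hb', e⟩ := key q
  rw [hwq] at e
  have hkq : k ^ q ∈ OO x z N R := by
    rw [show k ^ q = b'⁻¹ * (b' * k ^ q) by group, ← e, mul_one]
    exact inv_mem (mem_sup_left hb')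
  obtain ⟨f, m, hm, hfm⟩ := Nat.exists_eq_pow_mul_and_not_dvd (n := orderOf k) (orderOf_pos k).ne' q hq.ne_one
  refine ⟨k ^ m, pow_mem hk m, fun h1 => hkO ?_, f, ?_⟩
  · have hcop : Nat.Coprime m q := ((Nat.Prime.coprime_iff_not_dvd hq).2 hm).symm
    have h2 : (Nat.gcd m q : ℤ) = m * Nat.gcdA m q + q * Nat.gcdB m q := Nat.gcd_eq_gcd_ab m q
    rw [hcop] at h2
    have h3 : k = (k ^ m) ^ (Nat.gcdA m q) * (k ^ q) ^ (Nat.gcdB m q) := by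
      rw [← zpow_natCast k m, ← zpow_natCast k q, ← zpow_mul, ← zpow_mul, ← zpow_add, ← h2]
      simp
    rw [h3]
    exact mul_mem (zpow_mem h1 _) (zpow_mem hkq _)
  · rw [← pow_mul, mul_comm, ← hfm, pow_orderOf_eq_one]

/-- The subgroups `R` of order `7 ^ 5`, `E` of order `7 ^ 2` and the element `k` of order a power of 5. -/
structure Big (x z : G) (R E : Subgroup G) (k : G) : Prop where
  RP : IsPGroup 7 ↥R
  xR : x ∈ R
  Rx : ∀ r ∈ R, r * x = x * r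
  comm : ∀ r ∈ R, ∀ s ∈ R, r * s * r⁻¹ * s⁻¹ ∈ zpowers x
  cardR : Nat.card ↥R = 7 ^ 5
  fixR : ∀ r ∈ R, r * z = z * r → r ∈ zpowers x
  EP : IsPGroup 7 ↥E
  xE : x ∈ E
  EG : E ≤ Ga x z
  cardE : Nat.card ↥E = 7 ^ 2
  ER : ∀ e ∈ E, ∀ r ∈ R, e * r * e⁻¹ ∈ R
  Etriv : ∀ e ∈ E, (∀ r ∈ R, e * r * e⁻¹ * r⁻¹ ∈ zpowers x) → e ∈ zpowers x
  kf : ∃ f : ℕ, k ^ 5 ^ f = 1
  kx : k * x = x * k
  kR : ∀ r ∈ R, k * r * k⁻¹ ∈ R
  kn : ∃ r ∈ R, k * r * k⁻¹ ≠ r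

theorem card_zx (h : Loc x z) : Nat.card ↥(zpowers x) = 7 := by rw [Nat.card_zpowers, h.hx]

theorem Dat.exists_five (h : Dat x z N R) : ∃ k ∈ nrm x z R, k ∉ OO x z N R ∧ ∃ f : ℕ, k ^ 5 ^ f = 1 := by
  obtain ⟨f, v, hf5, hv7, hf, hv, hev⟩ := h.loc.fv
  obtain ⟨h1, h2⟩ := notMem_of_even h.odd h.nor hf hv hev
  exact h.exists_lift Nat.prime_five hf h1 hf5

theorem Dat.exists_seven (h : Dat x z N R) : ∃ k ∈ nrm x z R, k ∉ OO x z N R ∧ ∃ f : ℕ, k ^ 7 ^ f = 1 := by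
  obtain ⟨f, v, hf5, hv7, hf, hv, hev⟩ := h.loc.fv
  obtain ⟨h1, h2⟩ := notMem_of_even h.odd h.nor hf hv hev
  exact h.exists_lift (by norm_num) hv h2 hv7

theorem five_ndvd : ∀ i, 1 ≤ i → i ≤ 3 → ¬ 5 ∣ 7 ^ i - 1 := by
  intro i h1 h2
  interval_cases i <;> norm_num

/-- `7 ^ 5` divides `|R|`. -/
theorem Dat.card_R (h : Dat x z N R) : 7 ^ 5 ∣ Nat.card ↥R := by
  have h7 := prime_seven
  have h5 := prime_five
  obtain ⟨k, hk, hkO, f, hkf⟩ := h.exists_five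
  obtain ⟨a, ha⟩ := IsPGroup.iff_card.1 h.syl.isP
  rw [ha]
  apply pow_dvd_pow
  by_contra hlt
  apply hkO
  refine mem_sup_right (mem_triv.2 ⟨hk, ?_⟩)
  exact sec_trivial (p := 7) (q := 5) (m := 3) (by norm_num) five_ndvd h.syl.isP (zpowers_le.2 h.xR)
    (by rw [ha, card_zx h.loc, ← pow_succ]; exact pow_dvd_pow 7 (by omega))
    (fun b hb a ha => by rw [conj_zpowers_of_comm (h.Rx hb) ha]; exact ha) hkf
    (fun a ha => by rw [conj_zpowers_of_comm (mem_Ga.1 (mem_nrm.1 hk).1).1 ha]; exact ha) (mem_nrm.1 hk).2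

theorem Dat.exists_big (h : Dat x z N R) (h7 : ¬ 7 ^ 7 ∣ Nat.card G) : ∃ E k, Big x z R E k := by
  have hf7 := prime_seven
  obtain ⟨k, hk, hkO, f, hkf⟩ := h.exists_five
  obtain ⟨l, hl, hlO, g, hlg⟩ := h.exists_seven
  have hlx := (mem_Ga.1 (mem_nrm.1 hl).1).1
  have hEP : IsPGroup 7 ↥(zpowers x ⊔ zpowers l) := isPGroup_two hlx h.loc.xP (isPGroup_zpowers hlg)
  have hxE : x ∈ zpowers x ⊔ zpowers l := mem_sup_left (mem_zpowers x)
  have hxn : x ∈ nrm x z R := mem_nrm.2 ⟨h.loc.xGa, fun r hr => mul_mem (mul_mem h.xR hr) (inv_mem h.xR)⟩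
  have hEn : zpowers x ⊔ zpowers l ≤ nrm x z R := sup_le (zpowers_le.2 hxn) (zpowers_le.2 hl)
  have hEG : zpowers x ⊔ zpowers l ≤ Ga x z := hEn.trans inf_le_left
  have hxO : x ∈ OO x z N R := mem_sup_left h.x_mem_B
  have hlx' : l ∉ zpowers x := fun h1 => hlO ((zpowers_le.2 hxO) h1)
  have hcE : Nat.card ↥(zpowers x ⊔ zpowers l) = 7 ^ 2 :=
    card_eq_pow hEG hEP (sq_dvd_of_notMem hEP h.loc.hx hxE (mem_sup_right (mem_zpowers l)) hlx') h.loc.cGa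
  -- `R ∩ E = ⟨x⟩`
  have hinf : R ⊓ (zpowers x ⊔ zpowers l) = zpowers x := by
    refine le_antisymm (fun r hr => ?_) (le_inf (zpowers_le.2 h.xR) le_sup_left)
    exact h.fixR (mem_inf.1 hr).1 (mem_Ga.1 (hEG (mem_inf.1 hr).2)).2
  have hER : zpowers x ⊔ zpowers l ≤ normalizer (R : Set G) := hEn.trans inf_le_right
  have hcard := H278.ThompsonSurj.card_sup_mul (K := R) (H := zpowers x ⊔ zpowers l) hER
  rw [hinf, card_zx h.loc, hcE] at hcard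
  have hRc := h.card_R
  obtain ⟨a, ha⟩ := IsPGroup.iff_card.1 h.syl.isP
  have hcR : Nat.card ↥R = 7 ^ 5 := by
    have h1 : 5 ≤ a := by
      rw [ha] at hRc
      exact (Nat.pow_dvd_pow_iff_le_right (by norm_num : 1 < 7)).1 hRc
    have h2 : a ≤ 5 := by
      by_contra hlt
      apply h7
      have h3 : Nat.card ↥(R ⊔ (zpowers x ⊔ zpowers l)) = 7 ^ (a + 1) := by
        rw [ha] at hcard
        have h4 : Nat.card ↥(R ⊔ (zpowers x ⊔ zpowers l)) * 7 = 7 ^ (a + 1) * 7 := by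
          rw [hcard]; ring
        exact Nat.eq_of_mul_eq_mul_right (by norm_num) h4
      exact (pow_dvd_pow 7 (by omega)).trans (h3 ▸ Subgroup.card_subgroup_dvd_card _)
    rw [ha, le_antisymm h2 h1]
  refine ⟨zpowers x ⊔ zpowers l, k, ?_⟩
  exact
    { RP := h.syl.isP
      xR := h.xR
      Rx := fun r hr => h.Rx hr
      comm := fun r hr s hs => h.comm hr hs
      cardR := hcR
      fixR := fun r hr hrz => h.fixR hr hrz
      EP := hEP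
      xE := hxE
      EG := hEG
      cardE := hcE
      ER := fun e he r hr => (mem_nrm.1 (hEn he)).2 r hr
      Etriv := fun e he htr => by
        obtain ⟨j, hj⟩ := hEP ⟨e, he⟩
        exact h.loc.seven_mem h.odd h.OG h.nor hxO (mem_sup_right (mem_triv.2 ⟨hEn he, htr⟩)) (congrArg Subtype.val hj)
      kf := ⟨f, hkf⟩
      kx := (mem_Ga.1 (mem_nrm.1 hk).1).1
      kR := (mem_nrm.1 hk).2
      kn := by
        by_contra hcon
        push Not at hcon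
        apply hkO
        refine mem_sup_right (mem_triv.2 ⟨hk, fun r hr => ?_⟩)
        rw [hcon r hr, mul_inv_cancel]
        exact one_mem _ }

/-- **The subgroups `R` and `E`.** -/
theorem exists_big_of (h : Loc x z) (h7 : ¬ 7 ^ 7 ∣ Nat.card G)
    (h3 : 7 ^ 3 ∣ Nat.card ↥(centralizer ({x} : Set G))) : ∃ R E k, Big x z R E k := by
  have hf7 := prime_seven
  have hxo : Odd (orderOf x) := by rw [h.hx]; decide
  obtain ⟨N, hN⟩ := exists_cfg h.hz hxo h.zx h.only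
  obtain ⟨R, hR⟩ := hN.exists_sylow h.hz h.zx 7
  have hxR := hN.mem_syl hR h.xP
  have hne : ∃ r ∈ R, r ∉ zpowers x := by
    by_contra hcon
    push Not at hcon
    have hRx : R = zpowers x := le_antisymm hcon (zpowers_le.2 hxR)
    have h1 : ¬ 7 ^ (1 + 1) ∣ Nat.card ↥N := fun h1 => by
      have h2 := hR.dvd 2 h1
      rw [hRx, card_zx h] at h2
      norm_num at h2
    have h2 := not_pow_dvd_mul (by norm_num : Nat.Prime 7) Nat.card_pos.ne' Nat.card_pos.ne' h1 h.cGa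
    apply h2
    rw [Ga, ← hN.card_cent]
    have h4 : 7 ∣ Nat.card ↥(N ⊓ (centralizer ({x} : Set G) ⊓ centralizer ({z} : Set G))) := by
      rw [← card_zx h]
      exact Subgroup.card_dvd_of_le (zpowers_le.2 (mem_inf.2 ⟨hN.mem, h.xGa⟩))
    exact Nat.mul_dvd_mul h3 h4
  obtain ⟨E, k, hb⟩ := (Dat.mk h hN hR hne).exists_big h7
  exact ⟨R, E, k, hb⟩

end Cfsg.Agent.H794.MonSevenBig
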