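import Cfsg.Agent.H794.MonSevenBig
import Cfsg.Agent.H794.PslTwo

/-!
# Sylow 7-subgroups of order `7 ^ 6`: strongly closed subgroups (helper794)

`Hyp.full` : `Full 7 G`.
-/

set_option autoImplicit false
set_option linter.unusedSectionVars false

namespace Cfsg.Agent.H794.MonSevenBig

open Subgroup Cfsg Cfsg.Agent.H794.MonCore Cfsg.Agent.H794.MonSec Cfsg.Agent.H794.MonSevenLoc

universe u

variable {G : Type u} [Group G] [Finite G] {x z k : G} {R E : Subgroup G}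

/-- Centre of a group: closure under commuting generators. -/
theorem comm_sup {A : Subgroup G} {y : G} (hA : ∀ a ∈ A, ∀ b ∈ A, a * b = b * a) (hy : ∀ a ∈ A, a * y = y * a) :
    ∀ u ∈ A ⊔ zpowers y, ∀ v ∈ A ⊔ zpowers y, u * v = v * u := by
  have h1 : A ⊔ zpowers y ≤ centralizer (A : Set G) := by
    refine sup_le (fun u hu => mem_centralizer_iff.2 fun v hv => hA v hv u hu) (zpowers_le.2 ?_)
    exact mem_centralizer_iff.2 fun v hv => hy v hv
  have h3 : A ⊔ zpowers y ≤ centralizer ({y} : Set G) :=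
    sup_le (fun u hu => mem_centralizer_singleton_iff.2 (hy u hu)) (zpowers_le.2 (mem_centralizer_singleton_iff.2 rfl))
  have h2 : A ⊔ zpowers y ≤ centralizer ((A ⊔ zpowers y : Subgroup G) : Set G) := by
    refine sup_le (fun u hu => mem_centralizer_iff.2 fun v hv => ?_) (zpowers_le.2 ?_)
    · exact ((mem_centralizer_iff.1 (h1 hv)) u hu).symm
    · exact mem_centralizer_iff.2 fun v hv => mem_centralizer_singleton_iff.1 (h3 hv)
  exact fun u hu v hv => (mem_centralizer_iff.1 (h2 hv)) u hu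

/-- **Irreducibility.** -/
theorem Big.irr (h : Big x z R E k) (hL : Loc x z) {W : Subgroup G} (hxW : x ∈ W) (hWR : W ≤ R)
    (hk : ∀ w ∈ W, k * w * k⁻¹ ∈ W) : W = zpowers x ∨ W = R := by
  have h7 := prime_seven
  have h5 := prime_five
  obtain ⟨f, hkf⟩ := h.kf
  have hWP : IsPGroup 7 ↥W := h.RP.to_le hWR
  obtain ⟨j, hj⟩ := IsPGroup.iff_card.1 hWP
  by_cases hj1 : j ≤ 1
  · left
    refine (Subgroup.eq_of_le_of_card_ge (zpowers_le.2 hxW) ?_).symm
    rw [hj, card_zx hL]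
    calc 7 ^ j ≤ 7 ^ 1 := Nat.pow_le_pow_right (by norm_num) hj1
      _ = 7 := pow_one 7
  by_cases hj5 : 5 ≤ j
  · right
    refine Subgroup.eq_of_le_of_card_ge hWR ?_
    rw [hj, h.cardR]
    exact Nat.pow_le_pow_right (by norm_num) hj5
  exfalso
  have hzW : ∀ c : G, c * x = x * c → ∀ a ∈ zpowers x, c * a * c⁻¹ ∈ zpowers x := fun c hc a ha => by
    rw [conj_zpowers_of_comm hc ha]; exact ha
  have hRW : ∀ b ∈ R, ∀ a ∈ W, b * a * b⁻¹ ∈ W := fun b hb a ha => by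
    have h1 := mul_mem ((zpowers_le.2 hxW) (h.comm b hb a (hWR ha))) ha
    rwa [inv_mul_cancel_right] at h1
  have hcop : (5 ^ f).Coprime 7 := Nat.Coprime.pow_left f (by norm_num)
  -- `k` is trivial on `W`
  have h1 := sec_trivial (p := 7) (q := 5) (m := 3) (by norm_num) five_ndvd hWP (zpowers_le.2 hxW)
    (by rw [hj, card_zx hL, ← pow_succ]; exact pow_dvd_pow 7 (by omega))
    (fun b hb a ha => hzW b (h.Rx b (hWR hb)) a ha) hkf (hzW k h.kx) hk
  have h2 := cent_of_chain (A := zpowers x) (B := W) hWP hkf hcop (fun a ha => conj_zpowers_of_comm h.kx ha)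
    (zpowers_le.2 hxW) h1
  have h3 := sec_trivial (p := 7) (q := 5) (m := 3) (by norm_num) five_ndvd h.RP hWR
    (by rw [hj, h.cardR, ← pow_add]; exact pow_dvd_pow 7 (by omega)) hRW hkf hk h.kR
  have h4 := cent_of_chain (A := W) (B := R) h.RP hkf hcop h2 hWR h3
  obtain ⟨r, hr, hne⟩ := h.kn
  exact hne (h4 r hr)

/-- `R ∩ E = ⟨x⟩` -/
theorem Big.inf_eq (h : Big x z R E k) : R ⊓ E = zpowers x := by
  refine le_antisymm (fun r hr => ?_) (le_inf (zpowers_le.2 h.xR) (zpowers_le.2 h.xE))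
  exact h.fixR r (mem_inf.1 hr).1 (mem_Ga.1 (h.EG (mem_inf.1 hr).2)).2

theorem Big.E_le (h : Big x z R E k) : E ≤ normalizer (R : Set G) := fun e he =>
  Transfer.FusionBasic.mem_normalizer_of_conj_mem (h.ER e he)

theorem Big.card_S (h : Big x z R E k) (hL : Loc x z) : Nat.card ↥(R ⊔ E) = 7 ^ 6 := by
  have hcard := H278.ThompsonSurj.card_sup_mul (K := R) (H := E) h.E_le
  rw [h.inf_eq, card_zx hL, h.cardR, h.cardE] at hcard
  have h4 : Nat.card ↥(R ⊔ E) * 7 = 7 ^ 6 * 7 := by rw [hcard]; norm_num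
  exact Nat.eq_of_mul_eq_mul_right (by norm_num) h4

theorem Big.SR (h : Big x z R E k) {s : G} (hs : s ∈ R ⊔ E) {r : G} (hr : r ∈ R) : s * r * s⁻¹ ∈ R := by
  have h1 : R ⊔ E ≤ normalizer (R : Set G) := sup_le le_normalizer h.E_le
  exact (mem_normalizer_iff.1 (h1 hs) r).1 hr

theorem Big.Sx (h : Big x z R E k) {s : G} (hs : s ∈ R ⊔ E) : s * x = x * s := by
  have h1 : R ⊔ E ≤ centralizer ({x} : Set G) := sup_le (fun r hr => mem_centralizer_singleton_iff.2 (h.Rx r hr))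
    (fun e he => mem_centralizer_singleton_iff.2 (mem_Ga.1 (h.EG he)).1)
  exact mem_centralizer_singleton_iff.1 (h1 hs)

/-- elements of `R E` are products -/
theorem exists_mul_of_norm {R E : Subgroup G} (hn : ∀ e ∈ E, ∀ r ∈ R, e * r * e⁻¹ ∈ R) {s : G} (hs : s ∈ R ⊔ E) :
    ∃ r ∈ R, ∃ e ∈ E, s = r * e := by
  let T : Subgroup G :=
    { carrier := {s | ∃ r ∈ R, ∃ e ∈ E, s = r * e}
      one_mem' := ⟨1, one_mem _, 1, one_mem _, (mul_one 1).symm⟩
      mul_mem' := by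
        rintro _ _ ⟨r, hr, e, he, rfl⟩ ⟨r', hr', e', he', rfl⟩
        exact ⟨r * (e * r' * e⁻¹), mul_mem hr (hn e he r' hr'), e * e', mul_mem he he', by group⟩
      inv_mem' := by
        rintro _ ⟨r, hr, e, he, rfl⟩
        exact ⟨e⁻¹ * r⁻¹ * e⁻¹⁻¹, hn _ (inv_mem he) _ (inv_mem hr), e⁻¹, inv_mem he, by group⟩ }
  have h1 : R ⊔ E ≤ T := sup_le (fun r hr => ⟨r, hr, 1, one_mem _, (mul_one r).symm⟩)
    (fun e he => ⟨1, one_mem _, e, he, (one_mul e).symm⟩)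
  exact h1 hs

/-- a conjugate of `x` in `E` outside `⟨x⟩` -/
theorem Big.exists_conj (h : Big x z R E k) (hL : Loc x z) : ∃ g : G, g * x * g⁻¹ ∈ E ∧ g * x * g⁻¹ ∉ zpowers x := by
  have h7 := prime_seven
  obtain ⟨g, hg, hgx⟩ := hL.cj
  have hP : IsPGroup 7 ↥(zpowers (g * x * g⁻¹)) := isPGroup_zpowers (k := 1) (by
    rw [pow_one, conj_pow, ← hL.hx, pow_orderOf_eq_one, mul_one, mul_inv_cancel])
  obtain ⟨d, hd, hdv⟩ := exists_conj_le (D := Ga x z) (k := 2) h.EG h.EP (by rw [h.cardE]) hL.cGa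
    (Q := zpowers (g * x * g⁻¹)) (zpowers_le.2 hg) hP
  have h1 := hdv _ (mem_zpowers _)
  refine ⟨d * g, by rwa [show d * g * x * (d * g)⁻¹ = d * (g * x * g⁻¹) * d⁻¹ by group], fun h2 => hgx ?_⟩
  have h3 := conj_zpowers_of_comm (mem_Ga.1 (inv_mem hd)).1 h2
  rw [show d⁻¹ * (d * g * x * (d * g)⁻¹) * d⁻¹⁻¹ = g * x * g⁻¹ by group] at h3
  rw [h3]
  exact h2

/-- `S = R E` is a 7-group. -/
theorem Big.SP (h : Big x z R E k) (hL : Loc x z) : IsPGroup 7 ↥(R ⊔ E) := IsPGroup.of_card (h.card_S hL)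

/-- An element with a small centralizer and a nonabelian 7-subgroup in it. -/
def Sm (r : G) (A : Subgroup G) : Prop :=
  IsPGroup 7 ↥A ∧ r ∈ A ∧ (∀ a ∈ A, a * r = r * a) ∧ (∃ a ∈ A, ∃ b ∈ A, a * b ≠ b * a) ∧
    ¬ 7 ^ 5 ∣ Nat.card ↥(centralizer ({r} : Set G))

/-- `R` is not abelian. -/
theorem Big.not_comm (h : Big x z R E k) (hL : Loc x z) (h7 : ¬ 7 ^ 7 ∣ Nat.card G) {r : G} {A : Subgroup G}
    (hr : Sm r A) : ¬ ∀ a ∈ R, ∀ b ∈ R, a * b = b * a := by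
  intro hab
  have hf7 := prime_seven
  obtain ⟨hAP, hrA, hAr, ⟨a, ha, b, hb, hne⟩, hcr⟩ := hr
  obtain ⟨g, -, hg⟩ := exists_conj_le (D := (⊤ : Subgroup G)) (k := 6) le_top (h.SP hL) (by rw [h.card_S hL])
    (by rw [Subgroup.card_top]; exact h7) (Q := A) le_top hAP
  -- `g r g⁻¹` is not in `R`
  have hr1 : g * r * g⁻¹ ∉ R := by
    intro h1
    apply hcr
    have h2 : R.map (MulAut.conj g⁻¹).toMonoidHom ≤ centralizer ({r} : Set G) := by
      rintro _ ⟨s, hs, rfl⟩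
      rw [mem_centralizer_singleton_iff]
      show g⁻¹ * s * g⁻¹⁻¹ * r = r * (g⁻¹ * s * g⁻¹⁻¹)
      have h3 := hab s hs _ h1
      calc g⁻¹ * s * g⁻¹⁻¹ * r = g⁻¹ * (s * (g * r * g⁻¹)) * g := by group
        _ = g⁻¹ * ((g * r * g⁻¹) * s) * g := by rw [h3]
        _ = r * (g⁻¹ * s * g⁻¹⁻¹) := by group
    refine Dvd.dvd.trans ?_ (Subgroup.card_dvd_of_le h2)
    rw [Subgroup.card_map_of_injective (MulAut.conj g⁻¹).injective, h.cardR]
  -- `S = R ⟨g r g⁻¹⟩`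
  have hrS : g * r * g⁻¹ ∈ R ⊔ E := hg r hrA
  have hS : R ⊔ zpowers (g * r * g⁻¹) = R ⊔ E := by
    have hle : R ⊔ zpowers (g * r * g⁻¹) ≤ R ⊔ E := sup_le le_sup_left (zpowers_le.2 hrS)
    refine Subgroup.eq_of_le_of_card_ge hle ?_
    obtain ⟨n, hn⟩ := IsPGroup.iff_card.1 ((h.SP hL).to_le hle)
    rw [h.card_S hL, hn]
    refine Nat.pow_le_pow_right (by norm_num) ?_
    by_contra hlt
    apply hr1
    have h1 : R = R ⊔ zpowers (g * r * g⁻¹) := by
      refine Subgroup.eq_of_le_of_card_ge le_sup_left ?_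
      rw [hn, h.cardR]
      exact Nat.pow_le_pow_right (by norm_num) (by omega)
    rw [h1]
    exact mem_sup_right (mem_zpowers _)
  have hdec : ∀ c ∈ A, ∃ ρ ∈ R, ∃ i : ℤ, g * c * g⁻¹ = ρ * (g * r * g⁻¹) ^ i ∧ ρ * (g * r * g⁻¹) = (g * r * g⁻¹) * ρ := by
    intro c hc
    have h1 := hg c hc
    rw [← hS] at h1
    obtain ⟨ρ, hρ, e, he, hce⟩ := exists_mul_of_norm (R := R) (E := zpowers (g * r * g⁻¹)) (by
      intro e he s hs
      exact h.SR ((zpowers_le.2 hrS) he) hs) h1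
    obtain ⟨i, rfl⟩ := mem_zpowers_iff.1 he
    refine ⟨ρ, hρ, i, hce, ?_⟩
    have h2 : ρ = g * c * g⁻¹ * ((g * r * g⁻¹) ^ i)⁻¹ := by rw [hce, mul_inv_cancel_right]
    have h3 : Commute (g * c * g⁻¹) (g * r * g⁻¹) := by
      show g * c * g⁻¹ * (g * r * g⁻¹) = g * r * g⁻¹ * (g * c * g⁻¹)
      calc g * c * g⁻¹ * (g * r * g⁻¹) = g * (c * r) * g⁻¹ := by group
        _ = g * (r * c) * g⁻¹ := by rw [hAr c hc]
        _ = _ := by group
    have h4 : Commute (((g * r * g⁻¹) ^ i)⁻¹) (g * r * g⁻¹) := (Commute.zpow_self (g * r * g⁻¹) i).inv_left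
    rw [h2]
    exact (h3.mul_left h4).eq
  obtain ⟨ρ, hρ, i, hae, hρr⟩ := hdec a ha
  obtain ⟨σ, hσ, j, hbe, hσr⟩ := hdec b hb
  have h1 : Commute ρ σ := hab ρ hρ σ hσ
  have h2 : Commute ρ ((g * r * g⁻¹) ^ j) := (show Commute ρ (g * r * g⁻¹) from hρr).zpow_right j
  have h3 : Commute σ ((g * r * g⁻¹) ^ i) := (show Commute σ (g * r * g⁻¹) from hσr).zpow_right i
  have h4 : Commute ((g * r * g⁻¹) ^ i) ((g * r * g⁻¹) ^ j) := Commute.zpow_zpow_self _ i j
  have h5 : Commute (g * a * g⁻¹) (g * b * g⁻¹) := by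
    rw [hae, hbe]
    exact (h1.mul_right h2).mul_left (h3.symm.mul_right h4)
  apply hne
  have h6 : g * (a * b) * g⁻¹ = g * (b * a) * g⁻¹ := by
    calc g * (a * b) * g⁻¹ = (g * a * g⁻¹) * (g * b * g⁻¹) := by group
      _ = (g * b * g⁻¹) * (g * a * g⁻¹) := h5
      _ = _ := by group
  exact mul_left_cancel (mul_right_cancel h6)

/-- **Strongly closed subgroups of `S`.** -/
theorem Big.closed (h : Big x z R E k) (hL : Loc x z) (h7 : ¬ 7 ^ 7 ∣ Nat.card G) {r : G} {A : Subgroup G}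
    (hr : Sm r A) {T : Subgroup G} (hTS : T ≤ R ⊔ E)
    (hcl : ∀ n : G, ∀ a ∈ T, n * a * n⁻¹ ∈ R ⊔ E → n * a * n⁻¹ ∈ T) : T = ⊥ ∨ T = R ⊔ E := by
  have hf7 := prime_seven
  by_cases hT : T = ⊥
  · exact Or.inl hT
  right
  obtain ⟨g, hgE, hgx⟩ := h.exists_conj hL
  have hgS : g * x * g⁻¹ ∈ R ⊔ E := mem_sup_right hgE
  have hRS : R ≤ R ⊔ E := le_sup_left
  have hST : ∀ s ∈ R ⊔ E, ∀ t ∈ T, s * t * s⁻¹ ∈ T := fun s hs t ht =>
    hcl s t ht (mul_mem (mul_mem hs (hTS ht)) (inv_mem hs))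
  -- the subgroup `W`
  have hWR : T ⊓ R ⊔ zpowers x ≤ R := sup_le inf_le_right (zpowers_le.2 h.xR)
  have hxW : x ∈ T ⊓ R ⊔ zpowers x := mem_sup_right (mem_zpowers x)
  have hkW : ∀ w ∈ T ⊓ R ⊔ zpowers x, k * w * k⁻¹ ∈ T ⊓ R ⊔ zpowers x := by
    intro w hw
    have h1 : (T ⊓ R ⊔ zpowers x).map (MulAut.conj k).toMonoidHom ≤ T ⊓ R ⊔ zpowers x := by
      rw [Subgroup.map_sup]
      refine sup_le ?_ ?_
      · rintro _ ⟨t, ht, rfl⟩
        have h2 : k * t * k⁻¹ ∈ R := h.kR t (mem_inf.1 ht).2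
        exact mem_sup_left (mem_inf.2 ⟨hcl k t (mem_inf.1 ht).1 (hRS h2), h2⟩)
      · rintro _ ⟨t, ht, rfl⟩
        refine mem_sup_right ?_
        show k * t * k⁻¹ ∈ zpowers x
        rw [conj_zpowers_of_comm h.kx ht]
        exact ht
    exact h1 ⟨w, hw, rfl⟩
  rcases h.irr hL hxW hWR hkW with hW | hW
  · -- `W = ⟨x⟩`
    exfalso
    have hTR : T ≤ R := by
      intro t ht
      obtain ⟨ρ, hρ, e, he, hte⟩ := exists_mul_of_norm h.ER (hTS ht)
      have hex : e ∈ zpowers x := by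
        apply h.Etriv e he
        intro s hs
        have h1 : t * s * t⁻¹ * s⁻¹ ∈ zpowers x := by
          rw [← hW]
          refine mem_sup_left (mem_inf.2 ⟨?_, mul_mem (h.SR (hTS ht) hs) (inv_mem hs)⟩)
          rw [show t * s * t⁻¹ * s⁻¹ = t * (s * t⁻¹ * s⁻¹) by group]
          exact mul_mem ht (hST s (hRS hs) _ (inv_mem ht))
        -- `e = ρ⁻¹ t`
        have h2 : ρ⁻¹ * s * ρ⁻¹⁻¹ * s⁻¹ ∈ zpowers x := h.comm _ (inv_mem hρ) s hs
        have h3 := mul_mem h1 h2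
        have h4 : ρ⁻¹ * (t * s * t⁻¹ * s⁻¹) * ρ⁻¹⁻¹ = t * s * t⁻¹ * s⁻¹ := conj_zpowers_of_comm (h.Rx _ (inv_mem hρ)) h1
        rw [← h4] at h3
        rwa [show ρ⁻¹ * (t * s * t⁻¹ * s⁻¹) * ρ⁻¹⁻¹ * (ρ⁻¹ * s * ρ⁻¹⁻¹ * s⁻¹) = (ρ⁻¹ * t) * s * (ρ⁻¹ * t)⁻¹ * s⁻¹ by group,
          hte, inv_mul_cancel_left] at h3
      rw [hte]
      exact mul_mem hρ ((zpowers_le.2 h.xR) hex)
    have hTx : T ≤ zpowers x := by
      rw [← hW]
      exact fun t ht => mem_sup_left (mem_inf.2 ⟨ht, hTR ht⟩)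
    have hTe : T = zpowers x := by
      refine Subgroup.eq_of_le_of_card_ge hTx ?_
      rw [card_zx hL]
      have h1 : Nat.card ↥T ∣ 7 := by rw [← card_zx hL]; exact Subgroup.card_dvd_of_le hTx
      rcases (Nat.dvd_prime (by norm_num : Nat.Prime 7)).1 h1 with h2 | h2
      · exact absurd (Subgroup.card_eq_one.1 h2) hT
      · exact h2.ge
    have h1 := hcl g x (by rw [hTe]; exact mem_zpowers x) hgS
    rw [hTe] at h1
    exact hgx h1
  · by_cases hxT : x ∈ T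
    · have hRT : R ≤ T := by
        rw [← hW]
        exact sup_le inf_le_left (zpowers_le.2 hxT)
      refine Subgroup.eq_of_le_of_card_ge hTS ?_
      obtain ⟨n, hn⟩ := IsPGroup.iff_card.1 ((h.SP hL).to_le hTS)
      rw [h.card_S hL, hn]
      refine Nat.pow_le_pow_right (by norm_num) ?_
      by_contra hlt
      have h1 : R = T := by
        refine Subgroup.eq_of_le_of_card_ge hRT ?_
        rw [hn, h.cardR]
        exact Nat.pow_le_pow_right (by norm_num) (by omega)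
      have h2 := hcl g x hxT hgS
      rw [← h1] at h2
      apply hgx
      exact h.fixR _ h2 (mem_Ga.1 (h.EG hgE)).2
    · exfalso
      apply h.not_comm hL h7 hr
      have h1 : ∀ a ∈ T ⊓ R, ∀ b ∈ T ⊓ R, a * b = b * a := by
        intro a ha b hb
        have h2 := h.comm a (mem_inf.1 ha).2 b (mem_inf.1 hb).2
        have h3 : a * b * a⁻¹ * b⁻¹ ∈ T := mul_mem (mul_mem (mul_mem (mem_inf.1 ha).1 (mem_inf.1 hb).1)
          (inv_mem (mem_inf.1 ha).1)) (inv_mem (mem_inf.1 hb).1)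
        have h4 : a * b * a⁻¹ * b⁻¹ = 1 := by
          by_contra hne
          apply hxT
          have h5 : zpowers (a * b * a⁻¹ * b⁻¹) = zpowers x := by
            refine Subgroup.eq_of_le_of_card_ge (zpowers_le.2 h2) ?_
            rw [card_zx hL]
            have h6 : Nat.card ↥(zpowers (a * b * a⁻¹ * b⁻¹)) ∣ 7 := by
              rw [← card_zx hL]; exact Subgroup.card_dvd_of_le (zpowers_le.2 h2)
            rcases (Nat.dvd_prime (by norm_num : Nat.Prime 7)).1 h6 with h8 | h8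
            · rw [Nat.card_zpowers, orderOf_eq_one_iff] at h8
              exact absurd h8 hne
            · exact h8.ge
          exact (zpowers_le.2 h3) (by rw [h5]; exact mem_zpowers x)
        rw [mul_inv_eq_one, mul_inv_eq_iff_eq_mul] at h4
        exact h4
      have h2 := comm_sup h1 (y := x) (fun a ha => h.Rx a (mem_inf.1 ha).2)
      rw [hW] at h2
      exact h2

/-! ### The theorem -/

/-- The hypotheses on `G`. -/
structure Hyp (z : G) : Prop where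
  cases : ∀ e : G, orderOf e = 7 → e * z = z * e → Loc e z ∨ ¬ 7 ^ 5 ∣ Nat.card ↥(centralizer ({e} : Set G))
  ex : ∃ x : G, Loc x z
  h6 : 7 ^ 6 ∣ Nat.card G
  h7 : ¬ 7 ^ 7 ∣ Nat.card G
  sm : ∃ (r : G) (A : Subgroup G), Sm r A

theorem Hyp.exists_loc (h : Hyp z) : ∃ x : G, Loc x z ∧ 7 ^ 3 ∣ Nat.card ↥(centralizer ({x} : Set G)) := by
  have hf7 := prime_seven
  obtain ⟨x, hx⟩ := h.ex
  by_cases h3 : 7 ^ 3 ∣ Nat.card ↥(centralizer ({x} : Set G))
  · exact ⟨x, hx, h3⟩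
  -- a subgroup `E` of order 49 of `Γ`
  obtain ⟨f, v, hf5, hv7, hf, hv, hev⟩ := hx.fv
  have hvx : v ∉ zpowers x := by
    intro h1
    have h2 : f * v * f⁻¹ * v⁻¹ = 1 := by
      rw [conj_zpowers_of_comm (mem_Ga.1 hf).1 h1, mul_inv_cancel]
    rw [h2, orderOf_one] at hev
    exact absurd hev (by decide)
  have hEP : IsPGroup 7 ↥(zpowers x ⊔ zpowers v) := isPGroup_two (mem_Ga.1 hv).1 hx.xP
    (isPGroup_zpowers (k := 1) (by rw [pow_one, hv7]))
  have hEG : zpowers x ⊔ zpowers v ≤ Ga x z := sup_le (zpowers_le.2 hx.xGa) (zpowers_le.2 hv)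
  have hcE : 7 ^ 2 ∣ Nat.card ↥(zpowers x ⊔ zpowers v) :=
    sq_dvd_of_notMem hEP hx.hx (mem_sup_left (mem_zpowers x)) (mem_sup_right (mem_zpowers v)) hvx
  obtain ⟨P, hP⟩ := hEP.exists_le_sylow
  -- a central element of order 7 of `P`
  have hPc : Nat.card ↥(P : Subgroup G) = 7 ^ 6 :=
    card_eq_pow (D := ⊤) le_top P.2 (P.pow_dvd_card_of_pow_dvd_card h.h6) (by rw [Subgroup.card_top]; exact h.h7)
  have hnt : Nontrivial ↥(P : Subgroup G) := by
    rw [← Finite.one_lt_card_iff_nontrivial, hPc]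
    norm_num
  have hcn : Nontrivial ↥(center ↥(P : Subgroup G)) := P.2.center_nontrivial
  have hcd : 7 ∣ Nat.card ↥(center ↥(P : Subgroup G)) := by
    obtain ⟨n, hn⟩ := IsPGroup.iff_card.1 (P.2.to_subgroup (center ↥(P : Subgroup G)))
    have h1 : 1 < Nat.card ↥(center ↥(P : Subgroup G)) := Finite.one_lt_card_iff_nontrivial.2 hcn
    rw [hn] at h1 ⊢
    refine dvd_pow_self 7 ?_
    rintro rfl
    simp at h1
  obtain ⟨c, hc⟩ := exists_prime_orderOf_dvd_card' 7 hcd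
  rw [← Subgroup.orderOf_coe, ← Subgroup.orderOf_coe] at hc
  set y : G := ((c : ↥(P : Subgroup G)) : G) with hy
  have hyP : y ∈ (P : Subgroup G) := (c : ↥(P : Subgroup G)).2
  have hyc : ∀ s ∈ (P : Subgroup G), s * y = y * s := fun s hs =>
    congrArg Subtype.val (mem_center_iff.1 c.2 ⟨s, hs⟩)
  -- `y` is in `E`
  have hxP : x ∈ (P : Subgroup G) := hP (mem_sup_left (mem_zpowers x))
  have h4 : zpowers x ⊔ zpowers v = (P : Subgroup G) ⊓ centralizer ({x} : Set G) := by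
    have hle : zpowers x ⊔ zpowers v ≤ (P : Subgroup G) ⊓ centralizer ({x} : Set G) :=
      le_inf hP (hEG.trans inf_le_left)
    refine Subgroup.eq_of_le_of_card_ge hle ?_
    have hP2 : IsPGroup 7 ↥((P : Subgroup G) ⊓ centralizer ({x} : Set G)) := P.2.to_le inf_le_left
    rw [card_eq_pow (k := 2) (D := centralizer ({x} : Set G)) inf_le_right hP2
      (hcE.trans (Subgroup.card_dvd_of_le hle)) h3]
    exact Nat.le_of_dvd Nat.card_pos hcE
  have hyE : y ∈ zpowers x ⊔ zpowers v := by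
    rw [h4]
    exact mem_inf.2 ⟨hyP, mem_centralizer_singleton_iff.2 (hyc x hxP).symm⟩
  have hcy : 7 ^ 6 ∣ Nat.card ↥(centralizer ({y} : Set G)) := by
    rw [← hPc]
    exact Subgroup.card_dvd_of_le fun s hs => mem_centralizer_singleton_iff.2 (hyc s hs)
  refine ⟨y, (h.cases y hc (mem_Ga.1 (hEG hyE)).2).resolve_right fun h5 => h5 ?_, ?_⟩
  · exact (pow_dvd_pow 7 (by norm_num)).trans hcy
  · exact (pow_dvd_pow 7 (by norm_num)).trans hcy

/-- **`Full 7 G`.** -/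
theorem Hyp.full (h : Hyp z) : Full 7 G := by
  have hf7 := prime_seven
  obtain ⟨x, hL, h3⟩ := h.exists_loc
  obtain ⟨R, E, k, hb⟩ := exists_big_of hL h.h7 h3
  obtain ⟨r, A, hr⟩ := h.sm
  obtain ⟨Q, hQ⟩ := (hb.SP hL).exists_le_sylow
  have hQc : Nat.card ↥(Q : Subgroup G) = 7 ^ 6 :=
    card_eq_pow (D := ⊤) le_top Q.2 (Q.pow_dvd_card_of_pow_dvd_card h.h6) (by rw [Subgroup.card_top]; exact h.h7)
  have hQe : R ⊔ E = (Q : Subgroup G) := Subgroup.eq_of_le_of_card_ge hQ (by rw [hQc, hb.card_S hL])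
  refine H794.PslTwo.Full.of_one Q fun T hT hcl => ?_
  rw [← hQe] at hT hcl ⊢
  exact hb.closed hL h.h7 hr hT hcl

end Cfsg.Agent.H794.MonSevenBig
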