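import Cfsg.Agent.FixBN.HeStab
import Cfsg.Agent.CpAutHe.Cnt
import Cfsg.Agent.H794.MonSevenTop

/-!
# A nonabelian 7-subgroup of the Held group (helper794, words of helper415)
-/

set_option autoImplicit false
set_option maxRecDepth 100000

namespace Cfsg.Agent.H794.MonSevenHe

open Subgroup Cfsg
open Cfsg.Spor.He (Gen)
open Cfsg.Spor.He.Gen
open Cfsg.Agent.SporadicB.HePerm (act wd)
open Cfsg.Agent.FixBN.HeStab Cfsg.Agent.KFacts.He.Lv Cfsg.Agent.CpAutHe.Cnt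
open Cfsg.Agent.H794.MonSevenLoc

/-- A group of Heisenberg type. -/
theorem exists_heis {G : Type*} [Group G] [Finite G] {u v w g h : G} (hu : u ^ 7 = 1) (huv : u * v = w * (v * u))
    (huw : u * w = w * u) (hvw : v * w = w * v) (hw : w ≠ 1) (hg : g * w = u * g) (hh : h * w = v * h) :
    ∃ A : Subgroup G, IsPGroup 7 ↥A ∧ ∃ a ∈ A, ∃ b ∈ A, a * b ≠ b * a := by
  have h7 := prime_seven
  have ew : w = g⁻¹ * u * g := by rw [mul_assoc, ← hg, inv_mul_cancel_left]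
  have ev : v = h * w * h⁻¹ := by rw [hh, mul_inv_cancel_right]
  have hw7 : w ^ 7 = 1 := by
    have h1 := conj_pow (i := 7) (a := g⁻¹) (b := u)
    rw [inv_inv, ← ew, hu] at h1
    rw [h1]; group
  have hv7 : v ^ 7 = 1 := by
    rw [ev, conj_pow, hw7]; group
  have hP : ∀ y : G, y ^ 7 = 1 → IsPGroup 7 ↥(zpowers y) := fun y hy => isPGroup_zpowers (k := 1) (by rw [pow_one, hy])
  have hwv : IsPGroup 7 ↥(zpowers w ⊔ zpowers v) := isPGroup_two hvw (hP w hw7) (hP v hv7)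
  have hn : zpowers u ≤ normalizer ((zpowers w ⊔ zpowers v : Subgroup G) : Set G) := by
    rw [zpowers_le]
    apply Transfer.FusionBasic.mem_normalizer_of_conj_mem
    intro a ha
    have h1 : (zpowers w ⊔ zpowers v).map (MulAut.conj u).toMonoidHom ≤ zpowers w ⊔ zpowers v := by
      rw [Subgroup.map_sup]
      refine sup_le ?_ ?_
      · rw [MonoidHom.map_zpowers, zpowers_le]
        show u * w * u⁻¹ ∈ _
        rw [huw, mul_inv_cancel_right]
        exact mem_sup_left (mem_zpowers w)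
      · rw [MonoidHom.map_zpowers, zpowers_le]
        show u * v * u⁻¹ ∈ _
        rw [huv, ← mul_assoc, mul_inv_cancel_right]
        exact mul_mem (mem_sup_left (mem_zpowers w)) (mem_sup_right (mem_zpowers v))
    exact h1 ⟨a, ha, rfl⟩
  refine ⟨zpowers u ⊔ (zpowers w ⊔ zpowers v), (hP u hu).to_sup_of_normal_right' hwv hn, u,
    mem_sup_left (mem_zpowers u), v, mem_sup_right (mem_sup_right (mem_zpowers v)), fun h1 => hw ?_⟩
  rw [h1] at huv
  have h2 : 1 * (v * u) = w * (v * u) := by rw [one_mul]; exact huv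
  exact (mul_right_cancel h2).symm

theorem exists_of_words {p : ℕ} (U V W Gw Hw : List Gen) (i : Fin 2058) (hp : p = 7)
    (h1 : chkB (pw U p) [] = true) (h2 : chkB (U ++ V) (W ++ (V ++ U)) = true) (h3 : chkB (U ++ W) (W ++ U) = true)
    (h5 : chkB (V ++ W) (W ++ V) = true) (h6 : Nat.beq (act W i) i = false) (h7 : chkB (Gw ++ W) (U ++ Gw) = true)
    (h8 : chkB (Hw ++ W) (V ++ Hw) = true) :
    ∃ A : Subgroup Cfsg.Spor.He, IsPGroup 7 ↥A ∧ ∃ a ∈ A, ∃ b ∈ A, a * b ≠ b * a := by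
  have hfin : Finite Cfsg.Spor.He := finite_he
  have e1 := eq_of_chkB h1
  have e2 := eq_of_chkB h2
  have e3 := eq_of_chkB h3
  have e5 := eq_of_chkB h5
  have e7 := eq_of_chkB h7
  have e8 := eq_of_chkB h8
  rw [wd_pw, wd_nil, hp] at e1
  rw [wd_append, wd_append, wd_append] at e2
  rw [wd_append, wd_append] at e3 e5 e7 e8
  refine exists_heis (u := wd U) (v := wd V) (w := wd W) (g := wd Gw) (h := wd Hw) e1 e2 e3 e5 ?_ e7 e8
  intro he
  rw [act_eq, he, map_one] at h6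
  have h9 : Nat.beq (i : ℕ) (i : ℕ) = true := Nat.beq_refl _
  have h10 : Nat.beq (i : ℕ) (i : ℕ) = false := h6
  rw [h9] at h10
  exact absurd h10 (by decide)

/-- **A nonabelian 7-subgroup of the Held group.** -/
theorem he_seven : ∃ A : Subgroup Cfsg.Spor.He, IsPGroup 7 ↥A ∧ ∃ a ∈ A, ∃ b ∈ A, a * b ≠ b * a := by
  refine exists_of_words (p := 7) [b,d,e,c,b,d,e,c,b,d,e,c]
    [f,d,c,d,c,d,f,b,d,e,c,b,d,e,c,b,d,e,c,f,d,c,d,c,d,f]
    [b,d,e,c,b,d,e,c,b,d,e,c,f,d,c,d,c,d,f,b,d,e,c,b,d,e,c,b,d,e,c,f,d,c,d,c,d,f,c,e,d,b,c,e,d,b,c,e,d,b,f,d,c,d,c,d,f,c,e,d,b,c,e,d,b,c,e,d,b,f,d,c,d,c,d,f]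
    [g,f,d,c,d,e,d,b,c,d,f,b,c,d,c] [b,a,e,d,c,b,g,d,c,d,b,c,d,g,d,b]
    0 rfl ?_ ?_ ?_ ?_ ?_ ?_ ?_
  all_goals decide +kernel

end Cfsg.Agent.H794.MonSevenHe
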